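import Cfsg.Agent.PMinLie.Basic

/-!
The alternating group of degree six: the stabiliser of a pair and the centraliser of a pairing.
-/

set_option autoImplicit false

namespace Cfsg.Agent.PMinLie.AltSix

open Subgroup

/-- The group. -/
abbrev A := ↥(alternatingGroup (Fin 6))

/-- The permutation of an element. -/
abbrev pe (g : A) : Equiv.Perm (Fin 6) := g

/-- The pairing. -/
def pr (i : Fin 6) : Fin 6 := ![1, 0, 3, 2, 5, 4] i

/-- The stabiliser of a pair. -/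
def R₁ : Subgroup A where
  carrier := {g | ∀ i : Fin 6, 4 ≤ (pe g i : ℕ) ↔ 4 ≤ (i : ℕ)}
  one_mem' _ := Iff.rfl
  mul_mem' {a b} ha hb i := (ha (pe b i)).trans (hb i)
  inv_mem' {a} ha i := by
    have h := ha (pe a⁻¹ i)
    rw [show pe a (pe a⁻¹ i) = i from (pe a).apply_symm_apply i] at h
    exact h.symm

/-- The centraliser of the pairing. -/
def R₂ : Subgroup A where
  carrier := {g | ∀ i : Fin 6, pe g (pr i) = pr (pe g i)}
  one_mem' _ := rfl
  mul_mem' {a b} ha hb i := by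
    show pe a (pe b (pr i)) = pr (pe a (pe b i))
    rw [hb i, ha (pe b i)]
  inv_mem' {a} ha i := by
    have h := ha (pe a⁻¹ i)
    rw [show pe a (pe a⁻¹ i) = i from (pe a).apply_symm_apply i] at h
    rw [← h]
    exact (pe a).symm_apply_apply _

/-- Generators of the Sylow subgroup. -/
def ua : A := ⟨Equiv.swap 0 1 * Equiv.swap 2 3, Equiv.Perm.mem_alternatingGroup.2 (by decide +kernel)⟩

/-- See `ua`. -/
def ub : A := ⟨Equiv.swap 0 2 * Equiv.swap 1 3, Equiv.Perm.mem_alternatingGroup.2 (by decide +kernel)⟩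

/-- See `ua`. -/
def uc : A := ⟨Equiv.swap 0 1 * Equiv.swap 4 5, Equiv.Perm.mem_alternatingGroup.2 (by decide +kernel)⟩

/-- A three-cycle. -/
def t₁ : A := ⟨Equiv.swap 0 1 * Equiv.swap 1 2, Equiv.Perm.mem_alternatingGroup.2 (by decide +kernel)⟩

/-- A product of two three-cycles. -/
def t₂ : A := ⟨Equiv.swap 0 2 * Equiv.swap 2 4 * (Equiv.swap 1 3 * Equiv.swap 3 5),
  Equiv.Perm.mem_alternatingGroup.2 (by decide +kernel)⟩

/-- The elements of the Sylow subgroup. -/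
def uL : List A := [1, ua, ub, ua * ub, uc, ua * uc, ub * uc, ua * ub * uc]

theorem gens_keep : ∀ i : Fin 6,
    ((4 ≤ (pe ua i : ℕ) ↔ 4 ≤ (i : ℕ)) ∧ (4 ≤ (pe ub i : ℕ) ↔ 4 ≤ (i : ℕ)) ∧
      (4 ≤ (pe uc i : ℕ) ↔ 4 ≤ (i : ℕ))) ∧
    pe ua (pr i) = pr (pe ua i) ∧ pe ub (pr i) = pr (pe ub i) ∧ pe uc (pr i) = pr (pe uc i) := by
  decide +kernel

theorem uL_le {u : A} (hu : u ∈ uL) : u ∈ R₁ ⊓ R₂ := by
  have ha : ua ∈ R₁ ⊓ R₂ := ⟨fun i => (gens_keep i).1.1, fun i => (gens_keep i).2.1⟩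
  have hb : ub ∈ R₁ ⊓ R₂ := ⟨fun i => (gens_keep i).1.2.1, fun i => (gens_keep i).2.2.1⟩
  have hc : uc ∈ R₁ ⊓ R₂ := ⟨fun i => (gens_keep i).1.2.2, fun i => (gens_keep i).2.2.2⟩
  simp only [uL, List.mem_cons, List.not_mem_nil, or_false] at hu
  rcases hu with rfl | rfl | rfl | rfl | rfl | rfl | rfl | rfl
  exacts [one_mem _, ha, hb, mul_mem ha hb, hc, mul_mem ha hc, mul_mem hb hc, mul_mem (mul_mem ha hb) hc]

theorem uL_nodup : (uL.map fun g => (pe g 0, pe g 4)).Nodup := by decide +kernel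

theorem fix_witness : ∀ x : Fin 6, ∃ u ∈ uL, pe u x = x ∧ ∀ y : Fin 6, pe u y = y → y = x ∨ y = pr x := by
  decide +kernel

theorem uL_to_zero : ∀ j : Fin 6, (j : ℕ) < 4 → ∃ u ∈ uL, pe u j = 0 := by decide +kernel

theorem pick_eq : ∀ a b b' : Fin 6, (a : ℕ) < 4 → (b : ℕ) < 4 → (b' : ℕ) < 4 → b ≠ a → b ≠ pr a → b' ≠ a →
    b' ≠ pr a → ((b : ℕ) % 2 = 0 ↔ (b' : ℕ) % 2 = 0) → b = b' := by decide +kernel

theorem top_fix : ∀ i : Fin 4, pe ([1, ua, ub, ua * ub].get i) 4 = 4 ∧ pe ([1, ua, ub, ua * ub].get i) 5 = 5 := by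
  decide +kernel

theorem top_inj : ∀ i j : Fin 4,
    pe ([1, ua, ub, ua * ub].get i) 0 = pe ([1, ua, ub, ua * ub].get j) 0 → i = j := by decide +kernel

theorem pick_top : ∀ a b : Fin 6, 4 ≤ (a : ℕ) → 4 ≤ (b : ℕ) → (a = 4 ↔ b = 4) → a = b := by decide +kernel

theorem uL_mul : ∀ a ∈ uL, ∀ b ∈ uL, a * b ∈ uL := by decide +kernel

theorem uL_inv : ∀ a ∈ uL, a⁻¹ ∈ uL := by decide +kernel

/-- The Sylow subgroup. -/
def V : Subgroup A where
  carrier := {g | g ∈ uL}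
  one_mem' := by simp [uL]
  mul_mem' {a b} ha hb := uL_mul a ha b hb
  inv_mem' {a} ha := uL_inv a ha

theorem card_V : Nat.card V = 8 := by
  classical
  rw [Nat.card_congr (Equiv.subtypeEquivRight fun g => (List.mem_toFinset (l := uL)).symm :
    V ≃ (uL.toFinset : Finset A)), Nat.card_eq_finsetCard,
    List.toFinset_card_of_nodup (List.Nodup.of_map _ uL_nodup)]
  rfl

theorem card_A : Nat.card A = 360 := by rw [nat_card_alternatingGroup, Nat.card_fin]; decide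

theorem card_U : Nat.card (R₁ ⊓ R₂ : Subgroup A) = 2 ^ 3 := by
  classical
  have hlow : 8 ∣ Nat.card (R₁ ⊓ R₂ : Subgroup A) :=
    card_V ▸ card_dvd_of_le (fun g (hg : g ∈ uL) => uL_le hg)
  have hup : Nat.card (R₁ ⊓ R₂ : Subgroup A) ≤ 16 := by
    let f : (R₁ ⊓ R₂ : Subgroup A) → Fin 4 × Bool × Bool := fun g =>
      (⟨(pe g.1 0 : ℕ) % 4, Nat.mod_lt _ (by norm_num)⟩, decide ((pe g.1 2 : ℕ) % 2 = 0), decide (pe g.1 4 = 4))
    have hf : Function.Injective f := fun g h e => by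
      simp only [f, Prod.mk.injEq, Fin.mk.injEq, decide_eq_decide] at e
      obtain ⟨e0, e2, e4⟩ := e
      have low : ∀ (k : (R₁ ⊓ R₂ : Subgroup A)) (i : Fin 6), (i : ℕ) < 4 → (pe k.1 i : ℕ) < 4 := fun k i hi => by
        have := k.2.1 i
        omega
      have h0 : pe g.1 0 = pe h.1 0 := Fin.ext (by
        have := low g 0 (by norm_num)
        have := low h 0 (by norm_num)
        omega)
      have ne : ∀ k : (R₁ ⊓ R₂ : Subgroup A), pe k.1 2 ≠ pe k.1 0 ∧ pe k.1 2 ≠ pr (pe k.1 0) := fun k =>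
        ⟨fun e => absurd ((pe k.1).injective e) (by decide),
          fun e => absurd ((pe k.1).injective (e.trans (k.2.2 0).symm)) (by decide)⟩
      have h2 : pe g.1 2 = pe h.1 2 := pick_eq (pe g.1 0) _ _ (low g 0 (by norm_num)) (low g 2 (by norm_num))
        (low h 2 (by norm_num)) (ne g).1 (ne g).2 (h0 ▸ (ne h).1) (h0 ▸ (ne h).2) e2
      have h4 : pe g.1 4 = pe h.1 4 := pick_top _ _ ((g.2.1 4).2 (by norm_num)) ((h.2.1 4).2 (by norm_num)) e4
      refine Subtype.ext (Subtype.ext (Equiv.ext fun i => ?_))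
      fin_cases i
      · exact h0
      · exact (g.2.2 0).trans ((congrArg pr h0).trans (h.2.2 0).symm)
      · exact h2
      · exact (g.2.2 2).trans ((congrArg pr h2).trans (h.2.2 2).symm)
      · exact h4
      · exact (g.2.2 4).trans ((congrArg pr h4).trans (h.2.2 4).symm)
    simpa using Nat.card_le_card_of_injective f hf
  have hdvd := card_subgroup_dvd_card (R₁ ⊓ R₂ : Subgroup A)
  rw [card_A] at hdvd
  have hpos : 0 < Nat.card (R₁ ⊓ R₂ : Subgroup A) := Nat.card_pos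
  obtain ⟨d, hd⟩ := hdvd
  obtain ⟨a, ha⟩ := hlow
  rw [ha] at hd hup hpos
  have : a = 1 ∨ a = 2 := by omega
  rcases this with rfl | rfl
  · omega
  · omega

/-- An overgroup of the Sylow subgroup not stabilising the pair moves the last point everywhere. -/
theorem exists_move {M : Subgroup A} (hU : ∀ u ∈ uL, u ∈ M) (h1 : ¬ M ≤ R₁) (x : Fin 6) :
    ∃ h ∈ M, pe h 4 = x := by
  have hc : uc ∈ M := hU _ (by simp [uL])
  obtain ⟨h₀, hh₀, hy⟩ : ∃ h ∈ M, (pe h 4 : ℕ) < 4 := by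
    obtain ⟨g, hg, hg1⟩ := SetLike.not_le_iff_exists.1 h1
    obtain ⟨i, hi⟩ : ∃ i : Fin 6, ¬ (4 ≤ (pe g i : ℕ) ↔ 4 ≤ (i : ℕ)) := not_forall.1 hg1
    have step : ∀ a ∈ M, ∀ j : Fin 6, 4 ≤ (j : ℕ) → (pe a j : ℕ) < 4 → ∃ h ∈ M, (pe h 4 : ℕ) < 4 := by
      intro a ha j hj hlt
      by_cases hj4 : j = 4
      · exact ⟨a, ha, hj4 ▸ hlt⟩
      · have hj5 : pe uc 4 = j := by
          have : j = 5 := Fin.ext (by have := j.2; have : (j : ℕ) ≠ 4 := fun e => hj4 (Fin.ext e); omega)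
          rw [this]
          decide +kernel
        exact ⟨a * uc, M.mul_mem ha hc, by show (pe a (pe uc 4) : ℕ) < 4; rw [hj5]; exact hlt⟩
    by_cases hi4 : 4 ≤ (i : ℕ)
    · exact step g hg i hi4 (by omega)
    · refine step g⁻¹ (M.inv_mem hg) (pe g i) (by omega) ?_
      rw [show pe g⁻¹ (pe g i) = i from (pe g).symm_apply_apply i]
      omega
  by_cases hx : (x : ℕ) < 4
  · obtain ⟨u, hu, e⟩ := uL_to_zero _ hy
    obtain ⟨v, hv, e'⟩ := uL_to_zero x hx
    refine ⟨v⁻¹ * (u * h₀), M.mul_mem (M.inv_mem (hU v hv)) (M.mul_mem (hU u hu) hh₀), ?_⟩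
    show (pe v).symm (pe u (pe h₀ 4)) = x
    rw [e, ← e', Equiv.symm_apply_apply]
  · by_cases hx4 : x = 4
    · exact ⟨1, M.one_mem, hx4.symm⟩
    · refine ⟨uc, hc, ?_⟩
      have : x = 5 := Fin.ext (by have := x.2; have : (x : ℕ) ≠ 4 := fun e => hx4 (Fin.ext e); omega)
      rw [this]
      decide +kernel

/-- The overgroups. -/
theorem overgroup {M : Subgroup A} (hM : R₁ ⊓ R₂ ≤ M) (htop : M ≠ ⊤) (h1 : ¬ M ≤ R₁) : M ≤ R₂ := by
  classical
  have hU : ∀ u ∈ uL, u ∈ M := fun u hu => hM (uL_le hu)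
  letI : MulAction M (Fin 6) := MulAction.compHom (Fin 6) ((alternatingGroup (Fin 6)).subtype.comp M.subtype)
  have hsm : ∀ (h : M) (i : Fin 6), h • i = pe h.1 i := fun _ _ => rfl
  have : MulAction.IsPretransitive M (Fin 6) := ⟨fun a b => by
    obtain ⟨h, hh, e⟩ := exists_move hU h1 a
    obtain ⟨k, hk, e'⟩ := exists_move hU h1 b
    refine ⟨⟨k * h⁻¹, M.mul_mem hk (M.inv_mem hh)⟩, ?_⟩
    rw [hsm]
    show pe k ((pe h).symm a) = b
    rw [← e, Equiv.symm_apply_apply, e']⟩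
  set S := MulAction.stabilizer M (4 : Fin 6) with hS
  have hidx : S.index = 6 := by rw [MulAction.index_stabilizer_of_transitive, Nat.card_fin]
  have hS4 : Nat.card S = 4 := by
    have hs : IsSimpleGroup A := alternatingGroup.isSimpleGroup (by simp)
    have h8 : 2 ^ 3 ∣ Nat.card M := card_U ▸ card_dvd_of_le hM
    have h6 : 6 ∣ Nat.card M := by
      rw [← S.card_mul_index, hidx]
      exact dvd_mul_left _ _
    obtain ⟨c, hc⟩ : 24 ∣ Nat.card M := by
      obtain ⟨a, ha⟩ := h8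
      omega
    have hi := M.card_mul_index
    rw [card_A, hc] at hi
    have hdiv : M.index ∈ Nat.divisors 15 := Nat.mem_divisors.2 ⟨⟨c, by nlinarith⟩, by norm_num⟩
    rw [show Nat.divisors 15 = {1, 3, 5, 15} by decide] at hdiv
    simp only [Finset.mem_insert, Finset.mem_singleton] at hdiv
    have hf := dvd_index_factorial hs htop
    rw [card_A] at hf
    have h15 : M.index = 15 := by
      rcases hdiv with h | h | h | h
      · exact absurd (index_eq_one.1 h) htop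
      · rw [h] at hf; exact absurd hf (by norm_num [Nat.factorial])
      · rw [h] at hf; exact absurd hf (by norm_num [Nat.factorial])
      · exact h
    have := S.card_mul_index
    rw [hidx, hc] at this
    rw [h15] at hi
    omega
  have hfix5 : ∀ h ∈ M, pe h 4 = 4 → pe h 5 = 5 := by
    let f : Fin 4 → S := fun i => ⟨⟨[1, ua, ub, ua * ub].get i, hU _ (by fin_cases i <;> simp [uL])⟩, by
      rw [hS, MulAction.mem_stabilizer_iff, hsm]; exact (top_fix i).1⟩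
    have hf : Function.Injective f := fun i j h =>
      top_inj i j (congrArg (fun g : S => pe g.1.1 0) h)
    have hbij := (Nat.bijective_iff_injective_and_card f).2 ⟨hf, by rw [hS4, Nat.card_fin]⟩
    intro h hh h4
    obtain ⟨i, hi⟩ := hbij.2 ⟨⟨h, hh⟩, by rw [hS, MulAction.mem_stabilizer_iff, hsm]; exact h4⟩
    rw [show pe h = pe (f i).1.1 by rw [hi]]
    exact (top_fix i).2
  have key : ∀ h ∈ M, pe h 5 = pr (pe h 4) := by
    intro h hh
    obtain ⟨u, hu, hux, hfix⟩ := fix_witness (pe h 4)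
    have h4 : pe (h⁻¹ * u * h) 4 = 4 := by
      show (pe h).symm (pe u (pe h 4)) = 4
      rw [hux, Equiv.symm_apply_apply]
    have h5 := hfix5 _ (M.mul_mem (M.mul_mem (M.inv_mem hh) (hU u hu)) hh) h4
    have h5' : pe u (pe h 5) = pe h 5 := by
      have := congrArg (pe h) h5
      rwa [show pe h (pe (h⁻¹ * u * h) 5) = pe u (pe h 5) from (pe h).apply_symm_apply _] at this
    exact (hfix _ h5').resolve_left fun e => absurd ((pe h).injective e) (by decide)
  intro g hg x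
  obtain ⟨h, hh, e⟩ := exists_move hU h1 x
  rw [← e, ← key h hh]
  exact key (g * h) (M.mul_mem hg hh)

theorem duo_A6 [Fact (Nat.Prime 2)] : Duo 2 A := by
  have hs : IsSimpleGroup A := alternatingGroup.isSimpleGroup (by simp)
  have hidx : ¬ 2 ∣ (R₁ ⊓ R₂ : Subgroup A).index := by
    have h := Subgroup.card_mul_index (R₁ ⊓ R₂ : Subgroup A)
    rw [card_U, card_A] at h
    omega
  have a1 : t₁ ∈ R₁ := show ∀ i : Fin 6, 4 ≤ (pe t₁ i : ℕ) ↔ 4 ≤ (i : ℕ) by decide +kernel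
  have a2 : t₁ ∉ R₂ := show ¬ ∀ i : Fin 6, pe t₁ (pr i) = pr (pe t₁ i) by decide +kernel
  have b1 : t₂ ∉ R₁ := show ¬ ∀ i : Fin 6, (4 ≤ (pe t₂ i : ℕ) ↔ 4 ≤ (i : ℕ)) by decide +kernel
  have b2 : t₂ ∈ R₂ := show ∀ i : Fin 6, pe t₂ (pr i) = pr (pe t₂ i) by decide +kernel
  have hne : (R₁ ⊓ R₂ : Subgroup A) ≠ ⊥ := fun h => by
    have := card_U
    rw [h, card_bot] at this
    norm_num at this
  have t1 : R₁ ≠ ⊤ := fun h => b1 (h ▸ mem_top _)
  refine duo_of_one ((IsPGroup.of_card card_U).toSylow hidx) (R₁ := R₁) (R₂ := R₂)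
    (show DuoAt (R₁ ⊓ R₂) R₁ R₂ from ⟨normalizer_ne_top hne inf_le_left t1, inf_le_left, inf_le_right, t1,
      fun h => a2 (h ▸ mem_top _), fun h => a2 (h a1), fun h => b1 (h b2), le_normalizer, fun M hM => ?_⟩)
  by_cases htop : M = ⊤
  · exact Or.inl htop
  by_cases h1 : M ≤ R₁
  · exact Or.inr (Or.inl h1)
  · exact Or.inr (Or.inr (overgroup hM htop h1))

end Cfsg.Agent.PMinLie.AltSix
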