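import Cfsg.Agent.PMinLie.Basic
import Cfsg.Agent.TitsLemma.BN

/-!
Groups with a split (B,N)-pair: pairs of invariant parabolic subgroups, and rank one.
-/

set_option autoImplicit false

namespace Cfsg.Agent.PMinLie

open Subgroup Cfsg.Agent.BN Cfsg.Agent.TitsLemma

universe u

variable {G : Type u} [Group G] [IsSimpleGroup G] {P : Cfsg.BNPair G} {p : ℕ} {U : Subgroup G}

theorem parabolic_ne_top {J : Set G} (hJ : J ⊆ P.S) {s : G} (hs : s ∈ P.S) (hsJ : s ∉ J) :
    P.parabolic J ≠ ⊤ := fun h => hsJ (mem_of_mem_parabolic hJ hs (h ▸ mem_top s))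

/-- A set of generators mapped into itself gives an invariant parabolic subgroup. -/
theorem map_parabolic_eq [Finite G] {J : Set G} {θ : MulAut G} (hB : ∀ b ∈ P.B, θ b ∈ P.B)
    (hJ : ∀ s ∈ J, θ s ∈ P.parabolic J) : (P.parabolic J).map θ.toMonoidHom = P.parabolic J := by
  refine eq_of_le_of_card_ge ?_ (card_map_of_injective θ.injective).ge
  refine map_le_iff_le_comap.2 (sup_le (fun b hb => ?_) ((closure_le _).2 fun s hs => ?_))
  · exact B_le_parabolic _ (hB b hb)
  · exact hJ s hs

/-- Complementary sets of generators invariant under the automorphisms fixing `U`. -/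
theorem pairAt_bn [Finite G] (hS : Split P U) (hU : U ≠ ⊥) {A : Set G} (hA : A ⊆ P.S)
    (hA1 : A.Nonempty) (hA2 : (P.S \ A).Nonempty)
    (hinv : ∀ α : MulAut G, Fixing p U α → (P.parabolic A).map α.toMonoidHom = P.parabolic A ∧
      (P.parabolic (P.S \ A)).map α.toMonoidHom = P.parabolic (P.S \ A)) :
    PairAt p U (P.parabolic A) (P.parabolic (P.S \ A)) := by
  obtain ⟨s, hs⟩ := hA1
  obtain ⟨t, ht⟩ := hA2
  have t1 : P.parabolic A ≠ ⊤ := parabolic_ne_top hA ht.1 ht.2
  refine ⟨normalizer_ne_top hU (hS.le.trans (B_le_parabolic _)) t1, hS.le.trans (B_le_parabolic _),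
    hS.le.trans (B_le_parabolic _), t1, parabolic_ne_top Set.sdiff_subset (hA hs) (fun h => h.2 hs),
    top_unique ?_, hinv⟩
  rw [← parabolic_S]
  refine sup_le ((B_le_parabolic _).trans le_sup_left) ((closure_le _).2 fun x hx => ?_)
  by_cases hxA : x ∈ A
  · exact mem_sup_left (closure_le_parabolic _ (subset_closure hxA))
  · exact mem_sup_right (closure_le_parabolic _ (subset_closure ⟨hx, hxA⟩))

/-- A group of rank one: the normaliser is the only maximal overgroup. -/
theorem soloAt_bn (hS : Split P U) (hU : U ≠ ⊥) {s : G} (hs : P.S = {s}) : SoloAt U := by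
  have hne : P.parabolic ∅ ≠ ⊤ := parabolic_ne_top (Set.empty_subset _) (hs ▸ Set.mem_singleton s) (by simp)
  refine ⟨normalizer_ne_top hU (hS.le.trans (B_le_parabolic _)) hne, fun M hM => ?_⟩
  by_cases h : meets P M = P.S
  · refine Or.inl (top_unique ?_)
    rw [← (IsSimpleGroup.eq_bot_or_eq_top_of_normal (normalClosure (U : Set G))
      normalClosure_normal).resolve_left (fun h => hU (eq_bot_iff.2 fun x hx =>
        h ▸ subset_normalClosure hx))]
    exact hS.normalClosure_le hM h
  · have he : meets P M = ∅ := by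
      rcases Set.subset_singleton_iff_eq.1 (hs ▸ meets_subset M) with h' | h'
      · exact h'
      · exact absurd (h'.trans hs.symm) h
    refine Or.inr ((hS.le_parabolic hM).trans ?_)
    rw [he]
    exact sup_le hS.normal (by simp)

end Cfsg.Agent.PMinLie

namespace Cfsg.Agent.PMinLie

open Subgroup Cfsg.Agent.BN Cfsg.Agent.TitsLemma

universe v

/-- All the minimal parabolic subgroups invariant. -/
theorem pair_bn {G : Type v} [Group G] [Finite G] [IsSimpleGroup G] {P : Cfsg.BNPair G} {p : ℕ}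
    [Fact p.Prime] (Q : Sylow p G) (hS : Split P (Q : Subgroup G)) (hQ : (Q : Subgroup G) ≠ ⊥)
    {s t : G} (hs : s ∈ P.S) (ht : t ∈ P.S) (hst : t ≠ s)
    (hinv : ∀ α : MulAut G, Fixing p (Q : Subgroup G) α →
      (∀ b ∈ P.B, α b ∈ P.B) ∧ ∀ r ∈ P.S, α r ∈ P.parabolic {r}) : Pair p G := by
  refine pair_of_one Q (pairAt_bn hS hQ (A := {s}) (Set.singleton_subset_iff.2 hs)
    (Set.singleton_nonempty s) ⟨t, ht, hst⟩ fun α hα => ?_)
  obtain ⟨hB, hr⟩ := hinv α hα
  have key : ∀ J ⊆ P.S, (P.parabolic J).map α.toMonoidHom = P.parabolic J := fun J hJ =>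
    map_parabolic_eq hB fun r hrJ => sup_le_sup le_rfl (closure_mono (Set.singleton_subset_iff.2 hrJ))
      (hr r (hJ hrJ))
  exact ⟨key _ (Set.singleton_subset_iff.2 hs), key _ Set.sdiff_subset⟩

/-- An automorphism split as a conjugation and a normalised one: the inner part normalises. -/
theorem conj_mem_of_fixing {G : Type v} [Group G] {p : ℕ} {U : Subgroup G} {α θ : MulAut G} {x : G}
    (hα : Fixing p U α) (hθ : ∀ y, α y = x * θ y * x⁻¹) (hN : U.map θ.toMonoidHom = U)
    {u : G} (hu : u ∈ U) : x * u * x⁻¹ ∈ U := by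
  rw [← hN] at hu
  obtain ⟨v, hv, rfl⟩ := hu
  exact hα.2.le ⟨v, hv, hθ v⟩

end Cfsg.Agent.PMinLie
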