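import Cfsg.Prelude.Def_LocalEven
import Mathlib

/-!
`p`-minimal groups over a normal subgroup `K`: the overgroups of a Sylow `p`-subgroup `U` of `K` invariant
under the `p`-automorphisms fixing `U`.
-/

set_option autoImplicit false

namespace Cfsg.Agent.PMinLie

open Subgroup
open scoped Pointwise

universe u v

variable {p : ℕ} {K : Type u} [Group K] {K' : Type v} [Group K']

/-- The only maximal overgroup of a Sylow subgroup is its normaliser. -/
def SoloAt (U : Subgroup K) : Prop :=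
  normalizer (U : Set K) ≠ ⊤ ∧ ∀ M : Subgroup K, U ≤ M → M = ⊤ ∨ M ≤ normalizer (U : Set K)

/-- Exactly two maximal overgroups, meeting in the normaliser. -/
def DuoAt (U R₁ R₂ : Subgroup K) : Prop :=
  normalizer (U : Set K) ≠ ⊤ ∧ U ≤ R₁ ∧ U ≤ R₂ ∧ R₁ ≠ ⊤ ∧ R₂ ≠ ⊤ ∧ ¬ R₁ ≤ R₂ ∧ ¬ R₂ ≤ R₁ ∧
    R₁ ⊓ R₂ ≤ normalizer (U : Set K) ∧ ∀ M : Subgroup K, U ≤ M → M = ⊤ ∨ M ≤ R₁ ∨ M ≤ R₂

/-- An automorphism of order a power of `p` fixing `U`. -/
def Fixing (p : ℕ) (U : Subgroup K) (α : MulAut K) : Prop :=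
  (∃ k : ℕ, α ^ p ^ k = 1) ∧ U.map α.toMonoidHom = U

/-- Two proper overgroups generating the group and invariant under the automorphisms fixing `U`. -/
def PairAt (p : ℕ) (U R₁ R₂ : Subgroup K) : Prop :=
  normalizer (U : Set K) ≠ ⊤ ∧ U ≤ R₁ ∧ U ≤ R₂ ∧ R₁ ≠ ⊤ ∧ R₂ ≠ ⊤ ∧ R₁ ⊔ R₂ = ⊤ ∧
    ∀ α : MulAut K, Fixing p U α → R₁.map α.toMonoidHom = R₁ ∧ R₂.map α.toMonoidHom = R₂

/-- The predicates for one, hence all, Sylow subgroups. -/
def Solo (p : ℕ) (K : Type u) [Group K] : Prop := ∀ U : Sylow p K, SoloAt (U : Subgroup K)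

/-- See `DuoAt`. -/
def Duo (p : ℕ) (K : Type u) [Group K] : Prop :=
  ∀ U : Sylow p K, ∃ R₁ R₂, DuoAt (U : Subgroup K) R₁ R₂

/-- See `PairAt`. -/
def Pair (p : ℕ) (K : Type u) [Group K] : Prop :=
  ∀ U : Sylow p K, ∃ R₁ R₂, PairAt p (U : Subgroup K) R₁ R₂

/-- A simple group acts faithfully on the cosets of a proper subgroup. -/
theorem dvd_index_factorial [Finite K] (hK : IsSimpleGroup K) {M : Subgroup K} (hM : M ≠ ⊤) :
    Nat.card K ∣ M.index.factorial := by
  classical
  have hinj : Function.Injective (MulAction.toPermHom K (K ⧸ M)) := by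
    rw [← MonoidHom.ker_eq_bot_iff, ← normalCore_eq_ker]
    exact (hK.eq_bot_or_eq_top_of_normal _ (normalCore_normal M)).resolve_right fun h =>
      hM (top_unique (h ▸ normalCore_le M))
  have := card_dvd_of_injective _ hinj
  rwa [Nat.card_perm, show Nat.card (K ⧸ M) = M.index from rfl] at this

section Transport

variable (e : K ≃* K')

theorem map_ne_top {R : Subgroup K} (h : R ≠ ⊤) : R.map e.toMonoidHom ≠ ⊤ := fun hh =>
  h (map_injective (f := e.toMonoidHom) e.injective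
    (hh.trans (map_top_of_surjective _ e.surjective).symm))

theorem map_normalizer (U : Subgroup K) :
    (normalizer (U : Set K)).map e.toMonoidHom = normalizer (U.map e.toMonoidHom : Set K') :=
  map_equiv_normalizer_eq U e

theorem map_le_map {A B : Subgroup K} : A.map e.toMonoidHom ≤ B.map e.toMonoidHom ↔ A ≤ B :=
  map_le_map_iff_of_injective e.injective

theorem exists_eq_map (M : Subgroup K') : ∃ M₀ : Subgroup K, M₀.map e.toMonoidHom = M :=
  ⟨M.comap e.toMonoidHom, map_comap_eq_self_of_surjective e.surjective M⟩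

theorem SoloAt.map {U : Subgroup K} (h : SoloAt U) : SoloAt (U.map e.toMonoidHom) := by
  refine ⟨by rw [← map_normalizer]; exact map_ne_top e h.1, fun M hM => ?_⟩
  obtain ⟨M₀, rfl⟩ := exists_eq_map e M
  rw [← map_normalizer, map_le_map]
  exact (h.2 M₀ ((map_le_map e).1 hM)).imp_left fun h => by
    rw [h, map_top_of_surjective _ e.surjective]

theorem DuoAt.map {U R₁ R₂ : Subgroup K} (h : DuoAt U R₁ R₂) :
    DuoAt (U.map e.toMonoidHom) (R₁.map e.toMonoidHom) (R₂.map e.toMonoidHom) := by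
  obtain ⟨hn, h1, h2, t1, t2, n12, n21, hinf, hall⟩ := h
  refine ⟨by rw [← map_normalizer]; exact map_ne_top e hn, map_mono h1, map_mono h2, map_ne_top e t1,
    map_ne_top e t2, fun h => n12 ((map_le_map e).1 h), fun h => n21 ((map_le_map e).1 h), ?_, fun M hM => ?_⟩
  · rw [← map_normalizer, ← map_inf _ _ _ e.injective]
    exact map_mono hinf
  · obtain ⟨M₀, rfl⟩ := exists_eq_map e M
    rw [map_le_map, map_le_map]
    exact (hall M₀ ((map_le_map e).1 hM)).imp_left fun h => by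
      rw [h, map_top_of_surjective _ e.surjective]

/-- The pull-back of an automorphism. -/
def pullAut (α : MulAut K') : MulAut K := (e.trans α).trans e.symm

theorem pullAut_pow (α : MulAut K') : ∀ (n : ℕ) (x : K), e ((pullAut e α ^ n) x) = (α ^ n) (e x)
  | 0, x => by simp
  | n + 1, x => by
    rw [pow_succ', pow_succ', MulAut.mul_apply, MulAut.mul_apply, ← pullAut_pow α n x]
    simp [pullAut]

theorem Fixing.pull {U : Subgroup K} {α : MulAut K'} (h : Fixing p (U.map e.toMonoidHom) α) :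
    Fixing p U (pullAut e α) := by
  obtain ⟨⟨k, hk⟩, hU⟩ := h
  refine ⟨⟨k, MulEquiv.ext fun x => e.injective ?_⟩, map_injective (f := e.toMonoidHom) e.injective ?_⟩
  · rw [pullAut_pow, hk, MulAut.one_apply, MulAut.one_apply]
  · conv_rhs => rw [← hU]
    rw [map_map, map_map]
    congr 1
    ext x
    simp [pullAut]

theorem PairAt.map {U R₁ R₂ : Subgroup K} (h : PairAt p U R₁ R₂) :
    PairAt p (U.map e.toMonoidHom) (R₁.map e.toMonoidHom) (R₂.map e.toMonoidHom) := by
  obtain ⟨hn, h1, h2, t1, t2, hj, hinv⟩ := h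
  refine ⟨by rw [← map_normalizer]; exact map_ne_top e hn, map_mono h1, map_mono h2, map_ne_top e t1, map_ne_top e t2,
    by rw [← Subgroup.map_sup, hj, map_top_of_surjective _ e.surjective], fun α hα => ?_⟩
  have key : ∀ R : Subgroup K, R.map (pullAut e α).toMonoidHom = R →
      (R.map e.toMonoidHom).map α.toMonoidHom = R.map e.toMonoidHom := fun R hR => by
    conv_rhs => rw [← hR]
    rw [map_map, map_map]
    congr 1
    ext x
    simp [pullAut]
  exact ⟨key _ (hinv _ hα.pull).1, key _ (hinv _ hα.pull).2⟩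

end Transport

section One

variable [Finite K] [Fact p.Prime]

theorem exists_conj (U V : Sylow p K) :
    ∃ g : K, (U : Subgroup K).map (MulAut.conj g).toMonoidHom = (V : Subgroup K) := by
  obtain ⟨g, hg⟩ := MulAction.exists_smul_eq K U V
  exact ⟨g, by rw [← hg, Sylow.coe_subgroup_smul]; rfl⟩

theorem solo_of_one (U : Sylow p K) (h : SoloAt (U : Subgroup K)) : Solo p K := fun V => by
  obtain ⟨g, hg⟩ := exists_conj U V
  exact hg ▸ h.map (MulAut.conj g)

theorem duo_of_one (U : Sylow p K) {R₁ R₂ : Subgroup K} (h : DuoAt (U : Subgroup K) R₁ R₂) :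
    Duo p K := fun V => by
  obtain ⟨g, hg⟩ := exists_conj U V
  exact ⟨_, _, hg ▸ h.map (MulAut.conj g)⟩

theorem pair_of_one (U : Sylow p K) {R₁ R₂ : Subgroup K} (h : PairAt p (U : Subgroup K) R₁ R₂) :
    Pair p K := fun V => by
  obtain ⟨g, hg⟩ := exists_conj U V
  exact ⟨_, _, hg ▸ h.map (MulAut.conj g)⟩

end One

/-- The Sylow subgroup corresponding under an isomorphism. -/
theorem exists_sylow_map (e : K ≃* K') [Finite K] [Fact p.Prime] (U : Sylow p K') :
    ∃ U₀ : Sylow p K, (U₀ : Subgroup K).map e.toMonoidHom = (U : Subgroup K') := by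
  refine ⟨U.comapOfInjective e.toMonoidHom e.injective fun x _ => ⟨e.symm x, e.apply_symm_apply x⟩, ?_⟩
  exact map_comap_eq_self_of_surjective (f := e.toMonoidHom) e.surjective _

theorem solo_of_mulEquiv [Finite K] [Fact p.Prime] (e : K ≃* K') (h : Solo p K) : Solo p K' := fun U => by
  obtain ⟨U₀, hU⟩ := exists_sylow_map e U
  exact hU ▸ (h U₀).map e

theorem duo_of_mulEquiv [Finite K] [Fact p.Prime] (e : K ≃* K') (h : Duo p K) : Duo p K' := fun U => by
  obtain ⟨U₀, hU⟩ := exists_sylow_map e U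
  obtain ⟨R₁, R₂, hR⟩ := h U₀
  exact ⟨_, _, hU ▸ hR.map e⟩

theorem pair_of_mulEquiv [Finite K] [Fact p.Prime] (e : K ≃* K') (h : Pair p K) : Pair p K' := fun U => by
  obtain ⟨U₀, hU⟩ := exists_sylow_map e U
  obtain ⟨R₁, R₂, hR⟩ := h U₀
  exact ⟨_, _, hU ▸ hR.map e⟩

/-! ### Automorphisms permuting two subgroups -/

/-- An automorphism exchanging or fixing two subgroups, and of order an odd number, fixes them. -/
theorem fixed_of_odd {R₁ R₂ : Subgroup K} {α : MulAut K} {n : ℕ} (hn : Odd n) (h : α ^ n = 1)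
    (hswap : (R₁.map α.toMonoidHom = R₁ ∧ R₂.map α.toMonoidHom = R₂) ∨
      (R₁.map α.toMonoidHom = R₂ ∧ R₂.map α.toMonoidHom = R₁)) :
    R₁.map α.toMonoidHom = R₁ ∧ R₂.map α.toMonoidHom = R₂ := by
  rcases hswap with h' | ⟨e1, e2⟩
  · exact h'
  have hev : ∀ k : ℕ, R₁.map (α ^ (2 * k)).toMonoidHom = R₁ := by
    intro k
    induction k with
    | zero => exact Subgroup.map_id R₁
    | succ k ih =>
      rw [mul_add, mul_one, pow_add, show (α ^ (2 * k) * α ^ 2).toMonoidHom =
        (α ^ (2 * k)).toMonoidHom.comp (α.toMonoidHom.comp α.toMonoidHom) by rw [pow_two]; rfl,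
        ← map_map, ← map_map, e1, e2, ih]
  obtain ⟨k, rfl⟩ := hn
  have h1 : R₂.map (α ^ (2 * k)).toMonoidHom = R₁ := by
    conv_lhs => rw [← e1]
    rw [map_map, show (α ^ (2 * k)).toMonoidHom.comp α.toMonoidHom = (α ^ (2 * k + 1)).toMonoidHom by
      rw [pow_succ]; rfl, h]
    exact Subgroup.map_id R₁
  have h2 : R₁.map (α ^ (2 * k)).toMonoidHom = R₁ := hev k
  have : R₁ = R₂ := map_injective (f := (α ^ (2 * k)).toMonoidHom) (α ^ (2 * k)).injective (h2.trans h1.symm)
  exact ⟨e1.trans this.symm, e2.trans this⟩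

theorem DuoAt.perm {U R₁ R₂ : Subgroup K} (h : DuoAt U R₁ R₂) {α : MulAut K}
    (hU : U.map α.toMonoidHom = U) :
    (R₁.map α.toMonoidHom = R₁ ∧ R₂.map α.toMonoidHom = R₂) ∨
      (R₁.map α.toMonoidHom = R₂ ∧ R₂.map α.toMonoidHom = R₁) := by
  obtain ⟨-, h1, h2, t1, t2, n12, n21, -, hall⟩ := h
  have coat : ∀ R, (R = R₁ ∨ R = R₂) → ∀ M, R ≤ M → M ≠ ⊤ → M = R := by
    intro R hR M hRM hM
    rcases (hall M ((by rcases hR with rfl | rfl <;> assumption : U ≤ R).trans hRM)).resolve_left hM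
      with h | h <;> rcases hR with rfl | rfl
    · exact le_antisymm h hRM
    · exact absurd (hRM.trans h) n21
    · exact absurd (hRM.trans h) n12
    · exact le_antisymm h hRM
  have hmem : ∀ R, (R = R₁ ∨ R = R₂) → R.map α.toMonoidHom = R₁ ∨ R.map α.toMonoidHom = R₂ := by
    intro R hR
    have hUR : U ≤ R := by rcases hR with rfl | rfl <;> assumption
    have hne : R.map α.toMonoidHom ≠ ⊤ := map_ne_top α (by rcases hR with rfl | rfl <;> assumption)
    have aux : ∀ Ri, (Ri = R₁ ∨ Ri = R₂) → R.map α.toMonoidHom ≤ Ri → R.map α.toMonoidHom = Ri := by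
      intro Ri hRi hle
      obtain ⟨N, hN⟩ := exists_eq_map α Ri
      have hNe : N ≠ ⊤ := fun e => (show Ri ≠ ⊤ by rcases hRi with rfl | rfl <;> assumption)
        (by rw [← hN, e, map_top_of_surjective _ α.surjective])
      rw [← hN, coat R hR N ((map_le_map α).1 (hN ▸ hle)) hNe]
    rcases (hall _ (hU ▸ map_mono hUR)).resolve_left hne with h | h
    · exact Or.inl (aux _ (Or.inl rfl) h)
    · exact Or.inr (aux _ (Or.inr rfl) h)
  have hne : R₁.map α.toMonoidHom ≠ R₂.map α.toMonoidHom := fun e =>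
    n12 (map_injective (f := α.toMonoidHom) α.injective e).le
  rcases hmem R₁ (Or.inl rfl) with a | a <;> rcases hmem R₂ (Or.inr rfl) with b | b
  · exact absurd (a.trans b.symm) hne
  · exact Or.inl ⟨a, b⟩
  · exact Or.inr ⟨a, b⟩
  · exact absurd (a.trans b.symm) hne

theorem DuoAt.sup_eq_top {U R₁ R₂ : Subgroup K} (h : DuoAt U R₁ R₂) : R₁ ⊔ R₂ = ⊤ := by
  obtain ⟨-, h1, -, -, -, n12, n21, -, hall⟩ := h
  rcases hall (R₁ ⊔ R₂) (h1.trans le_sup_left) with h | h | h
  · exact h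
  · exact absurd (le_sup_right.trans h) n21
  · exact absurd (le_sup_left.trans h) n12

/-- A pair of maximal overgroups is a pair of invariant ones for odd primes or different orders. -/
theorem DuoAt.pairAt [hp : Fact p.Prime] {U R₁ R₂ : Subgroup K} (h : DuoAt U R₁ R₂)
    (hne : p ≠ 2 ∨ Nat.card R₁ ≠ Nat.card R₂) : PairAt p U R₁ R₂ := by
  refine ⟨h.1, h.2.1, h.2.2.1, h.2.2.2.1, h.2.2.2.2.1, h.sup_eq_top, fun α ⟨⟨k, hk⟩, hU⟩ => ?_⟩
  rcases h.perm hU with h' | ⟨e1, e2⟩
  · exact h'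
  rcases hne with hne | hne
  · exact fixed_of_odd ((hp.out.odd_of_ne_two hne).pow) hk (Or.inr ⟨e1, e2⟩)
  · exact absurd (by rw [← e1, card_map_of_injective α.injective]) hne

theorem pair_of_duo [Fact p.Prime] (hp2 : p ≠ 2) (h : Duo p K) : Pair p K := fun U => by
  obtain ⟨R₁, R₂, hR⟩ := h U
  exact ⟨R₁, R₂, hR.pairAt (Or.inl hp2)⟩

theorem normalizer_ne_top [hS : IsSimpleGroup K] {U R : Subgroup K} (hU : U ≠ ⊥) (hUR : U ≤ R)
    (hR : R ≠ ⊤) : normalizer (U : Set K) ≠ ⊤ := fun h => by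
  rcases hS.eq_bot_or_eq_top_of_normal U (normalizer_eq_top_iff.1 h) with h' | h'
  · exact hU h'
  · exact hR (top_unique (h' ▸ hUR))

/-! ### The main reduction -/

section Main

variable {X : Type u} [Group X] [Finite X] [hp : Fact p.Prime] (N : Subgroup X) [N.Normal]
  (U : Sylow p N)

/-- Some Sylow subgroup of the group normalises `U`. -/
theorem exists_sylow_normalizing :
    ∃ T : Sylow p X,
      (T : Subgroup X) ≤ normalizer (((U : Subgroup N).map N.subtype : Subgroup X) : Set X) := by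
  obtain ⟨T, hT⟩ := (U.2.map N.subtype).exists_le_sylow
  have hTN : (T : Subgroup X).subgroupOf N = (U : Subgroup N) :=
    U.3 (T.2.comap_of_injective N.subtype N.subtype_injective) (map_le_iff_le_comap.1 hT)
  refine ⟨T, ?_⟩
  rw [← hTN, subgroupOf_map_subtype]
  exact le_trans (le_inf le_normalizer (le_top.trans (normalizer_eq_top_iff.2 (inferInstance : N.Normal)).ge))
    inf_normalizer_le_normalizer_inf

/-- The data of a `p`-minimal group over a Sylow subgroup of a normal subgroup. -/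
theorem exists_setup (hX : Cfsg.IsPMinimal p X) (hU : normalizer ((U : Subgroup N) : Set N) ≠ ⊤)
    {T : Sylow p X}
    (hnorm : (T : Subgroup X) ≤ normalizer (((U : Subgroup N).map N.subtype : Subgroup X) : Set X)) :
    (U : Subgroup N).map N.subtype = (T : Subgroup X) ⊓ N ∧
      normalizer (((U : Subgroup N).map N.subtype : Subgroup X) : Set X) ≠ ⊤ ∧
      N ⊔ (T : Subgroup X) = ⊤ ∧
      (∀ Y : Subgroup X, (T : Subgroup X) ≤ Y → N ≤ Y → Y = ⊤) ∧
      ∃ M : Subgroup X, M ≠ ⊤ ∧ ∀ Y : Subgroup X, (T : Subgroup X) ≤ Y → Y ≠ ⊤ → Y ≤ M := by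
  have hUT : (U : Subgroup N).map N.subtype ≤ (T : Subgroup X) :=
    le_sup_left.trans
      (T.3 ((U.2.map N.subtype).to_sup_of_normal_left' T.2 hnorm) le_sup_right).le
  have hTN : (T : Subgroup X).subgroupOf N = (U : Subgroup N) :=
    U.3 (T.2.comap_of_injective N.subtype N.subtype_injective) (map_le_iff_le_comap.1 hUT)
  have hmeet : (U : Subgroup N).map N.subtype = (T : Subgroup X) ⊓ N := by
    rw [← hTN, subgroupOf_map_subtype]
  have hne : normalizer (((U : Subgroup N).map N.subtype : Subgroup X) : Set X) ≠ ⊤ := fun h => by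
    refine hU (eq_top_iff.2 fun x _ => mem_normalizer_iff.2 fun y => ?_)
    have h1 := mem_normalizer_iff.1 (h.symm ▸ mem_top (x : X) :
      (x : X) ∈ normalizer (((U : Subgroup N).map N.subtype : Subgroup X) : Set X)) (y : X)
    have key : ∀ z : N, (z : X) ∈ (U : Subgroup N).map N.subtype ↔ z ∈ (U : Subgroup N) := fun z =>
      mem_map_iff_mem N.subtype_injective
    rw [key, show (x : X) * y * (x : X)⁻¹ = ((x * y * x⁻¹ : N) : X) from rfl, key] at h1
    exact h1
  obtain ⟨-, M, ⟨hM, hTM⟩, huniq⟩ := hX T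
  have hall : ∀ Y : Subgroup X, (T : Subgroup X) ≤ Y → Y ≠ ⊤ → Y ≤ M := fun Y hTY hY => by
    obtain ⟨M', hM', hle⟩ := (eq_top_or_exists_le_coatom Y).resolve_left hY
    exact huniq M' ⟨hM', hTY.trans hle⟩ ▸ hle
  have hFr := Sylow.normalizer_sup_eq_top U
  have htop : ∀ Y : Subgroup X, (T : Subgroup X) ≤ Y → N ≤ Y → Y = ⊤ := fun Y hTY hNY => by
    by_contra hY
    exact hM.1 (top_unique (hFr ▸ sup_le (hall _ hnorm hne) (hNY.trans (hall Y hTY hY))))
  exact ⟨hmeet, hne, htop _ le_sup_right le_sup_left, htop, M, hM.1, hall⟩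

omit [Finite X] in
theorem exists_eq_mul {T : Subgroup X} {y : X} (h : y ∈ N ⊔ T) : ∃ k ∈ N, ∃ t ∈ T, y = k * t := by
  have h1 : y ∈ ((N ⊔ T : Subgroup X) : Set X) := h
  rw [normal_mul] at h1
  obtain ⟨k, hk, t, ht, e⟩ := h1
  exact ⟨k, hk, t, ht, e.symm⟩

omit [Finite X] hp in
/-- Invariance under conjugation is normalisation. -/
theorem mem_normalizer_map {R : Subgroup N} {t : X} :
    t ∈ normalizer ((R.map N.subtype : Subgroup X) : Set X) ↔
      R.map (MulAut.conjNormal t).toMonoidHom = R := by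
  have key : ∀ z : N, (z : X) ∈ R.map N.subtype ↔ z ∈ R := fun z => mem_map_iff_mem N.subtype_injective
  constructor
  · intro h
    ext z
    rw [mem_map_equiv, ← key, ← key z]
    refine (mem_normalizer_iff.1 h _).trans ?_
    rw [← MulAut.conjNormal_apply, MulEquiv.apply_symm_apply]
  · intro h
    refine mem_normalizer_iff.2 fun y => ⟨fun hy => ?_, fun hy => ?_⟩
    · obtain ⟨z, hz, rfl⟩ := hy
      refine ⟨MulAut.conjNormal t z, ?_, MulAut.conjNormal_apply t z⟩
      rw [SetLike.mem_coe, ← h]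
      exact ⟨z, hz, rfl⟩
    · obtain ⟨z, hz, hzy⟩ := hy
      rw [SetLike.mem_coe, ← h] at hz
      obtain ⟨w, hw, rfl⟩ := hz
      refine ⟨w, hw, ?_⟩
      have h1 : (N.subtype (MulAut.conjNormal t w)) = t * (w : X) * t⁻¹ := MulAut.conjNormal_apply t w
      rw [MulEquiv.coe_toMonoidHom, h1] at hzy
      simpa using hzy

omit [Finite X] in
theorem fixing_conj {T : Sylow p X}
    (hT : (T : Subgroup X) ≤ normalizer (((U : Subgroup N).map N.subtype : Subgroup X) : Set X))
    {t : X} (ht : t ∈ (T : Subgroup X)) : Fixing p (U : Subgroup N) (MulAut.conjNormal t) := by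
  obtain ⟨k, hk⟩ := T.2 ⟨t, ht⟩
  refine ⟨⟨k, ?_⟩, (mem_normalizer_map N).1 (hT ht)⟩
  rw [← map_pow, show t ^ p ^ k = 1 from congrArg Subtype.val hk, map_one]

omit [Finite X] hp in
/-- An invariant proper overgroup of `U` gives a proper overgroup of `T`. -/
theorem sup_ne_top {T : Subgroup X} (hU : (U : Subgroup N).map N.subtype = T ⊓ N) {R : Subgroup N}
    (hUR : (U : Subgroup N) ≤ R) (hR : R ≠ ⊤) (hinv : T ≤ normalizer ((R.map N.subtype : Subgroup X) : Set X)) :
    R.map N.subtype ⊔ T ≠ ⊤ := fun h => hR (eq_top_iff.2 fun k _ => by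
  have h1 : (k : X) ∈ ((R.map N.subtype ⊔ T : Subgroup X) : Set X) := h.symm ▸ mem_top _
  rw [coe_mul_of_right_le_normalizer_left _ _ hinv] at h1
  obtain ⟨r, hr, t, ht, e⟩ := h1
  have e' : r * t = (k : X) := e
  have htN : t ∈ N := by
    rw [show t = r⁻¹ * k by rw [← e']; group]
    exact mul_mem (inv_mem (map_subtype_le R hr)) k.2
  have htR : t ∈ R.map N.subtype := map_mono hUR (hU ▸ mem_inf.2 ⟨ht, htN⟩)
  have hk : (k : X) ∈ R.map N.subtype := e' ▸ mul_mem hr htR
  exact (mem_map_iff_mem N.subtype_injective).1 hk)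

theorem pair_false' (hX : Cfsg.IsPMinimal p X) (hn : normalizer ((U : Subgroup N) : Set N) ≠ ⊤)
    {T : Sylow p X}
    (hT : (T : Subgroup X) ≤ normalizer (((U : Subgroup N).map N.subtype : Subgroup X) : Set X))
    {R₁ R₂ : Subgroup N} (h1 : (U : Subgroup N) ≤ R₁) (h2 : (U : Subgroup N) ≤ R₂) (t1 : R₁ ≠ ⊤)
    (t2 : R₂ ≠ ⊤) (hj : R₁ ⊔ R₂ = ⊤)
    (i1 : (T : Subgroup X) ≤ normalizer ((R₁.map N.subtype : Subgroup X) : Set X))
    (i2 : (T : Subgroup X) ≤ normalizer ((R₂.map N.subtype : Subgroup X) : Set X)) : False := by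
  obtain ⟨hmeet, -, -, htop, M, hM, hall⟩ := exists_setup N U hX hn hT
  have key : ∀ R : Subgroup N, (U : Subgroup N) ≤ R → R ≠ ⊤ →
      (T : Subgroup X) ≤ normalizer ((R.map N.subtype : Subgroup X) : Set X) →
        R.map N.subtype ⊔ (T : Subgroup X) ≤ M := fun R hUR hR hi =>
    hall _ le_sup_right (sup_ne_top N U hmeet hUR hR hi)
  have hNM : N ≤ M := by
    have h3 := sup_le (le_sup_left.trans (key R₁ h1 t1 i1)) (le_sup_left.trans (key R₂ h2 t2 i2))
    rwa [← Subgroup.map_sup, hj, ← MonoidHom.range_eq_map, range_subtype] at h3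
  exact hM (htop M (le_sup_right.trans (key R₁ h1 t1 i1)) hNM)

theorem pair_false (hX : Cfsg.IsPMinimal p X) {R₁ R₂ : Subgroup N}
    (h : PairAt p (U : Subgroup N) R₁ R₂) : False := by
  obtain ⟨hn, h1, h2, t1, t2, hj, hinv⟩ := h
  obtain ⟨T, hT⟩ := exists_sylow_normalizing N U
  exact pair_false' N U hX hn hT h1 h2 t1 t2 hj
    (fun t ht => (mem_normalizer_map N).2 (hinv _ (fixing_conj N U hT ht)).1)
    (fun t ht => (mem_normalizer_map N).2 (hinv _ (fixing_conj N U hT ht)).2)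

/-- The normaliser of `U` is maximal if the invariant proper overgroups lie in the normaliser. -/
theorem isCoatom_normalizer (hX : Cfsg.IsPMinimal p X) (hn : normalizer ((U : Subgroup N) : Set N) ≠ ⊤)
    (h : ∀ R : Subgroup N, (U : Subgroup N) ≤ R → R ≠ ⊤ →
      (∀ T : Sylow p X,
        (T : Subgroup X) ≤ normalizer (((U : Subgroup N).map N.subtype : Subgroup X) : Set X) →
        (T : Subgroup X) ≤ normalizer ((R.map N.subtype : Subgroup X) : Set X) →
          R ≤ normalizer ((U : Subgroup N) : Set N))) :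
    IsCoatom (normalizer (((U : Subgroup N).map N.subtype : Subgroup X) : Set X)) := by
  obtain ⟨T, hT⟩ := exists_sylow_normalizing N U
  obtain ⟨hmeet, hne, hNT, htop, -⟩ := exists_setup N U hX hn hT
  refine ⟨hne, fun Y hY => ?_⟩
  by_contra hYne
  have hTY : (T : Subgroup X) ≤ Y := hT.trans hY.le
  have hUY : (U : Subgroup N) ≤ Y.subgroupOf N := fun u hu => mem_subgroupOf.2 (hTY
    ((mem_inf.1 (hmeet ▸ ⟨u, hu, rfl⟩ : (u : X) ∈ (T : Subgroup X) ⊓ N)).1))
  have hR : Y.subgroupOf N ≠ ⊤ := fun h => hYne (htop Y hTY (subgroupOf_eq_top.1 h))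
  have hinv : (T : Subgroup X) ≤ normalizer (((Y.subgroupOf N).map N.subtype : Subgroup X) : Set X) := by
    rw [subgroupOf_map_subtype]
    exact (le_inf (hTY.trans le_normalizer)
      (le_top.trans (normalizer_eq_top_iff.2 (inferInstance : N.Normal)).ge)).trans
        inf_normalizer_le_normalizer_inf
  refine hY.not_ge ?_
  intro y hy
  obtain ⟨k, hk, t, ht, rfl⟩ := exists_eq_mul N (hNT.symm ▸ mem_top y : y ∈ N ⊔ (T : Subgroup X))
  refine mul_mem ?_ (hT ht)
  have hkY : (⟨k, hk⟩ : N) ∈ Y.subgroupOf N := mem_subgroupOf.2 (by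
    simpa using Y.mul_mem hy (inv_mem (hTY ht)))
  exact le_normalizer_map N.subtype ⟨_, h _ hUY hR T hT hinv hkY, rfl⟩

theorem solo_coatom (hX : Cfsg.IsPMinimal p X) (h : SoloAt (U : Subgroup N)) :
    IsCoatom (normalizer (((U : Subgroup N).map N.subtype : Subgroup X) : Set X)) :=
  isCoatom_normalizer N U hX h.1 fun R hUR hR _ _ _ => (h.2 R hUR).resolve_left hR

theorem duo_coatom (hX : Cfsg.IsPMinimal p X) {R₁ R₂ : Subgroup N}
    (h : DuoAt (U : Subgroup N) R₁ R₂) :
    IsCoatom (normalizer (((U : Subgroup N).map N.subtype : Subgroup X) : Set X)) ∧ N ≠ ⊤ ∧ p = 2 := by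
  have h' := h
  obtain ⟨hn, h1, h2, t1, t2, -, -, hinf, hall⟩ := h'
  refine ⟨isCoatom_normalizer N U hX hn fun R hUR hR T hT hinv => ?_, fun hN => ?_, ?_⟩
  · by_cases hfix : ∀ t ∈ (T : Subgroup X), R₁.map (MulAut.conjNormal t).toMonoidHom = R₁
    · exfalso
      refine pair_false' N U hX hn hT h1 h2 t1 t2 h.sup_eq_top
        (fun t ht => (mem_normalizer_map N).2 (hfix t ht)) (fun t ht => (mem_normalizer_map N).2 ?_)
      rcases h.perm (α := MulAut.conjNormal t) (fixing_conj N U hT ht).2 with ⟨-, e⟩ | ⟨e1, e2⟩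
      · exact e
      · have e : R₁ = R₂ := (hfix t ht).symm.trans e1
        rw [← e, hfix t ht]
    push Not at hfix
    obtain ⟨t, ht, hne⟩ := hfix
    rcases h.perm (α := MulAut.conjNormal t) (fixing_conj N U hT ht).2 with ⟨e, -⟩ | ⟨e1, e2⟩
    · exact absurd e hne
    have hRt : R.map (MulAut.conjNormal t).toMonoidHom = R := (mem_normalizer_map N).1 (hinv ht)
    rcases (hall R hUR).resolve_left hR with hle | hle
    · exact (le_inf hle (e1 ▸ hRt ▸ map_mono hle)).trans hinf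
    · exact (le_inf (e2 ▸ hRt ▸ map_mono hle) hle).trans hinf
  · obtain ⟨T, hT⟩ := exists_sylow_normalizing N U
    obtain ⟨hmeet, -⟩ := exists_setup N U hX hn hT
    have hTU : (T : Subgroup X) ≤ (U : Subgroup N).map N.subtype := by
      rw [hmeet, hN, inf_top_eq]
    exact pair_false' N U hX hn hT h1 h2 t1 t2 h.sup_eq_top ((hTU.trans (map_mono h1)).trans le_normalizer)
      ((hTU.trans (map_mono h2)).trans le_normalizer)
  · by_contra hp2
    exact pair_false N U hX (h.pairAt (Or.inl hp2))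

end Main

end Cfsg.Agent.PMinLie
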