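import Cfsg.Agent.PMinLie.BN
import Cfsg.Agent.TitsLemma.Chev
import Cfsg.Agent.ChevAut.Assemble

/-!
The Chevalley groups: two parabolic subgroups invariant under the automorphisms fixing a Sylow subgroup.
-/

set_option autoImplicit false

namespace Cfsg.Agent.PMinLie

open Cfsg.Lie Cfsg.Agent.Chev Cfsg.Agent.ChevAut Subgroup
open Cfsg.Agent.SteinbergUnique (uIn)
open scoped MatrixGroups

universe u

variable {D : ChevalleyDatum} {F : Type u} [Field F] (hF : Chev.Facts.{u} D)

/-- The fundamental reflections of a set of nodes. -/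
def genSet (A : Finset (Fin D.rank)) : Set ↥(D.group F) :=
  nGrp hF '' (A : Set (Fin D.rank))

theorem shape_mem_parabolic {θ : ↥(D.group F) ≃* ↥(D.group F)} {π : Equiv.Perm (Fin D.rank)}
    {c : Fin D.rank → Fˣ} {σ : Fin D.rank → F ≃+* F} (h : Shape θ π c σ) {J : Set ↥(D.group F)}
    (i : Fin D.rank) (hi : nGrp hF (π i) ∈ J) :
    θ (nGrp hF i) ∈ (bnPair hF (F := F)).parabolic J := by
  have hp : ∀ t : F, θ (rX hF (D.simple i) t) = rX hF (D.simple (π i)) (c i * σ i t) := fun t =>
    Subtype.ext (Units.ext (h.pos i t _ rfl))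
  have hn : ∀ t : F, θ (rX hF (D.neg (D.simple i)) t) =
      rX hF (D.neg (D.simple (π i))) (((c i)⁻¹ : Fˣ) * σ i t) := fun t =>
    Subtype.ext (Units.ext (h.neg i t _ rfl))
  have e : nGrp hF i = rX hF (D.simple i) 1 * rX hF (D.neg (D.simple i)) (-(1 : F)⁻¹) *
      rX hF (D.simple i) 1 := rfl
  rw [e, map_mul, map_mul, hp, hn, map_one, mul_one, inv_one, map_neg, map_one, mul_neg, mul_one,
    Units.val_inv_eq_inv_val]
  have e2 : rX hF (D.simple (π i)) (c i : F) * rX hF (D.neg (D.simple (π i))) (-(c i : F)⁻¹) *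
      rX hF (D.simple (π i)) (c i : F) = (⟨torusHom (coH (D.simple (π i)) (c i)),
        borel_le_group hF (mem_sup_right ((mem_diagonal_iff hF).2 ⟨_, rfl⟩))⟩ : ↥(D.group F)) *
          nGrp hF (π i) := by
    apply Subtype.ext
    show nG hF (D.simple (π i)) ((c i : Fˣ) : F) = _
    rw [nG_eq_torus_mul hF (π i).2]
    rfl
  rw [e2]
  exact mul_mem (BN.B_le_parabolic _ (mem_subgroupOf.2 (mem_sup_right ((mem_diagonal_iff hF).2 ⟨_, rfl⟩))))
    (BN.closure_le_parabolic _ (subset_closure hi))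

include hF in
theorem pair_chev [Fintype F] {p : ℕ} [hp : Fact p.Prime] [CharP F p] (hA : AutFacts.{u} D)
    (hsimple : IsSimpleGroup ↥(D.group F)) (A : Finset (Fin D.rank)) (hA1 : A.Nonempty) (hA2 : A ≠ Finset.univ)
    (hperm : ∀ θ π c σ, Shape (F := F) (D := D) θ π c σ → (∀ i, π i ∈ A ↔ i ∈ A) ∨
      (p ≠ 2 ∧ ∀ i, π i ∈ A ↔ i ∉ A)) : Pair p ↥(D.group F) := by
  classical
  let P := bnPair hF (F := F)
  let Q : Sylow p ↥(D.group F) :=
    (TwoBlocks.isPGroup_uIn hF p).toSylow (TwoBlocks.not_dvd_index_uIn hF p)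
  have hQ : (Q : Subgroup ↥(D.group F)) = uIn D F := rfl
  have hS : TitsLemma.Split P (Q : Subgroup ↥(D.group F)) := hQ ▸ TitsLemma.split_chev hF
  have hne : (Q : Subgroup ↥(D.group F)) ≠ ⊥ := fun h => by
    have hx : (⟨xG hF (D.simple 0) (1 : F), xG_mem_group hF _ _⟩ : ↥(D.group F)) ∈ uIn D F :=
      mem_subgroupOf.2 (mem_posUnipotent_of hF (hF.simple_lt 0 hF.rank_pos) (hF.simple_pos 0 hF.rank_pos) 1)
    rw [← hQ, h, mem_bot] at hx
    exact one_ne_zero ((xG_eq_one_iff hF (hF.simple_lt 0 hF.rank_pos)).1 (congrArg Subtype.val hx))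
  have hinj : Function.Injective (nGrp hF (F := F)) := fun i j e => by
    have e' : nS hF (i : ℕ) = nS hF (j : ℕ) (F := F) := congrArg Subtype.val e
    have h1 := isMon_nS hF i (F := F)
    rw [e'] at h1
    exact wPerm_injective hF (isMon_unique hF h1 (isMon_nS hF j))
  have hcompl : P.S \ genSet hF A = genSet hF Aᶜ := by
    show Set.range _ \ _ = _
    rw [genSet, genSet, ← Set.image_univ, ← Set.image_sdiff hinj, Finset.coe_compl, Set.compl_eq_univ_sdiff]
  refine pair_of_one Q (pairAt_bn hS hne (A := genSet hF A) (Set.image_subset_range _ _)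
    (hA1.coe_sort.elim fun x => ⟨_, _, x.2, rfl⟩) ?_ fun α hα => ?_)
  · rw [hcompl]
    obtain ⟨j, hj⟩ : ∃ j, j ∉ A := by
      by_contra! h
      exact hA2 (Finset.eq_univ_of_forall h)
    exact ⟨_, j, by simpa using hj, rfl⟩
  obtain ⟨x, θ, hθ, hN⟩ := exists_normalised hF p Q hQ α
  -- the inner part lies in the Borel subgroup
  have hx : x ∈ P.B := by
    refine mem_subgroupOf.2 (mem_borel_of_normalizes hF x.2 fun u hu => ?_)
    have hu' : (⟨u, posUnipotent_le_group hF hu⟩ : ↥(D.group F)) ∈ (Q : Subgroup ↥(D.group F)) :=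
      mem_subgroupOf.2 hu
    rw [hQ, show uIn D F = uG D F from rfl, ← hN.1] at hu'
    obtain ⟨v, hv, hv'⟩ := hu'
    have h1 : α v ∈ (Q : Subgroup ↥(D.group F)) := by
      rw [← hα.2]
      exact ⟨v, hv, rfl⟩
    rw [hθ v, show θ v = _ from hv'] at h1
    exact mem_subgroupOf.1 h1
  have hB : ∀ b ∈ P.B, θ b ∈ P.B := by
    intro b hb
    refine mem_subgroupOf.2 (mem_borel_of_normalizes hF (θ b).2 fun u hu => ?_)
    have hu' : (⟨u, posUnipotent_le_group hF hu⟩ : ↥(D.group F)) ∈ uG D F := mem_subgroupOf.2 hu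
    rw [← hN.1] at hu'
    obtain ⟨v, hv, hv'⟩ := hu'
    have h1 : θ (b * v * b⁻¹) ∈ uG D F := by
      rw [← hN.1]
      exact ⟨_, (mem_normalizer_iff.1 (hS.normal hb) v).1 hv, rfl⟩
    rw [map_mul, map_mul, map_inv, show θ v = _ from hv'] at h1
    exact mem_subgroupOf.1 h1
  obtain ⟨π, c, σ, hsh⟩ := exists_shape hF hA hN
  have hmap : ∀ E E' : Finset (Fin D.rank), (∀ i, i ∈ E → π i ∈ E') →
      (P.parabolic (genSet hF E)).map α.toMonoidHom ≤ P.parabolic (genSet hF E') := by
    intro E E' hE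
    refine map_le_iff_le_comap.2 (sup_le (fun b hb => ?_) ((closure_le _).2 ?_))
    · rw [mem_comap]
      show α b ∈ P.parabolic (genSet hF E')
      rw [hθ]
      exact BN.B_le_parabolic _ (mul_mem (mul_mem hx (hB b hb)) (inv_mem hx))
    · rintro _ ⟨i, hi, rfl⟩
      rw [SetLike.mem_coe, mem_comap]
      show α (nGrp hF i) ∈ P.parabolic (genSet hF E')
      rw [hθ]
      have hx' := BN.B_le_parabolic (genSet hF E') hx
      exact mul_mem (mul_mem hx' (shape_mem_parabolic hF hsh i ⟨_, hE i hi, rfl⟩)) (inv_mem hx')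
  have hcard : ∀ R : Subgroup ↥(D.group F), Nat.card (R.map α.toMonoidHom) = Nat.card R :=
    fun R => card_map_of_injective (f := α.toMonoidHom) α.injective
  rw [hcompl]
  rcases hperm _ _ _ _ hsh with h | ⟨hp2, h⟩
  · exact ⟨eq_of_le_of_card_ge (hmap _ _ fun i hi => (h i).2 hi) (hcard _).ge,
      eq_of_le_of_card_ge (hmap _ _ fun i hi => by simp_all) (hcard _).ge⟩
  · obtain ⟨k, hk⟩ := hα.1
    have h1 := hmap A Aᶜ fun i hi => by simp_all
    have h2 := hmap Aᶜ A fun i hi => by simp_all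
    have hc1 := card_le_of_le h1
    have hc2 := card_le_of_le h2
    rw [hcard] at hc1 hc2
    exact fixed_of_odd ((hp.out.odd_of_ne_two hp2).pow) hk (Or.inr
      ⟨eq_of_le_of_card_ge h1 (by rw [hcard]; exact hc2), eq_of_le_of_card_ge h2 (by rw [hcard]; exact hc1)⟩)

/-- The number of neighbours of a node. -/
def nbrs (D : ChevalleyDatum) (i : Fin D.rank) : ℕ :=
  (Finset.univ.filter fun j => j ≠ i ∧ D.cartan i (D.simple j) ≠ 0).card

theorem nbrs_shape {θ : ↥(D.group F) ≃* ↥(D.group F)} {π : Equiv.Perm (Fin D.rank)}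
    {c : Fin D.rank → Fˣ} {σ : Fin D.rank → F ≃+* F} (h : Shape θ π c σ) (i : Fin D.rank) :
    nbrs D (π i) = nbrs D i := by
  refine (Finset.card_nbij' π π.symm (fun j hj => ?_) (fun j hj => ?_) (fun j _ => π.symm_apply_apply j)
    (fun j _ => π.apply_symm_apply j)).symm
  · simp only [Finset.coe_filter, Finset.mem_univ, true_and, Set.mem_ofPred_eq] at hj ⊢
    exact ⟨fun e => hj.1 (π.injective e), fun e => hj.2 ((h.orth i j (Ne.symm hj.1)).1 e)⟩
  · simp only [Finset.coe_filter, Finset.mem_univ, true_and, Set.mem_ofPred_eq] at hj ⊢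
    have hne : π.symm j ≠ i := fun e => hj.1 (by rw [← e, π.apply_symm_apply])
    exact ⟨hne, fun e => hj.2 (by simpa using (h.orth i (π.symm j) (Ne.symm hne)).2 e)⟩

theorem pair_chev_tree [Fintype F] {p : ℕ} [Fact p.Prime] [CharP F p] {D : ChevalleyDatum}
    (hD : D ∈ [chevD4, chevF4, chevE6, chevE7, chevE8])
    (hsimple : IsSimpleGroup ↥(D.group F)) : Pair p ↥(D.group F) := by
  have hmem : D ∈ [chevG2, chevB2, chevD4, chevF4, chevE6, chevE7, chevE8] := by
    simp only [List.mem_cons, List.not_mem_nil, or_false] at hD ⊢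
    tauto
  have hleaf : (Finset.univ.filter fun i => nbrs D i ≤ 1).Nonempty ∧
      (Finset.univ.filter fun i => nbrs D i ≤ 1) ≠ Finset.univ := by
    simp only [List.mem_cons, List.not_mem_nil, or_false] at hD
    rcases hD with rfl | rfl | rfl | rfl | rfl <;> decide +kernel
  refine pair_chev (facts_of_mem hmem) (autFacts_of_mem hmem) hsimple _ hleaf.1 hleaf.2
    fun θ π c σ h => Or.inl fun i => ?_
  simp only [Finset.mem_filter, Finset.mem_univ, true_and, nbrs_shape h]

theorem pair_chev_g2 [Fintype F] {p : ℕ} [hp : Fact p.Prime] [CharP F p] (h3 : 3 ≤ Fintype.card F)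
    (hsimple : IsSimpleGroup ↥(chevG2.group F)) : Pair p ↥(chevG2.group F) := by
  have hmem : chevG2 ∈ [chevG2, chevB2, chevD4, chevF4, chevE6, chevE7, chevE8] := by simp
  let a : Fin chevG2.rank := ⟨1, by decide⟩
  let b : Fin chevG2.rank := ⟨0, by decide⟩
  have hall : ∀ i : Fin chevG2.rank, i = a ∨ i = b := by decide
  refine pair_chev (facts_of_mem hmem) (autFacts_of_mem hmem) hsimple {a} ⟨a, by simp⟩ (by decide +kernel)
    fun θ π c σ h => ?_
  rcases hall (π a) with e | e
  · left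
    intro i
    simp only [Finset.mem_singleton]
    constructor
    · intro hi
      exact π.injective (hi.trans e.symm)
    · rintro rfl; exact e
  · have e' : π b = a := (hall (π b)).resolve_right fun e' => absurd (π.injective (e.trans e'.symm)) (by decide)
    refine Or.inr ⟨fun hp2 => ?_, fun i => ?_⟩
    · subst hp2
      have hx := pow_eq_ringChar (m := 3) (Or.inr rfl) (σ a) (σ b)
        (h.pow_eq (by norm_num) g2_long.1 (by rw [e, e']; exact g2_long.2.1))
      rw [ringChar.eq F 2] at hx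
      have hle : Fintype.card F ≤ 2 := by
        classical
        rw [← Finset.card_univ]
        refine (Finset.card_le_card (t := {0, 1}) fun x _ => ?_).trans Finset.card_le_two
        rcases eq_or_ne x 0 with rfl | hx0
        · simp
        · have := hx x
          rw [pow_succ] at this
          simp [mul_left_cancel₀ (pow_ne_zero 2 hx0) (this.trans (mul_one _).symm)]
      omega
    · rcases hall i with rfl | rfl
      · simp [e, show b ≠ a by decide]
      · simp [e', show b ≠ a by decide]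

theorem pair_exceptional {G : Type*} [Group G] {p : ℕ} [Fact p.Prime]
    (h : Cfsg.IsExceptionalChevChar p G) : Pair p G := by
  classical
  obtain ⟨F, _, _, _, ⟨h3, ⟨e⟩⟩ | he | he | he | he⟩ := h
  · refine pair_of_mulEquiv e.symm (pair_chev_g2 h3 (g2_simple F ?_).1)
    obtain ⟨a, ha⟩ : ∃ a, a ∈ ((Finset.univ : Finset F).erase 0).erase 1 := by
      refine Finset.card_pos.1 ?_
      rw [Finset.card_erase_of_mem (Finset.mem_erase.2 ⟨one_ne_zero, Finset.mem_univ _⟩),
        Finset.card_erase_of_mem (Finset.mem_univ _), Finset.card_univ]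
      omega
    exact ⟨a, (Finset.mem_erase.1 (Finset.mem_erase.1 ha).2).1, (Finset.mem_erase.1 ha).1⟩
  · exact pair_of_mulEquiv he.some.symm (pair_chev_tree (by simp) (f4_simple F).1)
  · exact pair_of_mulEquiv he.some.symm (pair_chev_tree (by simp) (e6_simple F).1)
  · exact pair_of_mulEquiv he.some.symm (pair_chev_tree (by simp) (e7_simple F).1)
  · exact pair_of_mulEquiv he.some.symm (pair_chev_tree (by simp) (e8_simple F).1)

end Cfsg.Agent.PMinLie
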