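import Cfsg.Agent.PMinLie.Polar
import Cfsg.Agent.PMinLie.Chev
import Cfsg.Agent.ClassicalSteinberg.Symp
import Cfsg.Agent.ClassicalSteinberg.Unitary
import Cfsg.Agent.ClassicalSteinberg.Orth
import Cfsg.Agent.ClassicalSteinberg.Minus
import Cfsg.Agent.AutPSp.Decomp
import Cfsg.Agent.AutPSU.Rigid
import Cfsg.Agent.AutPOmega.Forms
import Cfsg.Agent.S0270
import Cfsg.Agent.S0283
import Cfsg.Agent.S0295
import Cfsg.Agent.S0296
import Cfsg.Agent.S0297
import Cfsg.Agent.S1082

/-!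
The symplectic, unitary and orthogonal groups: rank one, two maximal overgroups for the symplectic groups of
degree four, two invariant overgroups otherwise.
-/

set_option autoImplicit false
set_option linter.unusedSectionVars false

namespace Cfsg.Agent.PMinLie

open Module Matrix Cfsg.Agent.ClassicalSteinberg

universe u

section Semi

variable {F : Type u} [Field F] {ι : Type} [Fintype ι] [DecidableEq ι]

/-- The semilinear map of a matrix and a field automorphism. -/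
def semiMap (g : GL ι F) (σ : F ≃+* F) : (ι → F) ≃+ (ι → F) where
  toFun v := g.1 *ᵥ fun i => σ (v i)
  invFun v i := σ.symm ((g⁻¹.1 *ᵥ v) i)
  left_inv v := funext fun i => by
    simp only [Matrix.mulVec_mulVec, Units.inv_mul, Matrix.one_mulVec, RingEquiv.symm_apply_apply]
  right_inv v := by
    simp only [RingEquiv.apply_symm_apply, Matrix.mulVec_mulVec, Units.mul_inv, Matrix.one_mulVec]
  map_add' v w := by
    rw [← Matrix.mulVec_add]
    congr 1
    funext i
    exact map_add σ _ _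

theorem semiMap_twine (g : GL ι F) (σ : F ≃+* F) (M : Matrix ι ι F) (v : ι → F) :
    (g.1 * M.map σ * g⁻¹.1) *ᵥ semiMap g σ v = semiMap g σ (M *ᵥ v) := by
  show (g.1 * M.map σ * g⁻¹.1) *ᵥ (g.1 *ᵥ _) = g.1 *ᵥ fun i => σ ((M *ᵥ v) i)
  rw [Matrix.mulVec_mulVec, Matrix.mul_assoc, Units.inv_mul, Matrix.mul_one, ← Matrix.mulVec_mulVec]
  congr 1
  funext i
  exact (RingHom.map_mulVec (σ : F →+* F) M v i).symm

end Semi

open Cfsg.Agent.Classical Cfsg.Agent.Classical.Herm Cfsg.Agent.Classical.Quad QuadraticMap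

variable {F : Type u} [Field F] [Fintype F] {p : ℕ} [hp : Fact p.Prime] [CharP F p]

/-! ### Symplectic groups -/

theorem psp_setup {m : ℕ} (hm : 2 ≤ m) :
    ∃ (ρ : AutPSp.Spm m F →* (sympPolar F m).isom) (C : (sympPolar F m).Chamber),
      Function.Injective ρ ∧ (sympPolar F m).moves ⊆ Set.range ρ ∧
      (∀ Q : Sylow p (AutPSp.Spm m F),
        Nat.card Q = Nat.card {D : (sympPolar F m).Chamber // Polar.Opp C D}) ∧
      ∀ (g : AutPSp.Spm m F) (v : AutPSp.Vm m F), Pol.rep ρ g v = AutPSp.mat g *ᵥ v := by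
  classical
  let P := sympPolar F m
  let ρ : AutPSp.Spm m F →* P.isom :=
    MonoidHom.mk' (fun A => ⟨(spEquiv m F A).1, fun x y => (spEquiv m F A).2 x y, fun _ => Iff.rfl⟩)
      fun A B => Subtype.ext (congrArg Subtype.val (map_mul (spEquiv m F) A B) :)
  have hinj : Function.Injective ρ := fun A B h =>
    (spEquiv m F).injective (Subtype.ext (congrArg Subtype.val h :))
  have hmoves : P.moves ⊆ Set.range ρ := fun g _ =>
    ⟨(spEquiv m F).symm ⟨g.1, fun x y => g.2.1 x y⟩,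
      Subtype.ext (congrArg Subtype.val ((spEquiv m F).apply_symm_apply ⟨g.1, fun x y => g.2.1 x y⟩) :)⟩
  obtain ⟨C₀⟩ := symp_chamber (F := F) (m := m)
  obtain ⟨f, hpr, hq⟩ := FiniteField.card F p
  set q := Fintype.card F with hqdef
  have hF : Nat.card F = q := Nat.card_eq_fintype_card
  have hpq : p ∣ q := hq ▸ dvd_pow_self p f.ne_zero
  have hopp : Nat.card {D : P.Chamber // Polar.Opp C₀ D} = q ^ (m ^ 2) := by
    refine Polar.card_opp_of ?_
    show Nat.card F ^ m * Nat.card F ^ (m * _) = q ^ (m ^ 2) * Nat.card F ^ (m * (m + 1))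
    rw [finrank_symp, hF, ← pow_add, ← pow_add]
    ring_nf
  refine ⟨ρ, C₀, hinj, hmoves, fun Q => ?_, fun g v => rfl⟩
  rw [hopp]
  exact sylow_card (f := f) hq ((one_mul _).trans (card_symplecticGroup rfl m))
    hpr.not_dvd_one (not_dvd_prod_sq_sub_one hpr hpq Fintype.card_ne_zero m) Q

theorem duo_psp_two (h : 3 ≤ Fintype.card F) : Duo p (Cfsg.PSp 2 F) := by
  obtain ⟨ρ, C, hinj, hmoves, hsyl, -⟩ := psp_setup (F := F) (p := p) (m := 2) le_rfl
  have : IsSimpleGroup (Cfsg.PSp 2 F) := Cfsg.Agent.S0270.result 2 le_rfl fun _ => h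
  exact Pol.duo_polar ρ hmoves AutPSp.mkS AutPSp.mkS_surjective (QuotientGroup.ker_mk' _).le hinj C hsyl rfl
    (Or.inr (show 2 ≤ Nat.card F from Finite.one_lt_card))

theorem pair_psp {m : ℕ} (hm : 3 ≤ m) : Pair p (Cfsg.PSp m F) := by
  obtain ⟨ρ, C, hinj, hmoves, hsyl, hrep⟩ := psp_setup (F := F) (p := p) (m := m) (by omega)
  have : IsSimpleGroup (Cfsg.PSp m F) := Cfsg.Agent.S0270.result m (by omega) fun h => absurd h (by omega)
  refine Pol.pair_polar ρ hmoves AutPSp.mkS AutPSp.mkS_surjective (QuotientGroup.ker_mk' _).le hinj C hsyl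
    (show 2 ≤ m by omega) (Or.inr (show 2 ≤ Nat.card F from Finite.one_lt_card)) fun α => ?_
  obtain ⟨g, σ, rfl⟩ := AutPSp.exists_decomp p (by omega) (fun h => absurd h (by omega)) α
  refine ⟨AutPSp.conjSp g * AutPSp.fieldSp σ, semiMap g.1 σ, fun s => rfl, fun s v => ?_⟩
  rw [hrep, hrep, MulAut.mul_apply, AutPSp.mat_conjSp, AutPSp.mat_fieldSp]
  exact semiMap_twine g.1 σ _ v

/-! ### Unitary groups -/

theorem psu_setup {n q : ℕ} (hn : 3 ≤ n) {σ : F →+* F} (hu : AutPSU.UCtx σ q) (hF : Fintype.card F = q ^ 2) :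
    ∃ (ρ : AutPSU.Su n F q →* (hermPolar hu.toIsInvol n).isom) (C : (hermPolar hu.toIsInvol n).Chamber),
      Function.Injective ρ ∧ (hermPolar hu.toIsInvol n).moves ⊆ Set.range ρ ∧
      (∀ Q : Sylow p (AutPSU.Su n F q),
        Nat.card Q = Nat.card {D : (hermPolar hu.toIsInvol n).Chamber // Polar.Opp C D}) ∧
      ∀ (g : AutPSU.Su n F q) (v : AutPSU.Vn n F), Pol.rep ρ g v = AutPSU.mat g *ᵥ v := by
  classical
  obtain ⟨hσ, hσq, hfix, hq1⟩ := hu
  let P := hermPolar hσ n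
  let ρ : Cfsg.SU n F q →* P.isom :=
    MonoidHom.mk' (fun A => ⟨(suEquiv n hσq A).1, (suEquiv n hσq A).2.1, fun x => by
      show hermB n σ _ _ = 0 ↔ _
      rw [(suEquiv n hσq A).2.1]
      exact Iff.rfl⟩) fun A B => Subtype.ext (congrArg Subtype.val (map_mul (suEquiv n hσq) A B) :)
  have hinj : Function.Injective ρ := fun A B h =>
    (suEquiv n hσq).injective (Subtype.ext (congrArg Subtype.val h :))
  have hmoves : P.moves ⊆ Set.range ρ := by
    rintro g ⟨e, f, f', h, rfl⟩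
    have hdet : LinearEquiv.det h.move.1 = 1 := by
      refine Units.ext ?_
      rw [LinearEquiv.coe_det, Units.val_one]
      set T : Module.End F (Fin n → F) := (h.move.1 : (Fin n → F) →ₗ[F] (Fin n → F)) with hT
      have hed : P.B e (f' - f) = 0 := by rw [map_sub, h.ef, h.ef', sub_self]
      have hde : P.B (f' - f) e = 0 := P.swap_zero hed
      have hN : ∀ x, (T - 1) x = P.B e x • (f' - f) +
          (P.ε * (P.B (f' - f) f * P.B e x - P.B (f' - f) x)) • e := fun x => by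
        show h.move.1 x - x = _
        rw [h.move_apply, Polar.moveMap_apply]; abel
      have hNe : (T - 1) e = 0 := by rw [hN, P.sing_self e h.he, hde]; simp
      have h3 : (T - 1) ^ 3 = 0 := LinearMap.ext fun x => by
        have h2 : ∀ y, ∃ a, (T - 1) ((T - 1) y) = a • e := fun y => by
          refine ⟨P.B e y * (P.ε * (P.B (f' - f) f * 0 - P.B (f' - f) (f' - f))), ?_⟩
          rw [hN y, map_add, map_smul, map_smul, hNe, smul_zero, add_zero, hN (f' - f), hed, zero_smul,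
            zero_add, smul_smul]
        obtain ⟨a, ha⟩ := h2 x
        show (T - 1) ((T - 1) ((T - 1) x)) = 0
        rw [ha, map_smul, hNe, smul_zero]
      have hT2 : T ^ (p ^ 2) = 1 := by
        have : CharP (Module.End F (Fin n → F)) p :=
          have : Nonempty (Fin n) := ⟨⟨0, by omega⟩⟩
          charP_of_injective_algebraMap (RingHom.injective (algebraMap F (Module.End F (Fin n → F)))) p
        have h4 : (T - 1) ^ (p ^ 2) = 0 :=
          pow_eq_zero_of_le (by nlinarith [hp.out.two_le]) h3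
        rw [sub_pow_char_pow_of_commute p 2 (Commute.one_right T), one_pow, sub_eq_zero] at h4
        exact h4
      have h5 := congrArg LinearMap.det hT2
      rw [map_pow, map_one] at h5
      have h6 : (LinearMap.det T - 1) ^ (p ^ 2) = 0 := by
        rw [sub_pow_char_pow, h5, one_pow, sub_self]
      exact sub_eq_zero.1 (eq_zero_of_pow_eq_zero h6)
    exact ⟨(suEquiv n hσq).symm ⟨h.move.1, h.move.2.1, hdet⟩,
      Subtype.ext (congrArg Subtype.val ((suEquiv n hσq).apply_symm_apply ⟨h.move.1, h.move.2.1, hdet⟩) :)⟩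
  obtain ⟨C₀⟩ := herm_chamber (n := n) hσ
  obtain ⟨f, hpr, hqf⟩ := FiniteField.card F p
  have hpq : p ∣ q := hpr.dvd_of_dvd_pow (n := 2) (by rw [← hF, hqf]; exact dvd_pow_self p f.ne_zero)
  obtain ⟨i, -, hi⟩ := (Nat.dvd_prime_pow hpr).1 (show q ∣ p ^ (f : ℕ) from ⟨q, by rw [← hqf, hF, pow_two]⟩)
  have hopp : Nat.card {D : P.Chamber // Polar.Opp C₀ D} = q ^ (n * (n - 1) / 2) := by
    refine Polar.card_opp_of ?_
    show Nat.card (fixField σ) ^ (n / 2) * Nat.card F ^ (n / 2 * _) = _ * Nat.card F ^ (n / 2 * (n / 2 + 1))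
    rw [Module.finrank_fin_fun, hfix, Nat.card_eq_fintype_card, hF, ← pow_mul, ← pow_mul, ← pow_add, ← pow_add]
    congr 1
    rcases Nat.even_or_odd' n with ⟨k, rfl | rfl⟩
    · obtain ⟨j, rfl⟩ : ∃ j, k = j + 1 := ⟨k - 1, by omega⟩
      rw [Nat.mul_div_cancel_left _ (by norm_num : 0 < 2), mul_assoc 2 (j + 1) (2 * (j + 1) - 1),
        Nat.mul_div_cancel_left _ (by norm_num : 0 < 2), show 2 * (j + 1) - 1 = 2 * j + 1 by omega]
      ring
    · rw [show (2 * k + 1) / 2 = k by omega, Nat.add_sub_cancel,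
        show (2 * k + 1) * (2 * k) / 2 = (2 * k + 1) * k by
          rw [mul_left_comm]; exact Nat.mul_div_cancel_left _ (by norm_num)]
      ring
  refine ⟨ρ, C₀, hinj, hmoves, fun Q => ?_, fun g v => rfl⟩
  rw [hopp]
  have h1 := card_SU_mul_eq_GU (n := n) hσ hσq hfix (by omega)
  rw [card_GU_formula hσ hσq hfix] at h1
  refine sylow_card (f := i) hi h1 ?_ (fun h => ?_) Q
  · simpa using not_dvd_pow_add_one (q := q) hpr hpq one_ne_zero
  · obtain ⟨j, -, hj⟩ := hpr.prime.exists_mem_finset_dvd h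
    by_cases he : Even j
    · rw [if_pos he] at hj; exact not_dvd_pow_add_one hpr hpq (by omega) hj
    · rw [if_neg he] at hj; exact not_dvd_pow_sub_one hpr hpq (by omega) (by omega) hj

theorem solo_psu_three {q : ℕ} (hF : Fintype.card F = q ^ 2) (hq : q ≠ 2) : Solo p (Cfsg.PSU 3 F q) := by
  obtain ⟨σ, hu⟩ := AutPSU.exists_uctx hF
  obtain ⟨ρ, C, hinj, hmoves, hsyl, -⟩ := psu_setup (p := p) (n := 3) le_rfl hu hF
  have : IsSimpleGroup (Cfsg.PSU 3 F q) := Cfsg.Agent.S0283.result hF 3 le_rfl fun h => hq h.2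
  exact Pol.solo_polar ρ hmoves AutPSU.mkU AutPSU.mkU_surjective (QuotientGroup.ker_mk' _).le hinj C hsyl rfl
    (by rw [Module.finrank_fin_fun]; norm_num)

theorem pair_psu {n q : ℕ} (hF : Fintype.card F = q ^ 2) (hn : 4 ≤ n) : Pair p (Cfsg.PSU n F q) := by
  obtain ⟨σ, hu⟩ := AutPSU.exists_uctx hF
  obtain ⟨ρ, C, hinj, hmoves, hsyl, hrep⟩ := psu_setup (p := p) (n := n) (by omega) hu hF
  have : IsSimpleGroup (Cfsg.PSU n F q) := Cfsg.Agent.S0283.result hF n (by omega) fun h => by omega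
  refine Pol.pair_polar ρ hmoves AutPSU.mkU AutPSU.mkU_surjective (QuotientGroup.ker_mk' _).le hinj C hsyl
    (show 2 ≤ n / 2 by omega) (Or.inr (show 2 ≤ Nat.card (fixField σ) by rw [hu.card_fix]; exact hu.one_lt))
    fun α => ?_
  obtain ⟨g, τ, rfl⟩ := AutPSU.exists_decomp hu p (by omega) (fun h => by omega) α
  refine ⟨AutPSU.conjSu g * AutPSU.fieldSu τ, semiMap g.1 τ, fun s => rfl, fun s v => ?_⟩
  rw [hrep, hrep, MulAut.mul_apply, AutPSU.mat_conjSu, AutPSU.mat_fieldSu]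
  exact semiMap_twine g.1 τ _ v

/-! ### Orthogonal groups -/

theorem pair_omega {ι : Type} [Fintype ι] [DecidableEq ι] {Q : QuadraticForm F (ι → F)} (hc : AutPOmega.Ctx Q)
    (m : ℕ) (hm : 2 ≤ m) (hex : ∃ U : Submodule F (ι → F), (∀ u ∈ U, Q u = 0) ∧ finrank F U = m)
    (hmax : ∀ U : Submodule F (ι → F), (∀ u ∈ U, Q u = 0) → finrank F U ≤ m)
    [IsSimpleGroup (Cfsg.POmega F ⇑Q)] (N k r : ℕ)
    (hcard : k * Nat.card (Cfsg.Omega F ⇑Q) = Nat.card F ^ N * r) (hk : ¬ p ∣ k) (hr : ¬ p ∣ r)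
    (hN : m * finrank F (ι → F) = N + m * (m + 1)) : Pair p (Cfsg.POmega F ⇑Q) := by
  classical
  have hd : 7 ≤ finrank F (ι → F) := by
    rw [Module.finrank_fintype_fun_eq_card]
    exact hc.seven
  have hQ := hc.nondeg
  let P := quadPolar Q hQ m hmax
  let ρ : AutPOmega.Om Q →* P.isom :=
    MonoidHom.mk' (fun g => ⟨(oEquiv Q g.1).1,
        fun x y => polar_eq_of_mem (oEquiv Q g.1).2 x y, fun x => by
          show Q _ = 0 ↔ _
          rw [(oEquiv Q g.1).2]
          exact Iff.rfl⟩)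
      fun g h => Subtype.ext (congrArg Subtype.val (map_mul (oEquiv Q) g.1 h.1) :)
  have hinj : Function.Injective ρ := fun g h e =>
    Subtype.ext ((oEquiv Q).injective (Subtype.ext (congrArg Subtype.val e :)))
  have hmoves : P.moves ⊆ Set.range ρ := by
    rintro g ⟨e, f, f', h, rfl⟩
    obtain ⟨he, hew, hx⟩ := move_eq_sO h
    refine ⟨⟨(oEquiv Q).symm (sO he hew), (mem_omega_iff _).2 ?_⟩, Polar.isom_ext fun x => ?_⟩
    · rw [MulEquiv.apply_symm_apply]
      exact sO_mem_commutator hQ (Or.inr (by omega)) he hew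
    · show (oEquiv Q ((oEquiv Q).symm (sO he hew))).1 x = _
      rw [MulEquiv.apply_symm_apply]; exact (hx x).symm
  obtain ⟨U, hU, hUd⟩ := hex
  obtain ⟨C₀⟩ : Nonempty P.Chamber := by
    refine Polar.exists_chamber (W := U) (fun x hx => ⟨hU x hx, fun y hy => ?_⟩) hUd
    show polar Q x y = 0
    rw [polar, hU _ (U.add_mem hx hy), hU x hx, hU y hy]; ring
  obtain ⟨f, hpr, hq⟩ := FiniteField.card F p
  have hopp : Nat.card {D : P.Chamber // Polar.Opp C₀ D} = Nat.card F ^ N := by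
    refine Polar.card_opp_of ?_
    show 1 ^ m * Nat.card F ^ (m * _) = Nat.card F ^ N * Nat.card F ^ (m * (m + 1))
    rw [one_pow, one_mul, hN, pow_add]
  refine Pol.pair_polar ρ hmoves AutPOmega.mkO AutPOmega.mkO_surjective (QuotientGroup.ker_mk' _).le hinj C₀
    (fun S => ?_) hm (Or.inl (by omega)) fun α => ?_
  · rw [hopp]
    exact sylow_card (f := f) (Nat.card_eq_fintype_card.trans hq) hcard hk hr S
  · obtain ⟨T, rfl⟩ := AutPOmega.exists_semi hc α
    exact ⟨T.omAut, semiMap T.g T.σ, fun s => rfl, fun s v => semiMap_twine T.g T.σ (AutPOmega.mat s) v⟩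

theorem pair_omega_odd {m : ℕ} (hm : 3 ≤ m) (hodd : Odd (Fintype.card F)) :
    Pair p (Cfsg.POmega F (Cfsg.quadFormOdd m F)) := by
  classical
  have h2 := two_ne_zero_of_odd hodd
  have hc := AutPOmega.ctx_odd (F := F) hodd hm
  set Q := AutPOmega.qOdd F m
  have han : ∀ z : F, sqForm F z = 0 → z = 0 := fun z hz => by
    simpa [sqForm] using hz
  have hmax : ∀ U : Submodule F (Unit ⊕ (Fin m ⊕ Fin m) → F), (∀ u ∈ U, Q u = 0) → finrank F U ≤ m := by
    intro U hU
    have := aniso_index (nondeg_sqForm h2) han m (U.map (oddCoord m).toLinearMap) (by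
      rintro _ ⟨x, hx, rfl⟩
      rw [LinearEquiv.coe_coe, oddCoord_map]
      exact hU x hx)
    rwa [LinearEquiv.finrank_map_eq] at this
  have hex : ∃ U : Submodule F (Unit ⊕ (Fin m ⊕ Fin m) → F), (∀ u ∈ U, Q u = 0) ∧ finrank F U = m := by
    refine ⟨(stdSing F m).map (oddCoord m).symm.toLinearMap, ?_,
      by rw [LinearEquiv.finrank_map_eq, finrank_stdSing]⟩
    rintro _ ⟨x, hx, rfl⟩
    show Cfsg.quadFormOdd m F _ = 0
    rw [← oddCoord_map, LinearEquiv.coe_coe, LinearEquiv.apply_symm_apply]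
    exact stdSing_singular (sqForm F) m x hx
  have hd : finrank F (Unit ⊕ (Fin m ⊕ Fin m) → F) = 2 * m + 1 := by simp; ring
  have hO : Nat.card (Cfsg.isometryGroup F ⇑Q) = _ :=
    (card_isometryGroup_eq (oddCoord m) (oddCoord_map m)).trans (card_oG_odd rfl h2 m)
  have hcard : 4 * Nat.card (Cfsg.Omega F ⇑Q) =
      Nat.card F ^ (m ^ 2) * (2 * ∏ i ∈ Finset.range m, (Fintype.card F ^ (2 * (i + 1)) - 1)) := by
    rw [← index_commutator_odd hc.nondeg h2 (by omega), ← index_omega, Subgroup.index_mul_card, hO,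
      Nat.card_eq_fintype_card]
    ring
  obtain ⟨f, hpr, hq⟩ := FiniteField.card F p
  have hp2 : ¬ p ∣ 2 := fun h => by
    have h' : p = 2 := (Nat.prime_dvd_prime_iff_eq hpr Nat.prime_two).1 h
    subst h'
    exact h2 (CharP.cast_eq_zero F 2)
  have : IsSimpleGroup (Cfsg.POmega F ⇑Q) := Cfsg.Agent.S0295.result hodd m hm
  exact pair_omega (p := p) hc m (by omega) hex hmax (m ^ 2) 4 _ hcard
    (fun h => hp2 (hpr.dvd_of_dvd_pow (n := 2) h))
    (fun h => (hpr.dvd_mul.1 h).elim hp2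
      (not_dvd_prod_sq_sub_one hpr (hq ▸ dvd_pow_self p f.ne_zero) Fintype.card_ne_zero m))
    (by rw [hd]; ring)

theorem pair_omega_plus {m : ℕ} (hm : 4 ≤ m) : Pair p (Cfsg.POmega F (Cfsg.quadFormPlus m F)) := by
  classical
  by_cases h4 : m = 4
  · subst h4
    obtain ⟨e⟩ := Cfsg.Agent.S1082.result (F := F)
    have := Cfsg.Agent.S0296.result (F := F) 4 le_rfl
    have : IsSimpleGroup ↥(Cfsg.Lie.chevD4.group F) := e.isSimpleGroup
    exact pair_of_mulEquiv e (pair_chev_tree (by simp) inferInstance)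
  obtain ⟨j, rfl⟩ : ∃ j, m = j + 1 := ⟨m - 1, by omega⟩
  have hc := AutPOmega.ctx_plus (F := F) (m := j + 1) (by omega)
  set Q := AutPOmega.qPlus F (j + 1)
  have hd : finrank F (Fin (j + 1) ⊕ Fin (j + 1) → F) = 2 * (j + 1) := by simp; ring
  obtain ⟨⟨U, hU, hUd⟩, hmax⟩ := plus_index (F := F) (j + 1)
  obtain ⟨f, hpr, hq⟩ := FiniteField.card F p
  set q := Fintype.card F with hqdef
  have hpq : p ∣ q := hq ▸ dvd_pow_self p f.ne_zero
  have hq0 : q ≠ 0 := Fintype.card_ne_zero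
  set r := (q ^ (j + 1) - 1) * ∏ i ∈ Finset.range j, (q ^ (2 * (i + 1)) - 1) with hr
  have hpr' : ¬ p ∣ r := fun h => (hpr.dvd_mul.1 h).elim
    (not_dvd_pow_sub_one hpr hpq hq0 (by omega)) (not_dvd_prod_sq_sub_one hpr hpq hq0 j)
  have hiso : Nat.card (Cfsg.isometryGroup F ⇑Q) = _ :=
    (card_isometryGroup_eq (plusCoord (j + 1)) (plusCoord_map (j + 1))).trans (card_oG_plus rfl j)
  have hO : (commutator (oG Q)).index * Nat.card (Cfsg.Omega F ⇑Q) = 2 * (q ^ ((j + 1) * j) * r) := by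
    rw [← index_omega, Subgroup.index_mul_card, hiso, hr]
    ring
  obtain ⟨k, r', hk, hr', hcard⟩ : ∃ k r', ¬ p ∣ k ∧ ¬ p ∣ r' ∧
      k * Nat.card (Cfsg.Omega F ⇑Q) = Nat.card F ^ ((j + 1) * j) * r' := by
    rw [Nat.card_eq_fintype_card (α := F)]
    by_cases h2 : (2 : F) = 0
    · have : CharP F 2 := CharTwo.of_one_ne_zero_of_two_eq_zero one_ne_zero h2
      rw [(commutator_eq_ker_dickson hc.nondeg (Or.inr (by omega)) (by omega)).2] at hO
      exact ⟨1, r, hpr.not_dvd_one, hpr', by rw [one_mul]; exact Nat.eq_of_mul_eq_mul_left two_pos hO⟩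
    · rw [index_commutator_odd hc.nondeg h2 (by omega)] at hO
      have hp2 : ¬ p ∣ 2 := fun h => by
        have h' : p = 2 := (Nat.prime_dvd_prime_iff_eq hpr Nat.prime_two).1 h
        subst h'
        exact h2 (CharP.cast_eq_zero F 2)
      exact ⟨4, 2 * r, fun h => hp2 (hpr.dvd_of_dvd_pow (n := 2) h),
        fun h => (hpr.dvd_mul.1 h).elim hp2 hpr', by rw [hO]; ring⟩
  have : IsSimpleGroup (Cfsg.POmega F ⇑Q) := Cfsg.Agent.S0296.result (j + 1) hm
  exact pair_omega (p := p) hc (j + 1) (by omega) ⟨U, hU, hUd⟩ hmax ((j + 1) * j) k r' hcard hk hr'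
    (by rw [hd]; ring)

theorem pair_omega_minus {m : ℕ} (hm : 4 ≤ m) (a b : F)
    (hab : ∀ z₁ z₂ : F, z₁ ^ 2 + a * z₁ * z₂ + b * z₂ ^ 2 = 0 → z₁ = 0 ∧ z₂ = 0) :
    Pair p (Cfsg.POmega F (Cfsg.quadFormMinus (m - 1) F a b)) := by
  classical
  have hsimp := Cfsg.Agent.S0297.result m hm a b hab
  obtain ⟨l, rfl⟩ : ∃ l, m = l + 1 := ⟨m - 1, by omega⟩
  rw [Nat.add_sub_cancel] at hsimp
  rw [Nat.add_sub_cancel]
  have hc := AutPOmega.ctx_minus (F := F) (m := l) (by omega) hab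
  set Q := AutPOmega.qMinus F l a b
  have hd : finrank F ((Fin l ⊕ Fin l) ⊕ Fin 2 → F) = 2 * l + 2 := by simp; ring
  obtain ⟨⟨U, hU, hUd⟩, hmax⟩ := minus_index hab l
  obtain ⟨f, hpr, hq⟩ := FiniteField.card F p
  set q := Fintype.card F with hqdef
  have hpq : p ∣ q := hq ▸ dvd_pow_self p f.ne_zero
  have hq0 : q ≠ 0 := Fintype.card_ne_zero
  set r := (q ^ (l + 1) + 1) * ∏ i ∈ Finset.range l, (q ^ (2 * (i + 1)) - 1) with hr
  have hpr' : ¬ p ∣ r := fun h => (hpr.dvd_mul.1 h).elim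
    (not_dvd_pow_add_one hpr hpq (by omega)) (not_dvd_prod_sq_sub_one hpr hpq hq0 l)
  have hiso : Nat.card (Cfsg.isometryGroup F ⇑Q) = _ :=
    (card_isometryGroup_eq (minusCoord l) (minusCoord_map a b l)).trans (card_oG_minus hab rfl l)
  have hO : (commutator (oG Q)).index * Nat.card (Cfsg.Omega F ⇑Q) = 2 * (q ^ ((l + 1) * l) * r) := by
    rw [← index_omega, Subgroup.index_mul_card, hiso, hr]
    ring
  obtain ⟨k, r', hk, hr', hcard⟩ : ∃ k r', ¬ p ∣ k ∧ ¬ p ∣ r' ∧
      k * Nat.card (Cfsg.Omega F ⇑Q) = Nat.card F ^ ((l + 1) * l) * r' := by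
    rw [Nat.card_eq_fintype_card (α := F)]
    by_cases h2 : (2 : F) = 0
    · have : CharP F 2 := CharTwo.of_one_ne_zero_of_two_eq_zero one_ne_zero h2
      rw [(commutator_eq_ker_dickson hc.nondeg (Or.inr (by omega)) (by omega)).2] at hO
      exact ⟨1, r, hpr.not_dvd_one, hpr', by rw [one_mul]; exact Nat.eq_of_mul_eq_mul_left two_pos hO⟩
    · rw [index_commutator_odd hc.nondeg h2 (by omega)] at hO
      have hp2 : ¬ p ∣ 2 := fun h => by
        have h' : p = 2 := (Nat.prime_dvd_prime_iff_eq hpr Nat.prime_two).1 h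
        subst h'
        exact h2 (CharP.cast_eq_zero F 2)
      exact ⟨4, 2 * r, fun h => hp2 (hpr.dvd_of_dvd_pow (n := 2) h),
        fun h => (hpr.dvd_mul.1 h).elim hp2 hpr', by rw [hO]; ring⟩
  have : IsSimpleGroup (Cfsg.POmega F ⇑Q) := hsimp
  exact pair_omega (p := p) hc l (by omega) ⟨U, hU, hUd⟩ hmax ((l + 1) * l) k r' hcard hk hr'
    (by rw [hd]; ring)

end Cfsg.Agent.PMinLie
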