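import Cfsg.Agent.PMinLie.Basic
import Cfsg.Agent.Classical.SmallPSL

/-!
The special linear group of degree two over the field with eight elements and the prime three.
-/

set_option autoImplicit false
set_option linter.unusedSectionVars false

namespace Cfsg.Agent.PMinLie.LTwoEight

open Subgroup Matrix
open scoped MatrixGroups

variable {F : Type} [Field F] [Fintype F] (hF : Fintype.card F = 8)
include hF

theorem two_eq_zero : (2 : F) = 0 := by
  have h := FiniteField.cast_card_eq_zero F
  rw [hF] at h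
  have h2 : (2 : F) ^ 3 = 0 := by norm_num; exact h
  exact eq_zero_of_pow_eq_zero h2

theorem pow_eight (x : F) : x ^ 8 = x := hF ▸ FiniteField.pow_card x

theorem center_eq_bot : Subgroup.center (SpecialLinearGroup (Fin 2) F) = ⊥ := by
  refine (Subgroup.eq_bot_iff_forall _).2 fun z hz => ?_
  obtain ⟨r, hr, h⟩ := Matrix.SpecialLinearGroup.mem_center_iff.1 hz
  have h1 : r = 1 := by
    have h2 : r ^ 2 = 1 := by simpa using hr
    have h3 : (r - 1) ^ 2 = 0 := by linear_combination h2 + (1 - r) * two_eq_zero hF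
    exact sub_eq_zero.1 (eq_zero_of_pow_eq_zero h3)
  refine Subtype.ext ?_
  rw [← h, h1, map_one]
  rfl

/-- An element commuting with one of order three has ninth power one. -/
theorem pow_nine {g h : Matrix (Fin 2) (Fin 2) F} (hg : g.det = 1) (hh : h.det = 1) (h3 : g * (g * g) = 1)
    (hne : g ≠ 1) (hc : g * h = h * g) : h ^ 9 = 1 := by
  have h2 := two_eq_zero hF
  rw [det_fin_two] at hg hh
  have hCH : ∀ i j, (g * g) i j = (g 0 0 + g 1 1) * g i j - (1 : Matrix (Fin 2) (Fin 2) F) i j := by
    intro i j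
    fin_cases i <;> fin_cases j <;> simp [Matrix.mul_apply, Fin.sum_univ_two] <;> first
      | linear_combination (-1 : F) * hg
      | ring
  have hCH' : g * g = (g 0 0 + g 1 1) • g - 1 := Matrix.ext fun i j => hCH i j
  set t := g 0 0 + g 1 1
  have h3' : (t ^ 2 - 1) • g = (1 + t) • (1 : Matrix (Fin 2) (Fin 2) F) := by
    rw [hCH', mul_sub, mul_smul_comm, hCH', mul_one] at h3
    linear_combination (norm := module) h3
  have ht : t = 1 := by
    by_contra ht
    have ht2 : t ^ 2 - 1 ≠ 0 := fun h => ht (sub_eq_zero.1 (eq_zero_of_pow_eq_zero (n := 2)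
      (by linear_combination h + (1 - t) * h2)))
    have hg' : g = ((t ^ 2 - 1)⁻¹ * (1 + t)) • (1 : Matrix (Fin 2) (Fin 2) F) := by
      rw [← smul_smul, ← h3', smul_smul, inv_mul_cancel₀ ht2, one_smul]
    set s := (t ^ 2 - 1)⁻¹ * (1 + t)
    have hs : s * s = 1 := by
      rw [hg'] at hg
      simpa using hg
    refine hne ?_
    rw [hg', show s = 1 from sub_eq_zero.1 (eq_zero_of_pow_eq_zero (n := 2)
      (by linear_combination hs + (1 - s) * h2)), one_smul]
  have hsq : g * g = g + 1 := by
    rw [hCH', ht, one_smul, eq_comm]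
    ext i j
    simp only [Matrix.add_apply, Matrix.sub_apply]
    linear_combination (1 : Matrix (Fin 2) (Fin 2) F) i j * h2
  have hg01 : g 0 1 ≠ 0 := fun h0 => by
    rw [h0, zero_mul, sub_zero] at hg
    have e1 : g 1 1 = 1 - g 0 0 := by linear_combination ht
    rw [e1] at hg
    have e2 : g 0 0 * g 0 0 = g 0 0 + 1 := by linear_combination (-1 : F) * hg - h2
    have e3 : g 0 0 ^ 3 = 1 := by linear_combination (g 0 0 + 1) * e2 + g 0 0 * h2
    have e8 := pow_eight hF (g 0 0)
    have e4 : g 0 0 ^ 8 = g 0 0 ^ 2 := by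
      rw [show (8 : ℕ) = 3 + 3 + 2 from rfl, pow_add, pow_add, e3, one_mul, one_mul]
    rw [e4, pow_two, e2] at e8
    exact one_ne_zero (α := F) (by linear_combination e8)
  set b := h 0 1 / g 0 1 with hb
  set a := h 0 0 - b * g 0 0 with ha
  have hb' : b * g 0 1 = h 0 1 := div_mul_cancel₀ _ hg01
  have c00 := congrFun (congrFun hc 0) 0
  have c01 := congrFun (congrFun hc 0) 1
  simp only [Matrix.mul_apply, Fin.sum_univ_two] at c00 c01
  have h10 : h 1 0 = b * g 1 0 := by
    apply mul_left_cancel₀ hg01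
    linear_combination c00 - g 1 0 * hb'
  have h11 : h 1 1 = a + b * g 1 1 := by
    apply mul_left_cancel₀ hg01
    linear_combination c01 + (g 0 0 - g 1 1) * hb'
  have hdec : h = a • (1 : Matrix (Fin 2) (Fin 2) F) + b • g := by
    ext i j
    fin_cases i <;> fin_cases j <;>
      simp only [Fin.zero_eta, Fin.mk_one, Matrix.add_apply, Matrix.smul_apply, smul_eq_mul,
        Matrix.one_apply_eq, mul_one]
    · rw [ha]; ring
    · simp [Matrix.one_apply, hb']
    · simp [Matrix.one_apply, h10]
    · exact h11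
  have hdet : a * a + a * b + b * b = 1 := by
    rw [hdec] at hh
    simp at hh
    linear_combination hh - (a * b) * ht - (b * b) * hg
  have hmul : ∀ x y z w : F, (x • (1 : Matrix (Fin 2) (Fin 2) F) + y • g) * (z • 1 + w • g) =
      (x * z + y * w) • (1 : Matrix (Fin 2) (Fin 2) F) + (x * w + y * z + y * w) • g := by
    intro x y z w
    rw [add_mul, mul_add, mul_add, smul_mul_smul_comm, smul_mul_smul_comm, smul_mul_smul_comm,
      smul_mul_smul_comm, one_mul, one_mul, mul_one, hsq]
    module
  have hdbl : ∀ x y : F, (x • (1 : Matrix (Fin 2) (Fin 2) F) + y • g) ^ 2 =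
      (x ^ 2 + y ^ 2) • (1 : Matrix (Fin 2) (Fin 2) F) + y ^ 2 • g := by
    intro x y
    rw [pow_two, hmul, pow_two x, pow_two y,
      show x * y + y * x + y * y = y * y by linear_combination x * y * h2]
  have h8 : h ^ 8 = (a + b) • (1 : Matrix (Fin 2) (Fin 2) F) + b • g := by
    rw [show (8 : ℕ) = 2 * 2 * 2 from rfl, pow_mul, pow_mul, hdec, hdbl, hdbl, hdbl]
    congr 1
    · congr 1
      conv_rhs => rw [← pow_eight hF a, ← pow_eight hF b]
      linear_combination (2 * a ^ 6 * b ^ 2 + 4 * a ^ 4 * b ^ 4 + 4 * a ^ 2 * b ^ 6 + 2 * b ^ 8) * h2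
    · congr 1
      conv_rhs => rw [← pow_eight hF b]
      ring
  rw [pow_succ, h8, hdec, hmul, show (a + b) * a + b * b = 1 by linear_combination hdet,
    show (a + b) * b + b * a + b * b = 0 by linear_combination (a * b + b * b) * h2, one_smul, zero_smul,
    add_zero]

/-- The centraliser of an element of order three. -/
theorem centralizer_isPGroup [Fact (Nat.Prime 3)] {x y : Matrix.ProjectiveSpecialLinearGroup (Fin 2) F}
    (hx : x ^ 3 = 1) (hne : x ≠ 1) (hc : x * y = y * x) : y ^ 9 = 1 := by
  obtain ⟨g, rfl⟩ := QuotientGroup.mk_surjective x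
  obtain ⟨h, rfl⟩ := QuotientGroup.mk_surjective y
  have hinj : ∀ {u v : SpecialLinearGroup (Fin 2) F},
      (QuotientGroup.mk u : Matrix.ProjectiveSpecialLinearGroup (Fin 2) F) = QuotientGroup.mk v → u = v := by
    intro u v e
    have := QuotientGroup.eq.1 e
    rw [center_eq_bot hF, Subgroup.mem_bot] at this
    exact inv_mul_eq_one.1 this
  have hg : g ^ 3 = 1 := hinj (by rw [QuotientGroup.mk_pow]; exact hx)
  have hcg : g * h = h * g := hinj hc
  have hg1 : g ≠ 1 := fun e => hne (by rw [e]; rfl)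
  have h9 : h ^ 9 = 1 := by
    refine Subtype.ext ((Matrix.SpecialLinearGroup.coe_pow h 9).trans ?_)
    refine pow_nine hF g.2 h.2 ?_ (fun e => hg1 (Subtype.ext e)) (congrArg Subtype.val hcg)
    have := (Matrix.SpecialLinearGroup.coe_pow g 3).symm.trans (congrArg Subtype.val hg)
    rwa [pow_succ', pow_two] at this
  rw [← QuotientGroup.mk_pow, h9]
  rfl

theorem solo_L28 [Fact (Nat.Prime 3)] : Solo 3 (Matrix.ProjectiveSpecialLinearGroup (Fin 2) F) := by
  classical
  have hs : IsSimpleGroup (Matrix.ProjectiveSpecialLinearGroup (Fin 2) F) :=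
    Classical.isSimpleGroup_psl (Or.inr ⟨by simp, Classical.Small.exists_sq_ne_one (by omega)⟩)
  have hcard : Nat.card (Matrix.ProjectiveSpecialLinearGroup (Fin 2) F) = 504 := by
    have h1 := Classical.card_psl_mul (F := F) (ι := Fin 2)
    have h2 := Classical.card_sl_mul (F := F) hF 2 (by norm_num)
    rw [Fintype.card_fin, hF] at h1
    rw [Fin.prod_univ_two] at h2
    norm_num [-Nat.card_eq_fintype_card] at h1 h2
    omega
  intro U
  have hU : Nat.card U = 3 ^ 2 := by
    rw [U.card_eq_multiplicity, hcard, show (504 : ℕ) = 3 ^ 2 * 56 from rfl,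
      Nat.factorization_mul (by norm_num) (by norm_num), Finsupp.add_apply,
      Nat.factorization_eq_zero_of_not_dvd (n := 56) (by norm_num), Nat.Prime.factorization_pow Nat.prime_three,
      Finsupp.single_eq_same, add_zero]
  have hbot : (U : Subgroup (Matrix.ProjectiveSpecialLinearGroup (Fin 2) F)) ≠ ⊥ := fun h => by
    rw [show Nat.card U = Nat.card (U : Subgroup (Matrix.ProjectiveSpecialLinearGroup (Fin 2) F)) from rfl, h, card_bot] at hU
    norm_num at hU
  have htop : (U : Subgroup (Matrix.ProjectiveSpecialLinearGroup (Fin 2) F)) ≠ ⊤ := fun h => by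
    rw [show Nat.card U = Nat.card (U : Subgroup (Matrix.ProjectiveSpecialLinearGroup (Fin 2) F)) from rfl, h, card_top, hcard] at hU
    norm_num at hU
  refine ⟨normalizer_ne_top hbot le_rfl htop, fun M hM => ?_⟩
  by_cases hMtop : M = ⊤
  · exact Or.inl hMtop
  refine Or.inr ?_
  let Um : Sylow 3 M := U.subtype hM
  have hUm : Nat.card Um = 3 ^ 2 := (Nat.card_congr (subgroupOfEquivOfLe hM).toEquiv).trans hU
  have hd : (Um : Subgroup M).index ≤ 8 := by
    have h1 := (Um : Subgroup M).card_mul_index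
    have h2 := M.card_mul_index
    rw [hcard, ← h1, show Nat.card (Um : Subgroup M) = 9 from hUm] at h2
    set d := (Um : Subgroup M).index
    have hdvd : d ∈ Nat.divisors 56 := Nat.mem_divisors.2 ⟨⟨M.index, by nlinarith⟩, by norm_num⟩
    rw [show Nat.divisors 56 = {1, 2, 4, 7, 8, 14, 28, 56} by decide] at hdvd
    simp only [Finset.mem_insert, Finset.mem_singleton] at hdvd
    have hf := dvd_index_factorial hs hMtop
    rw [hcard] at hf
    rcases hdvd with h | h | h | h | h | h | h | h <;> rw [h] at h2 ⊢ <;> try norm_num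
    · rw [show M.index = 4 by omega] at hf; exact absurd hf (by norm_num [Nat.factorial])
    · rw [show M.index = 2 by omega] at hf; exact absurd hf (by norm_num [Nat.factorial])
    · exact absurd (index_eq_one.1 (by omega : M.index = 1)) hMtop
  have hn : Nat.card (Sylow 3 M) ≤ 8 :=
    (Nat.le_of_dvd (Nat.pos_of_ne_zero index_ne_zero_of_finite) (Sylow.card_dvd_index Um)).trans hd
  have huniq : ∀ V : Sylow 3 M, V = Um := by
    intro V
    obtain ⟨z, hz, hzV⟩ : ∃ z : (Um : Subgroup M), z ≠ 1 ∧ z • V = V := by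
      by_contra hno
      push Not at hno
      have hinj : Function.Injective fun z : (Um : Subgroup M) => z • V := fun a b e => by
        by_contra hab
        refine hno (b⁻¹ * a) (fun h => hab (inv_mul_eq_one.1 h).symm) ?_
        have e' : a • V = b • V := e
        rw [mul_smul, e', inv_smul_smul]
      have := Nat.card_le_card_of_injective _ hinj
      rw [show Nat.card (Um : Subgroup M) = 9 from hUm] at this
      omega
    have hzN : (z : M) ∈ Subgroup.normalizer ((V : Subgroup M) : Set M) := Sylow.smul_eq_iff_mem_normalizer.1 hzV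
    have hle : Subgroup.zpowers (z : M) ≤ (V : Subgroup M) := by
      have h1 : Subgroup.zpowers (z : M) ⊓ Subgroup.normalizer ((V : Subgroup M) : Set M) =
          Subgroup.zpowers (z : M) ⊓ (V : Subgroup M) :=
        IsPGroup.inf_normalizer_sylow (Um.2.to_le (zpowers_le.2 z.2)) V
      rw [inf_eq_left.2 (zpowers_le.2 hzN), eq_comm, inf_eq_left] at h1
      exact h1
    have hVcard : Nat.card V = 3 ^ 2 := by rw [V.card_eq_multiplicity, ← Um.card_eq_multiplicity, hUm]
    -- an element of order three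
    obtain ⟨w, hw1, hw3, hwU, hwV⟩ : ∃ w : M, w ≠ 1 ∧ w ^ 3 = 1 ∧ w ∈ (Um : Subgroup M) ∧ w ∈ (V : Subgroup M) := by
      have hzV' : (z : M) ∈ (V : Subgroup M) := hle (mem_zpowers _)
      have h9 : (z : M) ^ 9 = 1 := by
        have := pow_card_eq_one' (x := z)
        rw [show Nat.card (Um : Subgroup M) = 9 from hUm] at this
        exact congrArg Subtype.val this
      by_cases h3 : (z : M) ^ 3 = 1
      · exact ⟨z, fun h => hz (Subtype.ext h), h3, z.2, hzV'⟩
      · exact ⟨(z : M) ^ 3, h3, by rw [← pow_mul]; exact h9, pow_mem z.2 3, pow_mem hzV' 3⟩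
    have hP : IsPGroup 3 (Subgroup.centralizer {w}) := fun y => ⟨2, by
      refine Subtype.ext (Subtype.ext ?_)
      have hyc : (w : M) * y.1 = y.1 * w := (mem_centralizer_singleton_iff.1 y.2).symm
      exact centralizer_isPGroup hF (x := (w.1 : Matrix.ProjectiveSpecialLinearGroup (Fin 2) F))
        (congrArg Subtype.val hw3) (fun h => hw1 (Subtype.ext h)) (congrArg Subtype.val hyc)⟩
    have hab : ∀ W : Sylow 3 M, Nat.card W = 3 ^ 2 → w ∈ (W : Subgroup M) →
        (W : Subgroup M) ≤ Subgroup.centralizer {w} := fun W hW hwW x hx =>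
      mem_centralizer_singleton_iff.2
        (congrArg Subtype.val (IsPGroup.commutative_of_card_eq_prime_sq hW (⟨x, hx⟩ : W) ⟨w, hwW⟩))
    refine Sylow.ext ((V.3 Um.2 ?_).symm)
    rw [← Um.3 hP (hab Um hUm hwU)]
    exact hab V hVcard hwV
  intro g hg
  have hfix : (⟨g, hg⟩ : M) • Um = Um := huniq _
  have hmem := Sylow.smul_eq_iff_mem_normalizer.1 hfix
  refine Subgroup.mem_normalizer_iff.2 fun x => ⟨fun hx => ?_, fun hx => ?_⟩
  · have h1 := (Subgroup.mem_normalizer_iff.1 hmem ⟨x, hM hx⟩).1 (mem_subgroupOf.2 hx)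
    exact h1
  · have hxM : x ∈ M := by
      have h1 := M.mul_mem (M.mul_mem (M.inv_mem hg) (hM hx)) hg
      simpa [mul_assoc] using h1
    exact (Subgroup.mem_normalizer_iff.1 hmem ⟨x, hxM⟩).2 hx

end Cfsg.Agent.PMinLie.LTwoEight
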