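import Cfsg.Agent.PMinLie.Stab
import Cfsg.Agent.TitsLemma.Linear
import Cfsg.Agent.UniTri.Basic
import Cfsg.Agent.AutPSL.Structure

/-!
The projective special linear groups: rank one for degree two, two maximal overgroups for degree three, two
invariant overgroups for larger degree.
-/

set_option autoImplicit false
set_option linter.unusedSectionVars false

namespace Cfsg.Agent.PMinLie

open Module Matrix Cfsg.Agent.RootSub.TransFam Cfsg.Agent.UniTri
open scoped MatrixGroups

universe u

namespace Lin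

variable {F : Type u} [Field F] {n : ℕ}

/-- The action. -/
abbrev rep (n : ℕ) (F : Type u) [Field F] :
    SpecialLinearGroup (Fin n) F →* ((Fin n → F) ≃ₗ[F] (Fin n → F)) :=
  slRep n F

/-- The contragredient action. -/
def coRep (n : ℕ) (F : Type u) [Field F] :
    SpecialLinearGroup (Fin n) F →* ((Fin n → F) ≃ₗ[F] (Fin n → F)) :=
  (slRep n F).comp (AutPSL.iotaSL (n := n) (F := F)).toMonoidHom

theorem coRep_apply (s : SpecialLinearGroup (Fin n) F) : coRep n F s = slRep n F (AutPSL.iotaSL s) := rfl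

/-- The first `k` coordinates. -/
def lead (n : ℕ) (F : Type u) [Field F] (k : ℕ) : Set (Fin n → F) := {v | ∀ i : Fin n, k ≤ (i : ℕ) → v i = 0}

/-- The last `k` coordinates. -/
def trail (n : ℕ) (F : Type u) [Field F] (k : ℕ) : Set (Fin n → F) :=
  {v | ∀ i : Fin n, (i : ℕ) + k < n → v i = 0}

theorem tv_apply_vec {i j : Fin n} (hij : i ≠ j) (c : F) (v : Fin n → F) :
    rep n F (SpecialLinearGroup.transvection hij c) v = v + Pi.single i (c * v j) := by
  show (1 + Matrix.single i j c : Matrix (Fin n) (Fin n) F) *ᵥ v = _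
  rw [Matrix.add_mulVec, Matrix.one_mulVec]
  congr 1
  ext l
  rw [Matrix.mulVec, dotProduct]
  by_cases h : l = i
  · subst h; simp [Matrix.single_apply]
  · simp [Matrix.single_apply, h, Ne.symm h]

theorem coRep_tv_apply {i j : Fin n} (hij : i ≠ j) (c : F) (v : Fin n → F) :
    coRep n F (SpecialLinearGroup.transvection hij c) v = v + Pi.single j (-c * v i) := by
  have h : AutPSL.iotaSL (SpecialLinearGroup.transvection hij c) =
      SpecialLinearGroup.transvection (Ne.symm hij) (-c) := by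
    refine Subtype.ext ?_
    rw [AutPSL.iotaSL_coe]
    have hinv : (SpecialLinearGroup.transvection hij c)⁻¹ = SpecialLinearGroup.transvection hij (-c) := by
      refine inv_eq_of_mul_eq_one_right (Subtype.ext ?_)
      show (1 + Matrix.single i j c) * (1 + Matrix.single i j (-c)) = (1 : Matrix (Fin n) (Fin n) F)
      rw [Matrix.add_mul, Matrix.mul_add, Matrix.mul_add, Matrix.one_mul, Matrix.one_mul, Matrix.mul_one,
        Matrix.single_mul_single_of_ne _ _ _ _ (Ne.symm hij), add_zero, add_assoc, ← Matrix.single_add,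
        neg_add_cancel, Matrix.single_zero, add_zero]
    rw [hinv]
    show (1 + Matrix.single i j (-c) : Matrix (Fin n) (Fin n) F)ᵀ = 1 + Matrix.single j i (-c)
    rw [Matrix.transpose_add, Matrix.transpose_one, Matrix.transpose_single]
  rw [coRep_apply, h, tv_apply_vec]

theorem lead_step {v : Fin n → F} {k : ℕ} (hv : v ∈ lead n F (k + 1))
    {u : SpecialLinearGroup (Fin n) F} (hu : u ∈ unitri n F) : rep n F u v - v ∈ lead n F k := by
  intro i hi
  obtain ⟨h1, h2⟩ := mem_unitri.1 hu
  show ((u : Matrix (Fin n) (Fin n) F) *ᵥ v) i - v i = 0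
  rw [Matrix.mulVec, dotProduct, Finset.sum_eq_single i, h2, one_mul, sub_self]
  · intro l _ hl
    rcases lt_or_gt_of_ne hl with h | h
    · rw [h1 i l h, zero_mul]
    · rw [hv l (by have : (i : ℕ) < (l : ℕ) := h; omega), mul_zero]
  · simp

theorem trail_step {v : Fin n → F} {k : ℕ} (hv : v ∈ trail n F (k + 1))
    {u : SpecialLinearGroup (Fin n) F} (hu : u ∈ unitri n F) : coRep n F u v - v ∈ trail n F k := by
  intro i hi
  obtain ⟨h1, h2⟩ := mem_unitri.1 (inv_mem hu)
  show (((AutPSL.iotaSL u) : Matrix (Fin n) (Fin n) F) *ᵥ v) i - v i = 0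
  rw [AutPSL.iotaSL_coe, Matrix.mulVec, dotProduct, Finset.sum_eq_single i, Matrix.transpose_apply, h2,
    one_mul, sub_self]
  · intro l _ hl
    rw [Matrix.transpose_apply]
    rcases lt_or_gt_of_ne hl with h | h
    · rw [hv l (by have : (l : ℕ) < (i : ℕ) := h; omega), mul_zero]
    · rw [h1 l i h, zero_mul]
  · simp

theorem lead_zero {v : Fin n → F} (hv : v ∈ lead n F 0) : v = 0 := funext fun i => hv i (Nat.zero_le _)

theorem trail_zero {v : Fin n → F} (hv : v ∈ trail n F 0) : v = 0 :=
  funext fun i => hv i (by omega)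

theorem fixSet_rep (hn : 1 ≤ n) : fixSet (rep n F) (unitri n F) = lead n F 1 := by
  ext v
  constructor
  · intro hv j hj
    have h0 : (⟨0, hn⟩ : Fin n) < j := by show 0 < (j : ℕ); omega
    have h := hv _ (tv_mem h0 (1 : F))
    rw [tv_apply_vec, one_mul, add_eq_left] at h
    simpa using congrFun h ⟨0, hn⟩
  · intro hv u hu
    exact sub_eq_zero.1 (lead_zero (lead_step hv hu))

theorem fixSet_coRep (hn : 1 ≤ n) : fixSet (coRep n F) (unitri n F) = trail n F 1 := by
  ext v
  constructor
  · intro hv j hj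
    have h0 : j < (⟨n - 1, by omega⟩ : Fin n) := by show (j : ℕ) < n - 1; omega
    have h := hv _ (tv_mem h0 (1 : F))
    rw [coRep_tv_apply, add_eq_left] at h
    simpa using congrFun h ⟨n - 1, by omega⟩
  · intro hv u hu
    exact sub_eq_zero.1 (trail_zero (trail_step hv hu))

theorem fixSet₂_rep (hn : 2 ≤ n) : fixSet₂ (rep n F) (unitri n F) = lead n F 2 := by
  ext v
  constructor
  · intro hv j hj
    have h0 : (⟨1, hn⟩ : Fin n) < j := by show 1 < (j : ℕ); omega
    have h := hv _ (tv_mem h0 (1 : F))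
    rw [fixSet_rep (by omega), tv_apply_vec, one_mul, add_sub_cancel_left] at h
    simpa using h ⟨1, hn⟩ le_rfl
  · intro hv u hu
    rw [fixSet_rep (by omega)]
    exact lead_step hv hu

theorem fixSet₂_coRep (hn : 2 ≤ n) : fixSet₂ (coRep n F) (unitri n F) = trail n F 2 := by
  ext v
  constructor
  · intro hv j hj
    have h0 : j < (⟨n - 2, by omega⟩ : Fin n) := by show (j : ℕ) < n - 2; omega
    have h := hv _ (tv_mem h0 (1 : F))
    rw [fixSet_coRep (by omega), coRep_tv_apply, add_sub_cancel_left] at h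
    simpa using h ⟨n - 2, by omega⟩ (by show n - 2 + 1 < n; omega)
  · intro hv u hu
    rw [fixSet_coRep (by omega)]
    exact trail_step hv hu

variable [Finite F]

theorem unitri_le_setStab_lead (k : ℕ) : unitri n F ≤ setStab (rep n F) (lead n F k) := fun u hu =>
  mem_setStab_of_subset fun v hv i hi => by
    rcases k with _ | k
    · rw [lead_zero hv, map_zero]; rfl
    · have h := lead_step hv hu i (by omega)
      rwa [Pi.sub_apply, hv i hi, sub_zero] at h

theorem unitri_le_setStab_trail (k : ℕ) : unitri n F ≤ setStab (coRep n F) (trail n F k) := fun u hu =>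
  mem_setStab_of_subset fun v hv i hi => by
    rcases k with _ | k
    · rw [trail_zero hv, map_zero]; rfl
    · have h := trail_step hv hu i (by omega)
      rwa [Pi.sub_apply, hv i hi, sub_zero] at h

theorem center_scalar {z : SpecialLinearGroup (Fin n) F} (hz : z ∈ Subgroup.center _) :
    ∃ r : F, ∀ v : Fin n → F, rep n F z v = r • v := by
  obtain ⟨r, -, hzr⟩ := Matrix.SpecialLinearGroup.mem_center_iff.1 hz
  refine ⟨r, fun v => ?_⟩
  show (z : Matrix (Fin n) (Fin n) F) *ᵥ v = _
  rw [← hzr]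
  ext i
  simp [Matrix.mulVec_diagonal, Matrix.scalar_apply]

theorem center_le_setStab_lead (k : ℕ) :
    Subgroup.center (SpecialLinearGroup (Fin n) F) ≤ setStab (rep n F) (lead n F k) := fun z hz =>
  mem_setStab_of_subset fun v hv i hi => by
    obtain ⟨r, hr⟩ := center_scalar hz
    rw [hr, Pi.smul_apply, hv i hi, smul_zero]

theorem center_le_setStab_trail (k : ℕ) :
    Subgroup.center (SpecialLinearGroup (Fin n) F) ≤ setStab (coRep n F) (trail n F k) := fun z hz =>
  mem_setStab_of_subset fun v hv i hi => by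
    have hz' : AutPSL.iotaSL z ∈ Subgroup.center (SpecialLinearGroup (Fin n) F) :=
      (AutPSL.map_center (AutPSL.iotaSL (n := n) (F := F))).le ⟨z, hz, rfl⟩
    obtain ⟨r, hr⟩ := center_scalar hz'
    rw [coRep_apply]
    show rep n F _ v i = 0
    rw [hr, Pi.smul_apply, hv i hi, smul_zero]

theorem setStab_lead_ne_top (k : ℕ) (hk : 1 ≤ k) (hkn : k < n) : setStab (rep n F) (lead n F k) ≠ ⊤ := by
  intro h
  have hij : (⟨k, hkn⟩ : Fin n) ≠ ⟨0, by omega⟩ := fun e => by have := congrArg Fin.val e; simp at this; omega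
  have hv : (Pi.single ⟨0, by omega⟩ 1 : Fin n → F) ∈ lead n F k := fun i hi =>
    Pi.single_eq_of_ne (fun e => by have := congrArg Fin.val e; simp at this; omega) _
  have h1 := ((h.symm ▸ Subgroup.mem_top _ :
    SpecialLinearGroup.transvection hij (1 : F) ∈ setStab (rep n F) (lead n F k)) _).2 hv ⟨k, hkn⟩ le_rfl
  rw [tv_apply_vec] at h1
  simp [Pi.single_eq_of_ne hij] at h1

theorem triangular_le_normalizer {g : SpecialLinearGroup (Fin n) F}
    (hg : (g : Matrix (Fin n) (Fin n) F).BlockTriangular id) :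
    g ∈ Subgroup.normalizer (unitri n F : Set (SpecialLinearGroup (Fin n) F)) := by
  have key : ∀ g : SpecialLinearGroup (Fin n) F, (g : Matrix (Fin n) (Fin n) F).BlockTriangular id →
      ((g⁻¹ : SpecialLinearGroup (Fin n) F) : Matrix (Fin n) (Fin n) F).BlockTriangular id := by
    intro g hg
    have hl : ((g⁻¹ : SpecialLinearGroup (Fin n) F) : Matrix (Fin n) (Fin n) F) * g = 1 :=
      congrArg (fun X : SpecialLinearGroup (Fin n) F => (X : Matrix (Fin n) (Fin n) F)) (inv_mul_cancel g)
    haveI : Invertible (g : Matrix (Fin n) (Fin n) F) := invertibleOfLeftInverse _ _ hl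
    rw [(Matrix.inv_eq_left_inv hl).symm]
    exact Matrix.blockTriangular_inv_of_blockTriangular hg
  have diag : ∀ {A B : Matrix (Fin n) (Fin n) F}, A.BlockTriangular id → B.BlockTriangular id →
      ∀ i, (A * B) i i = A i i * B i i := by
    intro A B hA hB i
    rw [Matrix.mul_apply, Finset.sum_eq_single i]
    · intro k _ hk
      rcases lt_or_gt_of_ne hk with h | h
      · rw [hA (show id k < id i from h), zero_mul]
      · rw [hB (show id i < id k from h), mul_zero]
    · simp
  have conj : ∀ g : SpecialLinearGroup (Fin n) F, (g : Matrix (Fin n) (Fin n) F).BlockTriangular id →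
      ∀ u ∈ unitri n F, g * u * g⁻¹ ∈ unitri n F := by
    intro g hg u hu
    refine ⟨(hg.mul hu.1).mul (key g hg), fun i => ?_⟩
    show ((g : Matrix (Fin n) (Fin n) F) * u * (g⁻¹ : SpecialLinearGroup (Fin n) F).1) i i = 1
    rw [diag (hg.mul hu.1) (key g hg), diag hg hu.1, hu.2 i, mul_one, ← diag hg (key g hg)]
    rw [show (g : Matrix (Fin n) (Fin n) F) * (g⁻¹ : SpecialLinearGroup (Fin n) F).1 = 1 from
      congrArg (fun X : SpecialLinearGroup (Fin n) F => (X : Matrix (Fin n) (Fin n) F)) (mul_inv_cancel g),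
      Matrix.one_apply_eq]
  refine Subgroup.mem_normalizer_iff.2 fun u => ⟨conj g hg u, fun h => ?_⟩
  have := conj g⁻¹ (key g hg) _ h
  rwa [show g⁻¹ * (g * u * g⁻¹) * g⁻¹⁻¹ = u by group] at this

theorem triangular_of_setStab (hn : n ≤ 3) {g : SpecialLinearGroup (Fin n) F}
    (h1 : g ∈ setStab (rep n F) (lead n F 1)) (h2 : n = 3 → g ∈ setStab (rep n F) (lead n F 2)) :
    (g : Matrix (Fin n) (Fin n) F).BlockTriangular id := by
  intro i j hij
  have hij' : (j : ℕ) < i := hij
  have he : ∀ k, (j : ℕ) < k → (Pi.single j 1 : Fin n → F) ∈ lead n F k := fun k hk l hl =>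
    Pi.single_eq_of_ne (fun e => by rw [e] at hl; omega) _
  have hcol : rep n F g (Pi.single j 1) i = (g : Matrix (Fin n) (Fin n) F) i j := by
    show ((g : Matrix (Fin n) (Fin n) F) *ᵥ Pi.single j 1) i = _
    simp
  rw [← hcol]
  rcases Nat.eq_zero_or_pos (j : ℕ) with h | h
  · exact (h1 _).2 (he 1 (by omega)) i (by omega)
  · exact (h2 (by have := i.2; omega) _).2 (he 2 (by have := i.2; omega)) i (by have := i.2; omega)

/-- The subspace spanned by the orbit of the first basis vector. -/
def orbSpan (M : Subgroup (SpecialLinearGroup (Fin n) F)) (hn : 1 ≤ n) : Submodule F (Fin n → F) :=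
  Submodule.span F ((fun g => slRep n F g (Pi.single ⟨0, hn⟩ 1)) '' (M : Set _))

theorem orbSpan_inv {M : Subgroup (SpecialLinearGroup (Fin n) F)} (hn : 1 ≤ n) {g : SpecialLinearGroup (Fin n) F}
    (hg : g ∈ M) {w : Fin n → F} (hw : w ∈ orbSpan M hn) : rep n F g w ∈ orbSpan M hn := by
  have : orbSpan M hn ≤ (orbSpan M hn).comap (rep n F g : (Fin n → F) →ₗ[F] (Fin n → F)) :=
    Submodule.span_le.2 (by
      rintro _ ⟨h, hh, rfl⟩
      exact Submodule.subset_span ⟨g * h, M.mul_mem hg hh, TitsLemma.sl_act_mul g h _⟩)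
  exact this hw

theorem single_mem_orbSpan {M : Subgroup (SpecialLinearGroup (Fin n) F)} (hn : 1 ≤ n) {i j : Fin n}
    (hij : i ≠ j) (hM : ∀ c : F, SpecialLinearGroup.transvection hij c ∈ M) {w : Fin n → F}
    (hw : w ∈ orbSpan M hn) (hwj : w j ≠ 0) : Pi.single i 1 ∈ orbSpan M hn := by
  have h := sub_mem (orbSpan_inv hn (hM (w j)⁻¹) hw) hw
  rwa [tv_apply_vec, add_sub_cancel_left, inv_mul_cancel₀ hwj] at h

theorem base_mem_orbSpan (M : Subgroup (SpecialLinearGroup (Fin n) F)) (hn : 1 ≤ n) :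
    Pi.single ⟨0, hn⟩ 1 ∈ orbSpan M hn :=
  Submodule.subset_span ⟨1, M.one_mem, TitsLemma.sl_act_one _⟩

theorem orbSpan_eq_top {M : Subgroup (SpecialLinearGroup (Fin n) F)} (hn : 1 ≤ n)
    (h : ∀ i : Fin n, Pi.single i 1 ∈ orbSpan M hn) : orbSpan M hn = ⊤ := by
  classical
  refine Submodule.eq_top_iff'.2 fun v => ?_
  rw [← Finset.univ_sum_single v]
  refine Submodule.sum_mem _ fun i _ => ?_
  rw [show Pi.single i (v i) = v i • (Pi.single i 1 : Fin n → F) by rw [← Pi.single_smul']; simp]
  exact Submodule.smul_mem _ _ (h i)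

/-- A proper invariant span lies among the first coordinates. -/
theorem orbSpan_cases {M : Subgroup (SpecialLinearGroup (Fin n) F)} (hn : 1 ≤ n) (hM : unitri n F ≤ M)
    (hne : orbSpan M hn ≠ ⊤) :
    ∃ k, 1 ≤ k ∧ k < n ∧ M ≤ setStab (rep n F) (lead n F k) := by
  classical
  let Z : Finset (Fin n) := Finset.univ.filter fun j => ∃ w ∈ orbSpan M hn, w j ≠ 0
  have hZ : (⟨0, hn⟩ : Fin n) ∈ Z :=
    Finset.mem_filter.2 ⟨Finset.mem_univ _, _, base_mem_orbSpan M hn, by simp⟩
  obtain ⟨j, hj, hmax⟩ := Z.exists_max_image id ⟨_, hZ⟩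
  obtain ⟨w, hw, hwj⟩ := (Finset.mem_filter.1 hj).2
  have hlt : ∀ i, i < j → Pi.single i 1 ∈ orbSpan M hn := fun i hi =>
    single_mem_orbSpan hn hi.ne (fun c => hM (tv_mem hi c)) hw hwj
  have hzero : ∀ v ∈ orbSpan M hn, ∀ l : Fin n, j < l → v l = 0 := fun v hv l hl => by
    by_contra h
    exact absurd (hmax l (Finset.mem_filter.2 ⟨Finset.mem_univ _, v, hv, h⟩)) (not_le.2 hl)
  have hjm : Pi.single j 1 ∈ orbSpan M hn := by
    have h1 : ∑ i, w i • (Pi.single i 1 : Fin n → F) = w := by
      funext l; simp [Finset.sum_apply, Pi.single_apply]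
    rw [← Finset.sum_erase_add _ _ (Finset.mem_univ j)] at h1
    have h2 : ∑ i ∈ Finset.univ.erase j, w i • (Pi.single i 1 : Fin n → F) ∈ orbSpan M hn := by
      refine Submodule.sum_mem _ fun i hi => ?_
      rcases lt_or_gt_of_ne (Finset.mem_erase.1 hi).1 with h | h
      · exact Submodule.smul_mem _ _ (hlt i h)
      · rw [hzero w hw i h, zero_smul]; exact zero_mem _
    have h3 := sub_mem hw h2
    rw [show w - ∑ i ∈ Finset.univ.erase j, w i • (Pi.single i 1 : Fin n → F) = w j • Pi.single j 1 from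
      sub_eq_iff_eq_add'.2 h1.symm] at h3
    exact (Submodule.smul_mem_iff _ hwj).1 h3
  have hall : ∀ i, i ≤ j → Pi.single i 1 ∈ orbSpan M hn := fun i hi =>
    (lt_or_eq_of_le hi).elim (hlt i) fun e => e ▸ hjm
  have hjn : (j : ℕ) + 1 < n := by
    by_contra h
    exact hne (orbSpan_eq_top hn fun i => hall i (by show (i : ℕ) ≤ j; omega))
  refine ⟨(j : ℕ) + 1, by omega, hjn, fun g hg => mem_setStab_of_subset fun v hv => ?_⟩
  have hvW : v ∈ orbSpan M hn := by
    rw [← Finset.univ_sum_single v]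
    refine Submodule.sum_mem _ fun i _ => ?_
    by_cases h : i ≤ j
    · rw [show Pi.single i (v i) = v i • (Pi.single i 1 : Fin n → F) by rw [← Pi.single_smul']; simp]
      exact Submodule.smul_mem _ _ (hall i h)
    · rw [hv i (by have : (j : ℕ) < i := not_le.1 h; omega), Pi.single_zero]; exact zero_mem _
  intro l hl
  exact hzero _ (orbSpan_inv hn hg hvW) l (by show (j : ℕ) < l; omega)

/-- The semilinear map of an invertible matrix and a field automorphism. -/
def semi (g : GL (Fin n) F) (σ : F ≃+* F) : (Fin n → F) ≃+ (Fin n → F) where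
  toFun v := (g : Matrix (Fin n) (Fin n) F) *ᵥ fun i => σ (v i)
  invFun v := fun i => σ.symm (((((g⁻¹ : GL (Fin n) F)) : Matrix (Fin n) (Fin n) F) *ᵥ v) i)
  left_inv v := by
    funext i
    simp only [Matrix.mulVec_mulVec, Units.inv_mul, Matrix.one_mulVec, RingEquiv.symm_apply_apply]
  right_inv v := by
    simp only [RingEquiv.apply_symm_apply, Matrix.mulVec_mulVec, Units.mul_inv, Matrix.one_mulVec]
  map_add' u v := by
    rw [← Matrix.mulVec_add]
    congr 1
    funext i
    exact map_add σ _ _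

theorem twines_rep (g : GL (Fin n) F) (σ : F ≃+* F) :
    Twines (rep n F) (rep n F) (AutPSL.conjSL g * AutPSL.fieldSL σ) (semi g σ) := fun s v => by
  show ((AutPSL.conjSL g (AutPSL.fieldSL σ s)) : Matrix (Fin n) (Fin n) F) *ᵥ
      ((g : Matrix (Fin n) (Fin n) F) *ᵥ fun i => σ (v i)) =
    (g : Matrix (Fin n) (Fin n) F) *ᵥ fun i => σ (((s : Matrix (Fin n) (Fin n) F) *ᵥ v) i)
  rw [AutPSL.conjSL_coe, AutPSL.fieldSL_coe, Matrix.mulVec_mulVec, Matrix.mul_assoc, Units.inv_mul,
    Matrix.mul_one, ← Matrix.mulVec_mulVec]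
  congr 1
  funext i
  exact (RingHom.map_mulVec (σ : F →+* F) _ v i).symm

theorem iota_conj (g : GL (Fin n) F) (σ : F ≃+* F) (s : SpecialLinearGroup (Fin n) F) :
    AutPSL.iotaSL (AutPSL.conjSL g (AutPSL.fieldSL σ s)) =
      AutPSL.conjSL (AutPSL.itGL g) (AutPSL.fieldSL σ (AutPSL.iotaSL s)) := by
  refine AutPSL.sl_ext ?_
  rw [AutPSL.iotaSL_coe, ← map_inv, ← map_inv, AutPSL.conjSL_coe, AutPSL.conjSL_coe, AutPSL.fieldSL_coe,
    AutPSL.fieldSL_coe, AutPSL.iotaSL_coe, Matrix.transpose_mul, Matrix.transpose_mul, ← Matrix.mul_assoc,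
    Matrix.transpose_map]
  rfl

theorem twines_coRep (g : GL (Fin n) F) (σ : F ≃+* F) :
    Twines (coRep n F) (coRep n F) (AutPSL.conjSL g * AutPSL.fieldSL σ) (semi (AutPSL.itGL g) σ) :=
  fun s v => by
    rw [coRep_apply, coRep_apply, MulAut.mul_apply, iota_conj]
    exact twines_rep (AutPSL.itGL g) σ (AutPSL.iotaSL s) v

end Lin

open Lin

section Main

variable {F : Type u} [Field F] [Fintype F] {p : ℕ} [hp : Fact p.Prime] [CharP F p] {n : ℕ}

omit [CharP F p] hp in
theorem psl_simple (hn : 2 ≤ n) (h2 : n = 2 → 4 ≤ Fintype.card F) :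
    IsSimpleGroup (Matrix.ProjectiveSpecialLinearGroup (Fin n) F) :=
  Classical.isSimpleGroup_psl (by
    rcases Nat.lt_or_ge n 3 with h | h
    · exact Or.inr ⟨by simp only [Fintype.card_fin]; omega,
        Classical.Small.exists_sq_ne_one (h2 (by omega))⟩
    · exact Or.inl (by simpa using h))

/-- The Sylow subgroup and the criterion for an image to be everything. -/
theorem exists_psl_setup (hn : 2 ≤ n) (h2 : n = 2 → 4 ≤ Fintype.card F) :
    ∃ U : Sylow p (SpecialLinearGroup (Fin n) F), (U : Subgroup _) = unitri n F ∧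
      ((U : Subgroup _).map (AutPSL.mkP (n := n) (F := F)) ≠ ⊥) ∧
      ∀ M : Subgroup (SpecialLinearGroup (Fin n) F), unitri n F ≤ M →
        orbSpan M (by omega) = ⊤ → M.map (AutPSL.mkP (n := n) (F := F)) = ⊤ := by
  obtain ⟨U, hU⟩ := UniTri.exists_sylow (n := n) (K := F) p
  refine ⟨U, hU, fun h => ?_, fun M hM hW => ?_⟩
  · rw [Subgroup.map_eq_bot_iff, hU] at h
    have h01 : (⟨0, by omega⟩ : Fin n) < ⟨1, by omega⟩ := by show 0 < 1; omega
    obtain ⟨r, hr⟩ := center_scalar ((QuotientGroup.ker_mk' _).le (h (tv_mem h01 (1 : F))))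
    have h1 := congrFun (hr (Pi.single ⟨1, by omega⟩ 1)) ⟨0, by omega⟩
    rw [tv_apply_vec] at h1
    simp [Pi.single_eq_of_ne h01.ne] at h1
  · have hk : (Nat.card (AutPSL.mkP (n := n) (F := F)).ker).Coprime p := by
      refine ((Fact.out : p.Prime).coprime_iff_not_dvd.2 fun hd => ?_).symm
      obtain ⟨z, hz⟩ := exists_prime_orderOf_dvd_card' p hd
      obtain ⟨r, hr⟩ := center_scalar ((QuotientGroup.ker_mk' _).le z.2)
      have hzp : (z : SpecialLinearGroup (Fin n) F) ^ p = 1 := by
        rw [← Subgroup.coe_pow, ← hz, pow_orderOf_eq_one, Subgroup.coe_one]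
      have hpow : ∀ (k : ℕ) (v : Fin n → F), rep n F ((z : SpecialLinearGroup (Fin n) F) ^ k) v = r ^ k • v := by
        intro k
        induction k with
        | zero => intro v; rw [pow_zero, pow_zero, one_smul]; exact TitsLemma.sl_act_one v
        | succ k ih => intro v; rw [pow_succ, TitsLemma.sl_act_mul, hr, map_smul, ih, smul_smul, ← pow_succ']
      have h1 := hpow p (Pi.single ⟨0, by omega⟩ 1)
      rw [hzp, TitsLemma.sl_act_one] at h1
      have h1' : r ^ p = 1 := by simpa using (congrFun h1 ⟨0, by omega⟩).symm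
      have h3 : (r - 1) ^ p = 0 := by rw [sub_pow_char, h1', one_pow, sub_self]
      have hz1 : (z : SpecialLinearGroup (Fin n) F) = 1 := TitsLemma.eq_one_of_sl_act fun v => by
        rw [hr, sub_eq_zero.1 (eq_zero_of_pow_eq_zero h3), one_smul]
      rw [show z = 1 from Subtype.ext hz1, orderOf_one] at hz
      exact (Fact.out : p.Prime).one_lt.ne hz
    refine TitsLemma.map_eq_top_of_span (p := p) hn _ AutPSL.mkP_surjective hk (psl_simple hn h2)
      (x₀ := Pi.single ⟨0, by omega⟩ 1) (by simp) ?_ hW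
    intro g hg
    refine hM (mem_unitri.2 ⟨fun i j hij => ?_, fun i => ?_⟩)
    all_goals obtain ⟨hfix, hmove⟩ := hg
    · have hji : (j : ℕ) < i := hij
      obtain ⟨c, hc⟩ := Submodule.mem_span_singleton.1 (hmove (Pi.single j 1))
      have := congrFun hc i
      rw [Pi.smul_apply, Pi.single_eq_of_ne (fun e => by rw [e] at hji; simp at hji), smul_zero,
        Pi.sub_apply, Pi.single_eq_of_ne hij.ne', sub_zero] at this
      rw [this]
      show _ = ((g : Matrix (Fin n) (Fin n) F) *ᵥ Pi.single j 1) i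
      simp
    · have h1 : ((g : Matrix (Fin n) (Fin n) F) *ᵥ Pi.single i 1) i = g.1 i i := by simp
      by_cases hi : i = ⟨0, by omega⟩
      · subst hi
        have := congrFun (hfix _ (Submodule.mem_span_singleton_self _)) ⟨0, by omega⟩
        rw [← h1]
        exact this.trans (by simp)
      · obtain ⟨c, hc⟩ := Submodule.mem_span_singleton.1 (hmove (Pi.single i 1))
        have := congrFun hc i
        rw [Pi.smul_apply, Pi.single_eq_of_ne hi, smul_zero, Pi.sub_apply, Pi.single_eq_same, eq_comm,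
          sub_eq_zero] at this
        rw [← h1]
        exact this

theorem solo_psl_two (h2 : 4 ≤ Fintype.card F) : Solo p (Matrix.ProjectiveSpecialLinearGroup (Fin 2) F) := by
  obtain ⟨U, hU, hne, htop⟩ := exists_psl_setup (p := p) (F := F) (n := 2) le_rfl fun _ => h2
  have := psl_simple (n := 2) (F := F) le_rfl fun _ => h2
  refine solo_of_one (U.mapSurjective AutPSL.mkP_surjective) ?_
  rw [Sylow.coe_mapSurjective]
  refine soloAt_map _ AutPSL.mkP_surjective hne (hU ▸ unitri_le_setStab_lead 1)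
    ((QuotientGroup.ker_mk' _).le.trans (center_le_setStab_lead 1))
    (setStab_lead_ne_top 1 le_rfl (by norm_num))
    (fun g hg => hU ▸ triangular_le_normalizer (triangular_of_setStab (by norm_num) hg (by norm_num)))
    fun M hM => ?_
  rw [hU] at hM
  by_cases hW : orbSpan M (by norm_num) = ⊤
  · exact Or.inl (htop M hM hW)
  · obtain ⟨k, hk, hkn, hle⟩ := orbSpan_cases _ hM hW
    obtain rfl : k = 1 := by omega
    exact Or.inr hle

theorem duo_psl_three : Duo p (Matrix.ProjectiveSpecialLinearGroup (Fin 3) F) := by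
  obtain ⟨U, hU, hne, htop⟩ := exists_psl_setup (p := p) (F := F) (n := 3) (by norm_num) (by norm_num)
  have := psl_simple (n := 3) (F := F) (by norm_num) (by norm_num)
  have h01 : ((1 : Fin 3)) ≠ 0 := by decide
  have h21 : ((2 : Fin 3)) ≠ 1 := by decide
  have m10 : SpecialLinearGroup.transvection h01 (1 : F) ∈ setStab (rep 3 F) (lead 3 F 2) :=
    mem_setStab_of_subset fun v hv i hi => by
      rw [tv_apply_vec, Pi.add_apply, hv i hi, zero_add, Pi.single_eq_of_ne]
      intro e; subst e; simp at hi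
  have m21 : SpecialLinearGroup.transvection h21 (1 : F) ∈ setStab (rep 3 F) (lead 3 F 1) :=
    mem_setStab_of_subset fun v hv i hi => by
      rw [tv_apply_vec, Pi.add_apply, hv i hi, hv (1 : Fin 3) (by simp), mul_zero, Pi.single_zero]
      simp
  refine duo_of_one (U.mapSurjective AutPSL.mkP_surjective)
    (R₁ := (setStab (rep 3 F) (lead 3 F 1)).map AutPSL.mkP)
    (R₂ := (setStab (rep 3 F) (lead 3 F 2)).map AutPSL.mkP) ?_
  rw [Sylow.coe_mapSurjective]
  refine duoAt_map _ AutPSL.mkP_surjective hne (hU ▸ unitri_le_setStab_lead 1)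
    (hU ▸ unitri_le_setStab_lead 2) ((QuotientGroup.ker_mk' _).le.trans (center_le_setStab_lead 1))
    ((QuotientGroup.ker_mk' _).le.trans (center_le_setStab_lead 2))
    (setStab_lead_ne_top 1 le_rfl (by norm_num)) (setStab_lead_ne_top 2 (by norm_num) (by norm_num))
    (fun h => ?_) (fun h => ?_)
    (fun g hg => hU ▸ triangular_le_normalizer
      (triangular_of_setStab le_rfl (Subgroup.mem_inf.1 hg).1 fun _ => (Subgroup.mem_inf.1 hg).2))
    fun M hM => ?_
  · have hv : (Pi.single 1 1 : Fin 3 → F) ∈ lead 3 F 2 := fun i hi =>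
      Pi.single_eq_of_ne (fun e => by subst e; simp at hi) _
    have h1 := (h m21 _).2 hv (2 : Fin 3) (by simp)
    rw [tv_apply_vec] at h1
    simp at h1
  · have hv : (Pi.single 0 1 : Fin 3 → F) ∈ lead 3 F 1 := fun i hi =>
      Pi.single_eq_of_ne (fun e => by subst e; simp at hi) _
    have h1 := (h m10 _).2 hv (1 : Fin 3) (by simp)
    rw [tv_apply_vec] at h1
    simp at h1
  · rw [hU] at hM
    by_cases hW : orbSpan M (by norm_num) = ⊤
    · exact Or.inl (htop M hM hW)
    · obtain ⟨k, hk, hkn, hle⟩ := orbSpan_cases _ hM hW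
      interval_cases k
      · exact Or.inr (Or.inl hle)
      · exact Or.inr (Or.inr hle)

theorem pair_psl (hn : 4 ≤ n) : Pair p (Matrix.ProjectiveSpecialLinearGroup (Fin n) F) := by
  obtain ⟨U, hU, hne, htop⟩ := exists_psl_setup (p := p) (F := F) (n := n) (by omega) (by omega)
  have := psl_simple (n := n) (F := F) (by omega) (by omega)
  let R : ℕ → Subgroup (SpecialLinearGroup (Fin n) F) := fun k =>
    setStab (rep n F) (lead n F k) ⊓ setStab (coRep n F) (trail n F k)
  refine pair_of_one (U.mapSurjective AutPSL.mkP_surjective) (R₁ := (R 1).map AutPSL.mkP)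
    (R₂ := (R 2).map AutPSL.mkP) ?_
  rw [Sylow.coe_mapSurjective]
  have hker : (AutPSL.mkP (n := n) (F := F)).ker ≤ Subgroup.center _ := (QuotientGroup.ker_mk' _).le
  have hUR : ∀ k, (U : Subgroup _) ≤ R k := fun k =>
    hU ▸ le_inf (unitri_le_setStab_lead k) (unitri_le_setStab_trail k)
  have hkR : ∀ k, (AutPSL.mkP (n := n) (F := F)).ker ≤ R k := fun k =>
    hker.trans (le_inf (center_le_setStab_lead k) (center_le_setStab_trail k))
  refine pairAt_map _ AutPSL.mkP_surjective hker U hne (hUR 1) (hUR 2) (hkR 1) (hkR 2)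
    (fun h => setStab_lead_ne_top (F := F) (n := n) 1 le_rfl (by omega) (top_unique (h.ge.trans inf_le_left)))
    (fun h => setStab_lead_ne_top (F := F) (n := n) 2 (by omega) (by omega) (top_unique (h.ge.trans inf_le_left)))
    (fun M h1 h2 => htop M (hU ▸ (hUR 1).trans h1) ?_) fun α => ?_
  · let e₁ : Fin n := ⟨1, by omega⟩
    let e₀ : Fin n := ⟨0, by omega⟩
    have n10 : e₁ ≠ e₀ := fun e => by have := congrArg Fin.val e; simp [e₁, e₀] at this
    have ha : Pi.single e₁ 1 ∈ orbSpan M (by omega) := by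
      refine single_mem_orbSpan _ n10 (fun c => h2 ⟨?_, ?_⟩) (base_mem_orbSpan M _) (by simp [e₀])
      · refine mem_setStab_of_subset fun v hv i hi => ?_
        rw [tv_apply_vec, Pi.add_apply, hv i hi, zero_add, Pi.single_eq_of_ne]
        intro e; subst e; simp [e₁] at hi
      · refine mem_setStab_of_subset fun v hv i hi => ?_
        rw [coRep_tv_apply, Pi.add_apply, hv i hi, hv e₁ (by show 1 + 2 < n; omega), mul_zero, Pi.single_zero]
        simp
    have hmid : ∀ i : Fin n, (i : ℕ) + 1 < n → Pi.single i 1 ∈ orbSpan M (by omega) := by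
      intro i hi
      by_cases h0 : i = e₀
      · subst h0; exact base_mem_orbSpan M _
      by_cases h1' : i = e₁
      · subst h1'; exact ha
      refine single_mem_orbSpan _ h1' (fun c => h1 ⟨?_, ?_⟩) ha (by simp)
      · refine mem_setStab_of_subset fun v hv l hl => ?_
        rw [tv_apply_vec, Pi.add_apply, hv l hl, hv e₁ le_rfl, mul_zero, Pi.single_zero]
        simp
      · refine mem_setStab_of_subset fun v hv l hl => ?_
        rw [coRep_tv_apply, Pi.add_apply, hv l hl, hv i hi, mul_zero, Pi.single_zero]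
        simp
    refine orbSpan_eq_top _ fun i => ?_
    by_cases hi : (i : ℕ) + 1 < n
    · exact hmid i hi
    let e' : Fin n := ⟨n - 2, by omega⟩
    have hie : i ≠ e' := fun e => by rw [e] at hi; simp [e'] at hi; omega
    refine single_mem_orbSpan _ hie (fun c => h2 ⟨?_, ?_⟩) (hmid e' (by show n - 2 + 1 < n; omega)) (by simp)
    · refine mem_setStab_of_subset fun v hv l hl => ?_
      rw [tv_apply_vec, Pi.add_apply, hv l hl, hv e' (by show 2 ≤ n - 2; omega), mul_zero, Pi.single_zero]
      simp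
    · refine mem_setStab_of_subset fun v hv l hl => ?_
      rw [coRep_tv_apply, Pi.add_apply, hv l hl, zero_add, Pi.single_eq_of_ne]
      intro e; subst e; simp [e'] at hl; omega
  obtain ⟨g, σ, γ, hγ, hα⟩ := AutPSL.exists_decomp_all p (by omega : 2 ≤ n) α
  rcases hγ with rfl | ⟨rfl, -⟩
  · refine ⟨AutPSL.conjSL g * AutPSL.fieldSL σ, fun s => by rw [hα, mul_one]; rfl, fun hφ => ?_⟩
    rw [hU] at hφ
    have key : ∀ k, semi g σ '' lead n F k = lead n F k → semi (AutPSL.itGL g) σ '' trail n F k = trail n F k →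
        (R k).map (AutPSL.conjSL g * AutPSL.fieldSL σ).toMonoidHom ≤ R k := fun k e1 e2 => by
      refine (Subgroup.map_inf_le _ _ _).trans (inf_le_inf ?_ ?_)
      · exact ((twines_rep g σ).map_setStab _).trans (by rw [e1])
      · exact ((twines_coRep g σ).map_setStab _).trans (by rw [e2])
    refine ⟨key 1 ?_ ?_, key 2 ?_ ?_⟩
    · rw [← fixSet_rep (by omega)]; exact (twines_rep g σ).fixSet_eq hφ
    · rw [← fixSet_coRep (by omega)]; exact (twines_coRep g σ).fixSet_eq hφ
    · rw [← fixSet₂_rep (by omega)]; exact (twines_rep g σ).fixSet₂_eq hφ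
    · rw [← fixSet₂_coRep (by omega)]; exact (twines_coRep g σ).fixSet₂_eq hφ
  · set φ := AutPSL.conjSL g * AutPSL.fieldSL σ * AutPSL.iotaSL with hφd
    refine ⟨φ, fun s => by rw [hα]; rfl, fun hφ => ?_⟩
    rw [hU] at hφ
    have hA : Twines (rep n F) (coRep n F) φ (semi (AutPSL.itGL g) σ) := fun s v => by
      rw [hφd, MulAut.mul_apply, twines_coRep g σ (AutPSL.iotaSL s) v, coRep_apply, AutPSL.iotaSL_iotaSL]
    have hB : Twines (coRep n F) (rep n F) φ (semi g σ) := fun s v => by
      rw [hφd, MulAut.mul_apply, twines_rep g σ (AutPSL.iotaSL s) v, coRep_apply]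
    have key : ∀ k, semi (AutPSL.itGL g) σ '' lead n F k = trail n F k → semi g σ '' trail n F k = lead n F k →
        (R k).map φ.toMonoidHom ≤ R k := fun k e1 e2 => by
      refine (Subgroup.map_inf_le _ _ _).trans (le_inf (inf_le_right.trans ?_) (inf_le_left.trans ?_))
      · exact (hB.map_setStab _).trans (by rw [e2])
      · exact (hA.map_setStab _).trans (by rw [e1])
    refine ⟨key 1 ?_ ?_, key 2 ?_ ?_⟩
    · rw [← fixSet_rep (by omega), ← fixSet_coRep (by omega)]; exact hA.fixSet_eq hφ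
    · rw [← fixSet_rep (by omega), ← fixSet_coRep (by omega)]; exact hB.fixSet_eq hφ
    · rw [← fixSet₂_rep (by omega), ← fixSet₂_coRep (by omega)]; exact hA.fixSet₂_eq hφ
    · rw [← fixSet₂_rep (by omega), ← fixSet₂_coRep (by omega)]; exact hB.fixSet₂_eq hφ

end Main

end Cfsg.Agent.PMinLie
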