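import Cfsg.Agent.PMinLie.Stab
import Cfsg.Agent.TitsLemma.Polar
import Cfsg.Agent.SylOpp.Polar

/-!
Groups of isometries of polar spaces: the stabilisers of the first two members of the chamber of a Sylow
subgroup and the overgroups of that Sylow subgroup.
-/

set_option autoImplicit false
set_option linter.unusedSectionVars false

namespace Cfsg.Agent.PMinLie.Pol

open Module Cfsg.Agent.ClassicalSteinberg Cfsg.Agent.ClassicalSteinberg.Polar
open Cfsg.Agent.TitsLemma (act act_mul act_one act_inv_apply act_apply_inv act_B act_sing rad exists_partner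
  exists_sing_add exists_move map_eq_top_of_orbit mem_of_mem_orth_orth)

universe u v w x

variable {F : Type u} {V : Type v} [Field F] [AddCommGroup V] [Module F V] [FiniteDimensional F V]
  [Finite V] [Finite F] {P : Polar F V} {G : Type w} [Group G] (ρ : G →* P.isom)

/-- The action as linear maps. -/
abbrev rep : G →* (V ≃ₗ[F] V) := P.isom.subtype.comp ρ

theorem rep_apply (g : G) : rep ρ g = act ρ g := rfl

theorem finrank_orth (W : Submodule F V) : finrank F (P.orth W) + finrank F W = finrank F V := by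
  have h := P.card_orth W
  rw [Module.natCard_eq_pow_finrank (K := F) (V := P.orth W), Module.natCard_eq_pow_finrank (K := F) (V := W),
    Module.natCard_eq_pow_finrank (K := F) (V := V), ← pow_add] at h
  exact Nat.pow_right_injective (Finite.one_lt_card (α := F)) h

theorem two_mul_le (C : P.Chamber) : 2 * P.m ≤ finrank F V := by
  have h1 := Submodule.finrank_mono ((C.fl_ts P.m).le_orth P)
  have h2 := finrank_orth (P := P) (C.fl P.m)
  rw [C.finrank_fl le_rfl] at h1 h2
  omega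

theorem base_ne_zero (C : P.Chamber) {k : ℕ} (hk : k < P.m) : C.base k ≠ 0 := fun h =>
  C.base_notMem hk (h ▸ zero_mem _)

theorem fl_one (C : P.Chamber) (hm : 1 ≤ P.m) : C.fl 1 = F ∙ C.base 0 := by
  refine (Submodule.eq_of_le_of_finrank_eq
    ((Submodule.span_singleton_le_iff_mem _ _).2 (C.base_mem hm)) ?_).symm
  rw [finrank_span_singleton (base_ne_zero C hm), C.finrank_fl hm]

/-- A vector orthogonal to `W` outside a subspace of small dimension not orthogonal to `W`. -/
theorem exists_orth_not_mem {A W : Submodule F V} (hle : finrank F A + finrank F W ≤ finrank F V) {a b : V}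
    (ha : a ∈ A) (hb : b ∈ W) (hab : P.B b a ≠ 0) : ∃ d ∈ P.orth W, d ∉ A := by
  by_contra h
  push Not at h
  have h1 := finrank_orth (P := P) W
  have h2 := Submodule.eq_of_le_of_finrank_le (fun d hd => h d hd : P.orth W ≤ A) (by omega)
  exact hab ((h2 ▸ ha : a ∈ P.orth W) b hb)

section Moves

variable (hmoves : P.moves ⊆ Set.range ρ)
include hmoves

/-- A move along `e` in the direction `d`. -/
theorem exists_move_dir {e f : V} (d : V) (hes : P.Sing e) (hf : P.Sing f) (hef : P.B e f = 1)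
    (hed : P.B e d = 0) :
    ∃ q : G, (∀ v, act ρ q v - v - P.B e v • d ∈ F ∙ e) ∧
      ∀ v, P.B e v = 0 → act ρ q v = v + (-(P.ε * P.B d v)) • e := by
  obtain ⟨c, hc, hc1⟩ := exists_sing_add hes (v := f + d) (by rw [map_add, hef, hed, add_zero])
  obtain ⟨q, -, -, hq⟩ := exists_move ρ hmoves ⟨hes, hf, hc, hef, hc1⟩
  refine ⟨q, fun v => ?_, fun v hv => ?_⟩
  · rw [hq, moveMap_apply, show f + d + c • e - f = d + c • e by abel, smul_add, smul_smul]
    refine Submodule.mem_span_singleton.2 ⟨P.B e v * c +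
      P.ε * (P.B (d + c • e) f * P.B e v - P.B (d + c • e) v), ?_⟩
    rw [add_smul]
    abel
  · rw [hq, moveMap_apply, show f + d + c • e - f = d + c • e by abel, hv, zero_smul, add_zero, mul_zero,
      zero_sub, B_add_left, B_smul_left, hv, mul_zero, add_zero, mul_neg]

/-- A transvection along a singular point. -/
theorem exists_move_line {e f : V} (ht : 2 ≤ P.t) (hes : P.Sing e) (hf : P.Sing f)
    (hef : P.B e f = 1) : ∃ (q : G) (c : F), c ≠ 0 ∧ ∀ v, act ρ q v = v + (c * P.B e v) • e := by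
  have : 1 < Nat.card {c : F // P.Sing (f + c • e)} := by
    rw [P.card_partner e f hes hef]; omega
  have := Finite.one_lt_card_iff_nontrivial.1 this
  obtain ⟨⟨c, hc⟩, hc0⟩ := exists_ne (⟨0, by simpa using hf⟩ : {c : F // P.Sing (f + c • e)})
  obtain ⟨q, -, -, hq⟩ := exists_move ρ hmoves
    (⟨hes, hf, hc, hef, by rw [map_add, hef, B_smul_right, P.sing_self e hes]; ring⟩ :
      MoveData P e f (f + c • e))
  refine ⟨q, c, fun h => hc0 (Subtype.ext h), fun v => ?_⟩
  rw [hq, moveMap_apply, add_sub_cancel_left, B_smul_left, B_smul_left, hef, mul_one, sub_self, mul_zero,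
    zero_smul, add_zero, smul_smul, mul_comm]

/-- A move along a point of the chamber is unipotent. -/
theorem mem_unipG_of (C : P.Chamber) {j : ℕ} (hj : j < P.m) {e : V} (he : e ∈ C.fl (j + 1)) {q : G}
    (hperp : ∀ v, P.B e v = 0 → act ρ q v - v ∈ F ∙ e) (hfix : ∀ v ∈ C.fl (j + 1), act ρ q v = v) :
    q ∈ unipG ρ C := by
  have hle : ∀ k, j + 1 ≤ k → F ∙ e ≤ C.fl k := fun k hk =>
    (Submodule.span_singleton_le_iff_mem _ _).2 (C.fl_mono hk he)
  refine ⟨fun k hk x hx => ?_, fun x hx => ?_⟩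
  · show act ρ q x - x ∈ C.fl k
    by_cases hjk : j + 1 ≤ k
    · exact hle k hjk (hperp x (C.fl_B he hx))
    · rw [hfix x (C.fl_mono (by omega) hx), sub_self]
      exact zero_mem _
  · show act ρ q x - x ∈ C.fl P.m
    exact hle _ hj (hperp x (hx e (C.fl_mono hj he)))

theorem rad_base_le (C : P.Chamber) (hm : 1 ≤ P.m) : rad ρ (C.base 0) ≤ unipG ρ C := fun q hq =>
  mem_unipG_of ρ hmoves C hm (C.base_mem hm) hq.2 fun v hv => by
    rw [fl_one C hm] at hv
    obtain ⟨c, rfl⟩ := Submodule.mem_span_singleton.1 hv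
    rw [map_smul, hq.1]

/-- The fixed vectors of the unipotent subgroup. -/
theorem fixSet_unipG (C : P.Chamber) (hm : 1 ≤ P.m) (hn : 2 < finrank F V) :
    fixSet (rep ρ) (unipG ρ C) = (C.fl 1 : Set V) := by
  refine Set.ext fun v => ⟨fun hv => ?_, fun hv u hu => ?_⟩
  · rw [SetLike.mem_coe, fl_one C hm]
    refine mem_span_of_fixed (Or.inl hn) (base_ne_zero C hm) (C.fl_sing (C.base_mem hm)) fun f f' h => ?_
    obtain ⟨q, hq, -, hqv⟩ := exists_move ρ hmoves h
    rw [h.move_apply, ← hqv]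
    exact hv q (rad_base_le ρ hmoves C hm hq)
  · have h := (show ρ u ∈ unip C from hu).1 0 hm v hv
    rw [C.fl_zero, Submodule.mem_bot, sub_eq_zero] at h
    exact h

/-- The vectors moved only within the fixed vectors. -/
theorem fixSet₂_unipG (C : P.Chamber) (hm : 2 ≤ P.m) (hs : 4 < finrank F V ∨ 2 ≤ P.t) :
    fixSet₂ (rep ρ) (unipG ρ C) = (C.fl 2 : Set V) := by
  have hn : 2 < finrank F V := by have := two_mul_le C; omega
  have key : ∀ v, v ∈ fixSet₂ (rep ρ) (unipG ρ C) ↔ ∀ u ∈ unipG ρ C, act ρ u v - v ∈ C.fl 1 := fun v => by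
    show (∀ u ∈ unipG ρ C, _ ∈ fixSet (rep ρ) (unipG ρ C)) ↔ _
    rw [fixSet_unipG ρ hmoves C (by omega) hn]
    rfl
  refine Set.ext fun v => (key v).trans ⟨fun hv => ?_, fun hv u hu =>
    (show ρ u ∈ unip C from hu).1 1 hm v hv⟩
  have hx0 : C.base 0 ∈ C.fl 2 := C.fl_mono (by norm_num) (C.base_mem (by omega))
  have hx1 : C.base 1 ∈ C.fl 2 := C.base_mem hm
  have hx1n : C.base 1 ∉ C.fl 1 := C.base_notMem hm
  have hx00 : C.base 0 ∈ C.fl 1 := C.base_mem (by omega)
  -- orthogonality to the point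
  obtain ⟨f₀, hf₀, hef₀⟩ := exists_partner (base_ne_zero C (show 0 < P.m by omega)) (C.fl_sing hx0)
  have h0 : P.B (C.base 0) v = 0 := by
    obtain ⟨q, hq, hq'⟩ := exists_move_dir ρ hmoves (C.base 1) (C.fl_sing hx0) hf₀ hef₀ (C.fl_B hx0 hx1)
    have hqU : q ∈ unipG ρ C := mem_unipG_of ρ hmoves C (show 0 < P.m by omega) hx00
      (fun x hx => by rw [hq' x hx, add_sub_cancel_left]
                      exact Submodule.smul_mem _ _ (Submodule.mem_span_singleton_self _))
      fun x hx => by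
        rw [hq' x (C.fl_B hx00 hx), C.fl_B hx1 hx, mul_zero, neg_zero, zero_smul, add_zero]
    by_contra hb
    refine hx1n ((Submodule.smul_mem_iff _ hb).1 ?_)
    have h2 : act ρ q v - v - (act ρ q v - v - P.B (C.base 0) v • C.base 1) ∈ C.fl 1 :=
      sub_mem (hv q hqU) (by rw [fl_one C (by omega)]; exact hq v)
    rwa [sub_sub_cancel] at h2
  -- orthogonality to the line
  obtain ⟨f₁, hf₁, hef₁⟩ := exists_partner (base_ne_zero C (show 1 < P.m by omega)) (C.fl_sing hx1)
  have hsmul : ∀ a : F, a • C.base 1 ∈ C.fl 1 → a = 0 := fun a ha => by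
    by_contra hne
    exact hx1n ((Submodule.smul_mem_iff _ hne).1 ha)
  have hdir : ∀ d ∈ P.orth (C.fl 2), ∃ q ∈ unipG ρ C,
      (∀ x, act ρ q x - x - P.B (C.base 1) x • d ∈ F ∙ C.base 1) ∧
        ∀ x, P.B (C.base 1) x = 0 → act ρ q x = x + (-(P.ε * P.B d x)) • C.base 1 := by
    intro d hd
    obtain ⟨q, hq, hq'⟩ := exists_move_dir ρ hmoves d (C.fl_sing hx1) hf₁ hef₁ (hd _ hx1)
    exact ⟨q, mem_unipG_of ρ hmoves C (show 1 < P.m by omega) hx1
      (fun x hx => by rw [hq' x hx, add_sub_cancel_left]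
                      exact Submodule.smul_mem _ _ (Submodule.mem_span_singleton_self _))
      (fun x hx => by
        rw [hq' x (C.fl_B hx1 hx), P.swap_zero (hd x hx), mul_zero, neg_zero, zero_smul, add_zero]),
      hq, hq'⟩
  have h1 : P.B (C.base 1) v = 0 := by
    by_contra hb
    by_cases ht : 2 ≤ P.t
    · obtain ⟨q, c, hc, hq⟩ := exists_move_line ρ hmoves ht (C.fl_sing hx1) hf₁ hef₁
      have hqU : q ∈ unipG ρ C := mem_unipG_of ρ hmoves C (show 1 < P.m by omega) hx1
        (fun x hx => by rw [hq, add_sub_cancel_left]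
                        exact Submodule.smul_mem _ _ (Submodule.mem_span_singleton_self _))
        fun x hx => by rw [hq, C.fl_B hx1 hx, mul_zero, zero_smul, add_zero]
      have h2 := hv q hqU
      rw [hq, add_sub_cancel_left] at h2
      exact mul_ne_zero hc hb (hsmul _ h2)
    · obtain ⟨d, hd, hdn⟩ : ∃ d ∈ P.orth (C.fl 2), d ∉ C.fl 2 := by
        by_contra h
        push Not at h
        have h2 := Submodule.finrank_mono (fun d hd => h d hd : P.orth (C.fl 2) ≤ C.fl 2)
        have h3 := finrank_orth (P := P) (C.fl 2)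
        rw [C.finrank_fl hm] at h2 h3
        omega
      obtain ⟨q, hqU, hq, -⟩ := hdir d hd
      refine hdn ((Submodule.smul_mem_iff _ hb).1 ?_)
      have h2 : act ρ q v - v - (act ρ q v - v - P.B (C.base 1) v • d) ∈ C.fl 2 :=
        sub_mem (C.fl_mono (by norm_num) (hv q hqU))
          ((Submodule.span_singleton_le_iff_mem _ _).2 hx1 (hq v))
      rwa [sub_sub_cancel] at h2
  refine mem_of_mem_orth_orth (P := P) (W := C.fl 2) fun d hd => ?_
  obtain ⟨q, hqU, -, hq'⟩ := hdir d hd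
  have h2 := hv q hqU
  rw [hq' v h1, add_sub_cancel_left] at h2
  exact (mul_eq_zero.1 (neg_eq_zero.1 (hsmul _ h2))).resolve_left P.ε_ne

end Moves

/-- The stabiliser of a member of the chamber. -/
def R (C : P.Chamber) (k : ℕ) : Subgroup G := setStab (rep ρ) (C.fl k : Set V)

theorem mem_R {C : P.Chamber} {k : ℕ} {g : G} : g ∈ R ρ C k ↔ ∀ v, act ρ g v ∈ C.fl k ↔ v ∈ C.fl k := Iff.rfl

theorem mem_R_of {C : P.Chamber} {k : ℕ} {g : G} (h : ∀ v ∈ C.fl k, act ρ g v ∈ C.fl k) : g ∈ R ρ C k :=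
  mem_setStab_of_subset h

theorem unipG_le_R (C : P.Chamber) {k : ℕ} (hk : k ≤ P.m) : unipG ρ C ≤ R ρ C k := fun _ hu =>
  mem_R_of ρ fun _ hv => map_mem_fl (hu : _ ∈ unip C).1 hk hv

/-- An element preserving the chamber normalises its unipotent subgroup. -/
theorem mem_normalizer_of {C : P.Chamber} {g : G} (h : ∀ k, 1 ≤ k → k ≤ P.m → g ∈ R ρ C k) :
    g ∈ Subgroup.normalizer (unipG ρ C : Set G) := by
  have fixC : ∀ {a : G}, (∀ k, 1 ≤ k → k ≤ P.m → a ∈ R ρ C k) → ρ a • C = C := by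
    intro a ha
    refine Chamber.ext fun k hk => ?_
    rw [smul_fl]
    refine Submodule.eq_of_le_of_finrank_eq ?_ (LinearEquiv.finrank_map_eq _ _)
    rintro _ ⟨v, hv, rfl⟩
    by_cases hk0 : k = 0
    · subst hk0
      rw [SetLike.mem_coe, C.fl_zero, Submodule.mem_bot] at hv
      rw [hv, map_zero]
      exact zero_mem _
    · exact ((mem_R ρ).1 (ha k (by omega) hk) v).2 hv
  refine Subgroup.mem_normalizer_iff.2 fun u => ⟨fun hu => ?_, fun hu => ?_⟩
  · have := SylOpp.conj_mem_unipG ρ (g := g) hu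
    rwa [fixC h] at this
  · have := SylOpp.conj_mem_unipG ρ (g := g⁻¹) hu
    rw [fixC fun k h1 h2 => inv_mem (h k h1 h2)] at this
    simpa [mul_assoc] using this

section Stabilisers

variable (hmoves : P.moves ⊆ Set.range ρ)
include hmoves

theorem center_le_R (hn : 2 < finrank F V) (C : P.Chamber) (k : ℕ) : Subgroup.center G ≤ R ρ C k := by
  intro z hz
  refine mem_R_of ρ fun v hv => ?_
  have h : ((ρ z • C).fl k) = C.fl k := by rw [center_fixes ρ hmoves (fun _ => Or.inl hn) hz C]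
  rw [← h, smul_fl]
  exact ⟨v, hv, rfl⟩

theorem R_ne_top (C : P.Chamber) {k : ℕ} (hk1 : 1 ≤ k) (hk : k ≤ P.m) (hn : 2 < finrank F V) :
    R ρ C k ≠ ⊤ := by
  intro htop
  have hm : 0 < P.m := by omega
  have hx : C.base 0 ∈ C.fl k := C.fl_mono hk1 (C.base_mem hm)
  obtain ⟨f, hf, hef⟩ := exists_partner (base_ne_zero C hm) (C.fl_sing hx)
  have hf0 : f ≠ 0 := fun h => by rw [h, map_zero] at hef; exact zero_ne_one hef
  have hfx : P.B f (C.base 0) = P.ε := P.swap_one hef
  obtain ⟨d, hd, hdn⟩ := exists_orth_not_mem (P := P) (A := C.fl k ⊔ F ∙ f) (W := F ∙ f) (by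
      have h1 := Submodule.finrank_add_le_finrank_add_finrank (C.fl k) (F ∙ f)
      rw [C.finrank_fl hk, finrank_span_singleton hf0] at h1
      rw [finrank_span_singleton hf0]
      have := two_mul_le C
      omega)
    (Submodule.mem_sup_left hx) (Submodule.mem_span_singleton_self f) (hfx.trans_ne P.ε_ne)
  obtain ⟨q, hq, -⟩ := exists_move_dir ρ hmoves d hf (f := P.ε • C.base 0) (P.sing_smul _ _ (C.fl_sing hx))
    (by rw [B_smul_right, hfx, P.εε]) (hd f (Submodule.mem_span_singleton_self f))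
  refine hdn ((Submodule.smul_mem_iff _ P.ε_ne).1 ?_)
  have h2 : act ρ q (C.base 0) - C.base 0 -
      (act ρ q (C.base 0) - C.base 0 - P.B f (C.base 0) • d) ∈ C.fl k ⊔ F ∙ f :=
    sub_mem (Submodule.mem_sup_left (sub_mem
      (((mem_R ρ).1 (htop ▸ Subgroup.mem_top q) _).2 hx) hx)) (Submodule.mem_sup_right (hq _))
  rwa [sub_sub_cancel, hfx] at h2

/-- The stabiliser of the point moves any larger totally singular subspace through it. -/
theorem exists_move_out (C : P.Chamber) (hm : 1 ≤ P.m) (hs : P.m + 3 ≤ finrank F V ∨ 2 ≤ P.t)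
    {W : Submodule F V} (hW : P.TS W) (h0 : C.base 0 ∈ W) {w : V} (hw : w ∈ W) (hwn : w ∉ F ∙ C.base 0) :
    ∃ q ∈ R ρ C 1, act ρ q w ∉ W := by
  obtain ⟨y, hy, hwy⟩ := P.exists_sep hwn
  obtain ⟨c, hz, hwz⟩ := exists_sing_add (hW w hw).1 (v := y) hwy
  set z := y + c • w
  have hxz : P.B (C.base 0) z = 0 := by
    rw [map_add, hy _ (Submodule.mem_span_singleton_self _), B_smul_right, (hW _ h0).2 w hw, mul_zero,
      add_zero]
  have hzw : P.B z w = P.ε := P.swap_one hwz
  have hzn : z ∉ W := fun h => one_ne_zero ((hW w hw).2 z h ▸ hwz.symm : (1 : F) = 0)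
  have hfS : P.Sing (P.ε • w) := P.sing_smul _ _ (hW w hw).1
  have hzf : P.B z (P.ε • w) = 1 := by rw [B_smul_right, hzw, P.εε]
  have hR : ∀ q : G, act ρ q (C.base 0) = C.base 0 → q ∈ R ρ C 1 := fun q hq => mem_R_of ρ fun v hv => by
    rw [fl_one C hm] at hv ⊢
    obtain ⟨a, rfl⟩ := Submodule.mem_span_singleton.1 hv
    rw [map_smul, hq]
    exact Submodule.smul_mem _ _ (Submodule.mem_span_singleton_self _)
  by_cases ht : 2 ≤ P.t
  · obtain ⟨q, a, ha, hq⟩ := exists_move_line ρ hmoves ht hz hfS hzf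
    refine ⟨q, hR q (by rw [hq, P.swap_zero hxz, mul_zero, zero_smul, add_zero]), fun h => hzn ?_⟩
    have h2 := W.sub_mem h hw
    rw [hq, add_sub_cancel_left, hzw] at h2
    exact (Submodule.smul_mem_iff _ (mul_ne_zero ha P.ε_ne)).1 h2
  · obtain ⟨d, hd, hdn⟩ := exists_orth_not_mem (P := P) (A := W ⊔ F ∙ z) (W := F ∙ C.base 0 ⊔ F ∙ z) (by
        have h1 := Submodule.finrank_add_le_finrank_add_finrank W (F ∙ z)
        have h2 := Submodule.finrank_add_le_finrank_add_finrank (F ∙ C.base 0) (F ∙ z)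
        have hz0 : z ≠ 0 := fun h => hzn (h ▸ zero_mem _)
        have h3 := P.rank_le W hW
        rw [finrank_span_singleton hz0] at h1 h2
        rw [finrank_span_singleton (base_ne_zero C hm)] at h2
        have := hs.resolve_right ht
        omega)
      (Submodule.mem_sup_left hw) (Submodule.mem_sup_right (Submodule.mem_span_singleton_self z))
      (hzw.trans_ne P.ε_ne)
    obtain ⟨q, hq, hq'⟩ := exists_move_dir ρ hmoves d hz hfS hzf
      (hd z (Submodule.mem_sup_right (Submodule.mem_span_singleton_self z)))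
    refine ⟨q, hR q ?_, fun h => hdn ((Submodule.smul_mem_iff _ P.ε_ne).1 ?_)⟩
    · rw [hq' _ (P.swap_zero hxz),
        P.swap_zero (hd _ (Submodule.mem_sup_left (Submodule.mem_span_singleton_self _))), mul_zero, neg_zero,
        zero_smul, add_zero]
    · have h2 : act ρ q w - w - (act ρ q w - w - P.B z w • d) ∈ W ⊔ F ∙ z :=
        sub_mem (Submodule.mem_sup_left (W.sub_mem h hw)) (Submodule.mem_sup_right (hq w))
      rwa [sub_sub_cancel, hzw] at h2

/-- The stabiliser of the line moves the point. -/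
theorem exists_point_move (C : P.Chamber) (hm : 2 ≤ P.m) :
    ∃ q ∈ R ρ C 2, act ρ q (C.base 0) ∉ C.fl 1 := by
  have hx0 : C.base 0 ∈ C.fl 1 := C.base_mem (by omega)
  have hx1 : C.base 1 ∈ C.fl 2 := C.base_mem hm
  have hx1n : C.base 1 ∉ C.fl 1 := C.base_notMem hm
  obtain ⟨f, hf, hef⟩ := exists_partner (base_ne_zero C (show 1 < P.m by omega)) (C.fl_sing hx1)
  obtain ⟨d, hd, h0d⟩ := P.exists_sep (x := C.base 0) (W := F ∙ C.base 1) (fun h => by
    obtain ⟨a, ha⟩ := Submodule.mem_span_singleton.1 h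
    by_cases ha0 : a = 0
    · rw [ha0, zero_smul] at ha
      exact base_ne_zero C (show 0 < P.m by omega) ha.symm
    · exact hx1n ((Submodule.smul_mem_iff _ ha0).1 (ha.symm ▸ hx0)))
  obtain ⟨q, -, hq'⟩ := exists_move_dir ρ hmoves d (C.fl_sing hx1) hf hef
    (hd _ (Submodule.mem_span_singleton_self _))
  refine ⟨q, mem_R_of ρ fun v hv => ?_, fun h => hx1n ?_⟩
  · rw [hq' v (C.fl_B hx1 hv)]
    exact add_mem hv (Submodule.smul_mem _ _ hx1)
  · rw [hq' _ (C.fl_B hx1 hx0)] at h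
    have h2 := sub_mem h hx0
    rw [add_sub_cancel_left, P.swap_one h0d] at h2
    exact (Submodule.smul_mem_iff _ (neg_ne_zero.2 (mul_ne_zero P.ε_ne P.ε_ne))).1 h2

variable {G' : Type x} [Group G'] [IsSimpleGroup G'] (π : G →* G') (hπ : Function.Surjective π)
  (hker : π.ker ≤ Subgroup.center G)
include hπ hker
variable [Finite G]

theorem not_rad_le_ker (hn : 2 < finrank F V) {e : V} (he : e ≠ 0) (hes : P.Sing e) :
    ¬ rad ρ e ≤ π.ker := by
  intro h
  obtain ⟨f, hf, hef⟩ := exists_partner he hes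
  obtain ⟨f', hd, hne⟩ := exists_ne_partner (Or.inl hn) he hes hef hf
  obtain ⟨q, hq, hqf, -⟩ := exists_move ρ hmoves hd
  have hf0 : f ≠ 0 := fun h => by rw [h, map_zero] at hef; exact zero_ne_one hef
  obtain ⟨c, hc⟩ := Submodule.mem_span_singleton.1 (mem_span_of_fixed (Or.inl hn) hf0 hf
    (x := act ρ q f) fun g g' hg => by
      obtain ⟨r, hr, -, hrv⟩ := exists_move ρ hmoves hg
      rw [hg.move_apply, ← hrv, ← act_mul, Subgroup.mem_center_iff.1 (hker (h hq)) r, act_mul, hr.1])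
  rw [hqf] at hc
  have h1 := hd.ef'
  rw [← hc, B_smul_right, hef, mul_one] at h1
  exact hne (by rw [← hc, h1, one_smul])

/-- An overgroup of the radical of the point covers the image or stabilises a totally singular subspace. -/
theorem dichotomy (C : P.Chamber) (hm : 1 ≤ P.m) (hn : 2 < finrank F V) {M : Subgroup G}
    (hM : rad ρ (C.base 0) ≤ M) :
    M.map π = ⊤ ∨ ∃ W : Submodule F V, P.TS W ∧ C.base 0 ∈ W ∧ ∀ g ∈ M, ∀ v ∈ W, act ρ g v ∈ W := by
  have hxs : P.Sing (C.base 0) := C.fl_sing (C.base_mem hm)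
  by_cases hall : ∀ g ∈ M, ∀ h ∈ M, P.B (act ρ g (C.base 0)) (act ρ h (C.base 0)) = 0
  · refine Or.inr ⟨Submodule.span F ((fun g => act ρ g (C.base 0)) '' (M : Set G)), P.ts_span ?_ ?_,
      Submodule.subset_span ⟨1, M.one_mem, act_one ρ _⟩, fun g hg v hv => ?_⟩
    · rintro _ ⟨g, -, rfl⟩
      exact (act_sing ρ g _).2 hxs
    · rintro _ ⟨g, hg, rfl⟩ _ ⟨h, hh, rfl⟩
      exact hall g hg h hh
    · refine (Submodule.span_le.2 ?_ : _ ≤ (Submodule.span F _).comap (act ρ g : V →ₗ[F] V)) hv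
      rintro _ ⟨h, hh, rfl⟩
      exact Submodule.subset_span ⟨g * h, M.mul_mem hg hh, act_mul ρ g h _⟩
  · push Not at hall
    obtain ⟨a, ha, b, hb, hab⟩ := hall
    exact Or.inl (map_eq_top_of_orbit ρ hmoves π hπ inferInstance (base_ne_zero C hm) hxs
      (not_rad_le_ker ρ hmoves π hπ hker hn (base_ne_zero C hm) hxs) hM ha hb hab)

theorem map_unipG_ne_bot (C : P.Chamber) (hm : 1 ≤ P.m) (hn : 2 < finrank F V) :
    (unipG ρ C).map π ≠ ⊥ := fun h =>
  not_rad_le_ker ρ hmoves π hπ hker hn (base_ne_zero C hm) (C.fl_sing (C.base_mem hm))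
    ((rad_base_le ρ hmoves C hm).trans ((Subgroup.map_eq_bot_iff _).1 h))

variable (hinj : Function.Injective ρ) {p : ℕ} [hp : Fact p.Prime] [CharP F p] (C : P.Chamber)
  (hsyl : ∀ Q : Sylow p G, Nat.card Q = Nat.card {D : P.Chamber // Opp C D})
include hinj hsyl

theorem solo_polar (hm : P.m = 1) (hn : 2 < finrank F V) : Solo p G' := by
  have := Finite.of_surjective π hπ
  obtain ⟨U, hU⟩ := exists_sylow ρ hinj hmoves p C hsyl C
  have hm1 : 1 ≤ P.m := hm.ge
  refine solo_of_one (U.mapSurjective hπ) ?_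
  rw [Sylow.coe_mapSurjective, hU]
  refine soloAt_map π hπ (map_unipG_ne_bot ρ hmoves π hπ hker C hm1 hn) (unipG_le_R ρ C hm1)
    (hker.trans (center_le_R ρ hmoves hn C 1)) (R_ne_top ρ hmoves C le_rfl hm1 hn)
    (fun g hg => mem_normalizer_of ρ fun k h1 h2 => by
      obtain rfl : k = 1 := by omega
      exact hg) fun M hM => ?_
  refine (dichotomy ρ hmoves π hπ hker C hm1 hn ((rad_base_le ρ hmoves C hm1).trans hM)).imp id ?_
  rintro ⟨W, hW, h0, hinv⟩ g hg
  have hW1 : C.fl 1 = W := Submodule.eq_of_le_of_finrank_le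
    (by rw [fl_one C hm1]; exact (Submodule.span_singleton_le_iff_mem _ _).2 h0)
    (by rw [C.finrank_fl hm1, ← hm]; exact P.rank_le W hW)
  refine mem_R_of ρ ?_
  rw [hW1]
  exact hinv g hg

theorem duo_polar (hm : P.m = 2) (hs : 4 < finrank F V ∨ 2 ≤ P.t) : Duo p G' := by
  have := Finite.of_surjective π hπ
  have hn : 2 < finrank F V := by have := two_mul_le C; omega
  obtain ⟨U, hU⟩ := exists_sylow ρ hinj hmoves p C hsyl C
  have hm1 : 1 ≤ P.m := by omega
  refine duo_of_one (U.mapSurjective hπ) (R₁ := (R ρ C 1).map π) (R₂ := (R ρ C 2).map π) ?_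
  rw [Sylow.coe_mapSurjective, hU]
  refine duoAt_map π hπ (map_unipG_ne_bot ρ hmoves π hπ hker C hm1 hn) (unipG_le_R ρ C hm1)
    (unipG_le_R ρ C hm.ge) (hker.trans (center_le_R ρ hmoves hn C 1))
    (hker.trans (center_le_R ρ hmoves hn C 2)) (R_ne_top ρ hmoves C le_rfl hm1 hn)
    (R_ne_top ρ hmoves C (by omega) hm.ge hn) (fun h => ?_) (fun h => ?_)
    (fun g hg => mem_normalizer_of ρ fun k h1 h2 => ?_) fun M hM => ?_
  · obtain ⟨q, hq, hout⟩ := exists_move_out ρ hmoves C hm1 (by omega) (C.fl_ts 2)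
      (C.fl_mono (by norm_num) (C.base_mem hm1)) (C.base_mem hm.ge)
      (fl_one C hm1 ▸ C.base_notMem hm.ge)
    exact hout (((mem_R ρ).1 (h hq) _).2 (C.base_mem hm.ge))
  · obtain ⟨q, hq, hout⟩ := exists_point_move ρ hmoves C hm.ge
    exact hout (((mem_R ρ).1 (h hq) _).2 (C.base_mem hm1))
  · rcases (by omega : k = 1 ∨ k = 2) with rfl | rfl
    · exact (Subgroup.mem_inf.1 hg).1
    · exact (Subgroup.mem_inf.1 hg).2
  refine (dichotomy ρ hmoves π hπ hker C hm1 hn ((rad_base_le ρ hmoves C hm1).trans hM)).imp id ?_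
  rintro ⟨W, hW, h0, hinv⟩
  by_cases hline : ∀ g ∈ M, act ρ g (C.base 0) ∈ C.fl 1
  · refine Or.inl fun g hg => mem_R_of ρ fun v hv => ?_
    rw [fl_one C hm1] at hv
    obtain ⟨a, rfl⟩ := Submodule.mem_span_singleton.1 hv
    rw [map_smul]
    exact Submodule.smul_mem _ _ (hline g hg)
  push Not at hline
  obtain ⟨g₁, hg₁, hline⟩ := hline
  set w := act ρ g₁ (C.base 0)
  have hwW : w ∈ W := hinv g₁ hg₁ _ h0
  have h1W : C.fl 1 ≤ W := by rw [fl_one C hm1]; exact (Submodule.span_singleton_le_iff_mem _ _).2 h0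
  have hd2 : finrank F W ≤ 2 := hm ▸ P.rank_le W hW
  have hdec : ∀ v ∈ W, ∃ a : F, v - a • w ∈ C.fl 1 := fun v hv =>
    C.eq_of_le h1W hd2 hwW hline hm.ge hv
  have hwfix : w ∈ fixSet₂ (rep ρ) (unipG ρ C) := by
    intro u hu
    rw [fixSet_unipG ρ hmoves C hm1 hn, SetLike.mem_coe]
    show act ρ u w - w ∈ C.fl 1
    obtain ⟨b, hb⟩ := hdec _ (hinv u (hM hu) w hwW)
    have hpow : ∀ n : ℕ, act ρ (u ^ n) w - b ^ n • w ∈ C.fl 1 := by
      intro n
      induction n with
      | zero => rw [pow_zero, pow_zero, act_one, one_smul, sub_self]; exact zero_mem _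
      | succ n ih =>
        have e : act ρ (u ^ (n + 1)) w - b ^ (n + 1) • w =
            act ρ u (act ρ (u ^ n) w - b ^ n • w) + b ^ n • (act ρ u w - b • w) := by
          rw [pow_succ' u, act_mul, map_sub, map_smul, smul_sub, smul_smul, ← pow_succ]
          abel
        rw [e]
        exact add_mem (((mem_R ρ).1 (unipG_le_R ρ C hm1 hu) _).2 ih) (Submodule.smul_mem _ _ hb)
    obtain ⟨k, hk⟩ := U.2 ⟨u, hU.symm ▸ hu⟩
    have h2 := hpow (p ^ k)
    rw [show u ^ p ^ k = 1 from congrArg Subtype.val hk, act_one] at h2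
    have hb1 : b ^ p ^ k = 1 := by
      by_contra hne
      rw [show w - b ^ p ^ k • w = (1 - b ^ p ^ k) • w by rw [sub_smul, one_smul]] at h2
      exact hline ((Submodule.smul_mem_iff _ (sub_ne_zero.2 (Ne.symm hne))).1 h2)
    have h3 : (b - 1) ^ p ^ k = 0 := by rw [sub_pow_char_pow, hb1, one_pow, sub_self]
    rwa [sub_eq_zero.1 (eq_zero_of_pow_eq_zero h3), one_smul] at hb
  rw [fixSet₂_unipG ρ hmoves C hm.ge hs] at hwfix
  have hWeq : ∀ v, v ∈ W ↔ v ∈ C.fl 2 := by
    refine fun v => ⟨fun hv => ?_, fun hv => ?_⟩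
    · obtain ⟨a, ha⟩ := hdec v hv
      have := add_mem (C.fl_mono (show 1 ≤ 2 by norm_num) ha) (Submodule.smul_mem _ a hwfix)
      rwa [sub_add_cancel] at this
    · obtain ⟨a, ha⟩ := C.eq_of_le (C.fl_mono (show 1 ≤ 2 by norm_num)) (C.finrank_fl hm.ge).le hwfix hline
        hm.ge hv
      have := add_mem (h1W ha) (Submodule.smul_mem _ a hwW)
      rwa [sub_add_cancel] at this
  exact Or.inr fun g hg => mem_R_of ρ fun v hv => (hWeq _).1 (hinv g hg v ((hWeq v).2 hv))

theorem pair_polar (hm : 2 ≤ P.m) (hs : 4 < finrank F V ∨ 2 ≤ P.t)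
    (hlift : ∀ α : MulAut G', ∃ (φ : MulAut G) (f : V ≃+ V),
      (∀ s, π (φ s) = α (π s)) ∧ Twines (rep ρ) (rep ρ) φ f) : Pair p G' := by
  have := Finite.of_surjective π hπ
  have h2m := two_mul_le C
  have hn : 2 < finrank F V := by omega
  obtain ⟨U, hU⟩ := exists_sylow ρ hinj hmoves p C hsyl C
  have hm1 : 1 ≤ P.m := by omega
  refine pair_of_one (U.mapSurjective hπ) (R₁ := (R ρ C 1).map π) (R₂ := (R ρ C 2).map π) ?_
  rw [Sylow.coe_mapSurjective]
  refine pairAt_map π hπ hker U (hU ▸ map_unipG_ne_bot ρ hmoves π hπ hker C hm1 hn)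
    (hU ▸ unipG_le_R ρ C hm1) (hU ▸ unipG_le_R ρ C hm) (hker.trans (center_le_R ρ hmoves hn C 1))
    (hker.trans (center_le_R ρ hmoves hn C 2)) (R_ne_top ρ hmoves C le_rfl hm1 hn)
    (R_ne_top ρ hmoves C (by omega) hm hn) (fun M h1 h2 => ?_) fun α => ?_
  · rcases dichotomy ρ hmoves π hπ hker C hm1 hn
      ((rad_base_le ρ hmoves C hm1).trans ((unipG_le_R ρ C hm1).trans h1)) with h | ⟨W, hW, h0, hinv⟩
    · exact h
    exfalso
    obtain ⟨q, hq, hout⟩ := exists_point_move ρ hmoves C hm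
    rw [fl_one C hm1] at hout
    obtain ⟨r, hr, hrout⟩ := exists_move_out ρ hmoves C hm1 (by omega) hW h0 (hinv q (h2 hq) _ h0) hout
    exact hrout (hinv r (h1 hr) _ (hinv q (h2 hq) _ h0))
  · obtain ⟨φ, f, hφ, htw⟩ := hlift α
    refine ⟨φ, hφ, fun hfix => ?_⟩
    rw [hU] at hfix
    have e1 := htw.fixSet_eq hfix
    have e2 := htw.fixSet₂_eq hfix
    rw [fixSet_unipG ρ hmoves C hm1 hn] at e1
    rw [fixSet₂_unipG ρ hmoves C hm hs] at e2
    exact ⟨(htw.map_setStab _).trans (by rw [e1]; rfl), (htw.map_setStab _).trans (by rw [e2]; rfl)⟩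

end Stabilisers

end Cfsg.Agent.PMinLie.Pol
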