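import Cfsg.Agent.PMinLie.Basic

/-!
Stabilisers of fixed sets in linear actions, and passage to a central quotient.
-/

set_option autoImplicit false

namespace Cfsg.Agent.PMinLie

open Subgroup
open scoped Pointwise

universe u v w

section Quot

variable {G : Type u} [Group G] {G' : Type v} [Group G'] (π : G →* G')

/-- A subgroup containing the kernel is proper in the image. -/
theorem map_ne_top_of_ker {R : Subgroup G} (hk : π.ker ≤ R) (hR : R ≠ ⊤) : R.map π ≠ ⊤ := fun h =>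
  hR (top_unique (by rw [← comap_map_eq_self hk, h, Subgroup.comap_top]))

theorem soloAt_map [IsSimpleGroup G'] (hπ : Function.Surjective π) {U R : Subgroup G}
    (hne : U.map π ≠ ⊥) (hUR : U ≤ R) (hk : π.ker ≤ R) (hR : R ≠ ⊤) (hRU : R ≤ normalizer (U : Set G))
    (hall : ∀ M : Subgroup G, U ≤ M → M.map π = ⊤ ∨ M ≤ R) : SoloAt (U.map π) := by
  refine ⟨normalizer_ne_top hne (map_mono hUR) (map_ne_top_of_ker π hk hR), fun M hM => ?_⟩
  rcases hall (M.comap π) (map_le_iff_le_comap.1 hM) with h | h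
  · exact Or.inl (by rwa [map_comap_eq_self_of_surjective hπ] at h)
  · refine Or.inr ?_
    rw [← map_comap_eq_self_of_surjective hπ M]
    exact (map_mono (h.trans hRU)).trans (le_normalizer_map π)

theorem duoAt_map [IsSimpleGroup G'] (hπ : Function.Surjective π) {U R₁ R₂ : Subgroup G}
    (hne : U.map π ≠ ⊥) (h1 : U ≤ R₁) (h2 : U ≤ R₂) (k1 : π.ker ≤ R₁) (k2 : π.ker ≤ R₂) (t1 : R₁ ≠ ⊤)
    (t2 : R₂ ≠ ⊤) (n12 : ¬ R₁ ≤ R₂) (n21 : ¬ R₂ ≤ R₁) (hinf : R₁ ⊓ R₂ ≤ normalizer (U : Set G))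
    (hall : ∀ M : Subgroup G, U ≤ M → M.map π = ⊤ ∨ M ≤ R₁ ∨ M ≤ R₂) :
    DuoAt (U.map π) (R₁.map π) (R₂.map π) := by
  have e1 := comap_map_eq_self k1
  have e2 := comap_map_eq_self k2
  refine ⟨normalizer_ne_top hne (map_mono h1) (map_ne_top_of_ker π k1 t1), map_mono h1, map_mono h2,
    map_ne_top_of_ker π k1 t1, map_ne_top_of_ker π k2 t2, fun h => n12 ?_, fun h => n21 ?_, ?_,
    fun M hM => ?_⟩
  · rw [← e2]
    exact map_le_iff_le_comap.1 h
  · rw [← e1]
    exact map_le_iff_le_comap.1 h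
  · refine le_trans ?_ ((map_mono hinf).trans (le_normalizer_map π))
    conv_lhs => rw [← map_comap_eq_self_of_surjective hπ (R₁.map π ⊓ R₂.map π), Subgroup.comap_inf, e1, e2]
  · rcases hall (M.comap π) (map_le_iff_le_comap.1 hM) with h | h
    · exact Or.inl (by rwa [map_comap_eq_self_of_surjective hπ] at h)
    · refine Or.inr (h.imp (fun h => ?_) fun h => ?_) <;>
      · rw [← map_comap_eq_self_of_surjective hπ M]
        exact map_mono h

/-- A lift of an automorphism fixing the image of a Sylow subgroup fixes it. -/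
theorem lift_fixes [Finite G] {p : ℕ} [Fact p.Prime] (hk : π.ker ≤ center G) (U : Sylow p G)
    {φ : MulAut G} {α : MulAut G'} (hlift : ∀ s, π (φ s) = α (π s))
    (hU : ((U : Subgroup G).map π).map α.toMonoidHom = (U : Subgroup G).map π) :
    (U : Subgroup G).map φ.toMonoidHom = (U : Subgroup G) := by
  have hle : (U : Subgroup G).map φ.toMonoidHom ≤ (U : Subgroup G) ⊔ π.ker := by
    rw [← comap_map_eq, ← map_le_iff_le_comap, map_map]
    refine le_trans (le_of_eq ?_) hU.le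
    rw [map_map]
    congr 1
    ext s
    exact hlift s
  have hn : (U : Subgroup G).map φ.toMonoidHom ≤ normalizer ((U : Subgroup G) : Set G) :=
    hle.trans (sup_le le_normalizer fun z hz => mem_normalizer_iff.2 fun y => by
      rw [← mem_center_iff.1 (hk hz) y, mul_inv_cancel_right])
  have h1 := U.3 ((U.2.map φ.toMonoidHom).to_sup_of_normal_right' U.2 hn) le_sup_right
  exact eq_of_le_of_card_ge (le_sup_left.trans h1.le)
    (card_map_of_injective (f := φ.toMonoidHom) φ.injective).ge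

theorem pairAt_map [Finite G] [IsSimpleGroup G'] {p : ℕ} [Fact p.Prime] (hπ : Function.Surjective π)
    (hker : π.ker ≤ center G) (U : Sylow p G) {R₁ R₂ : Subgroup G} (hne : (U : Subgroup G).map π ≠ ⊥)
    (h1 : (U : Subgroup G) ≤ R₁) (h2 : (U : Subgroup G) ≤ R₂) (k1 : π.ker ≤ R₁) (k2 : π.ker ≤ R₂)
    (t1 : R₁ ≠ ⊤) (t2 : R₂ ≠ ⊤)
    (hall : ∀ M : Subgroup G, R₁ ≤ M → R₂ ≤ M → M.map π = ⊤)
    (hlift : ∀ α : MulAut G', ∃ φ : MulAut G, (∀ s, π (φ s) = α (π s)) ∧
      ((U : Subgroup G).map φ.toMonoidHom = (U : Subgroup G) →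
        R₁.map φ.toMonoidHom ≤ R₁ ∧ R₂.map φ.toMonoidHom ≤ R₂)) :
    PairAt p ((U : Subgroup G).map π) (R₁.map π) (R₂.map π) := by
  have := Finite.of_surjective π hπ
  refine ⟨normalizer_ne_top hne (map_mono h1) (map_ne_top_of_ker π k1 t1), map_mono h1, map_mono h2,
    map_ne_top_of_ker π k1 t1, map_ne_top_of_ker π k2 t2,
    (Subgroup.map_sup _ _ _).symm.trans (hall _ le_sup_left le_sup_right), fun α hα => ?_⟩
  obtain ⟨φ, hφ, hinv⟩ := hlift α
  have key : ∀ R : Subgroup G, R.map φ.toMonoidHom ≤ R → (R.map π).map α.toMonoidHom = R.map π := by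
    intro R hR
    refine eq_of_le_of_card_ge ?_ (card_map_of_injective (f := α.toMonoidHom) α.injective).ge
    refine le_trans (le_of_eq ?_) (map_mono (f := π) hR)
    rw [map_map, map_map]
    congr 1
    ext s
    exact (hφ s).symm
  exact ⟨key _ (hinv (lift_fixes π hker U hφ hα.2)).1, key _ (hinv (lift_fixes π hker U hφ hα.2)).2⟩

end Quot

section Stab

variable {G : Type u} [Group G] {F : Type v} [Field F] {V : Type w} [AddCommGroup V] [Module F V]

/-- The stabiliser of a set of vectors. -/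
def setStab (ρ : G →* (V ≃ₗ[F] V)) (S : Set V) : Subgroup G where
  carrier := {g | ∀ v, ρ g v ∈ S ↔ v ∈ S}
  one_mem' v := by rw [map_one]; rfl
  mul_mem' {a b} ha hb v := by rw [map_mul]; exact (ha _).trans (hb v)
  inv_mem' {a} ha v := by
    rw [← ha]
    have h : ρ a (ρ a⁻¹ v) = v := by
      rw [← LinearEquiv.mul_apply, ← map_mul, mul_inv_cancel, map_one]; rfl
    rw [h]

theorem mem_setStab {ρ : G →* (V ≃ₗ[F] V)} {S : Set V} {g : G} :
    g ∈ setStab ρ S ↔ ∀ v, ρ g v ∈ S ↔ v ∈ S := Iff.rfl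

/-- The fixed vectors of a subgroup. -/
def fixSet (ρ : G →* (V ≃ₗ[F] V)) (U : Subgroup G) : Set V := {v | ∀ u ∈ U, ρ u v = v}

/-- The vectors moved by a subgroup only within its fixed vectors. -/
def fixSet₂ (ρ : G →* (V ≃ₗ[F] V)) (U : Subgroup G) : Set V :=
  {v | ∀ u ∈ U, ρ u v - v ∈ fixSet ρ U}

/-- An element moving a set into itself stabilises it. -/
theorem mem_setStab_of_subset [Finite V] {ρ : G →* (V ≃ₗ[F] V)} {S : Set V} {g : G}
    (h : ∀ v ∈ S, ρ g v ∈ S) : g ∈ setStab ρ S := fun v => by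
  refine ⟨fun hv => ?_, h v⟩
  obtain ⟨⟨w, hw⟩, e⟩ := Finite.surjective_of_injective (f := fun x : S => (⟨ρ g x, h x x.2⟩ : S))
    (fun a b e => Subtype.ext ((ρ g).injective (congrArg Subtype.val e))) ⟨_, hv⟩
  exact (ρ g).injective (congrArg Subtype.val e) ▸ hw

theorem le_setStab_fixSet (ρ : G →* (V ≃ₗ[F] V)) (U : Subgroup G) : U ≤ setStab ρ (fixSet ρ U) :=
  fun u hu v => by
    constructor
    · intro h w hw
      have h2 := h u⁻¹ (inv_mem hu)
      have h3 : ρ u⁻¹ (ρ u v) = v := by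
        rw [← LinearEquiv.mul_apply, ← map_mul, inv_mul_cancel, map_one]; rfl
      rw [h3] at h2
      conv_lhs => rw [h2]
      conv_rhs => rw [h2]
      exact h w hw
    · intro h
      rwa [h u hu]

variable (ρ₁ ρ₂ : G →* (V ≃ₗ[F] V)) (φ : MulAut G) (f : V ≃+ V)

/-- `f` intertwines the two actions along `φ`. -/
def Twines : Prop := ∀ g v, ρ₂ (φ g) (f v) = f (ρ₁ g v)

variable {ρ₁ ρ₂ φ f}

theorem Twines.map_setStab (h : Twines ρ₁ ρ₂ φ f) (S : Set V) :
    (setStab ρ₁ S).map φ.toMonoidHom ≤ setStab ρ₂ (f '' S) := by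
  rintro _ ⟨g, hg, rfl⟩ v
  obtain ⟨w, rfl⟩ := f.surjective v
  rw [show ρ₂ (φ.toMonoidHom g) (f w) = f (ρ₁ g w) from h g w]
  exact (f.injective.mem_set_image).trans ((hg w).trans f.injective.mem_set_image.symm)

theorem Twines.fixSet_eq (h : Twines ρ₁ ρ₂ φ f) {U : Subgroup G} (hU : U.map φ.toMonoidHom = U) :
    f '' fixSet ρ₁ U = fixSet ρ₂ U := by
  ext v
  constructor
  · rintro ⟨w, hw, rfl⟩ u hu
    rw [← hU] at hu
    obtain ⟨u', hu', rfl⟩ := hu
    rw [show ρ₂ (φ.toMonoidHom u') (f w) = f (ρ₁ u' w) from h u' w, hw u' hu']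
  · intro hv
    obtain ⟨w, rfl⟩ := f.surjective v
    refine ⟨w, fun u hu => f.injective ?_, rfl⟩
    rw [← h u w]
    exact hv _ (hU.le ⟨u, hu, rfl⟩)

theorem Twines.fixSet₂_eq (h : Twines ρ₁ ρ₂ φ f) {U : Subgroup G} (hU : U.map φ.toMonoidHom = U) :
    f '' fixSet₂ ρ₁ U = fixSet₂ ρ₂ U := by
  ext v
  constructor
  · rintro ⟨w, hw, rfl⟩ u hu
    rw [← hU] at hu
    obtain ⟨u', hu', rfl⟩ := hu
    rw [show ρ₂ (φ.toMonoidHom u') (f w) = f (ρ₁ u' w) from h u' w, ← map_sub, ← h.fixSet_eq hU]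
    exact ⟨_, hw u' hu', rfl⟩
  · intro hv
    obtain ⟨w, rfl⟩ := f.surjective v
    refine ⟨w, fun u hu => ?_, rfl⟩
    have h1 := hv _ (hU.le ⟨u, hu, rfl⟩)
    rw [show ρ₂ (φ.toMonoidHom u) (f w) = f (ρ₁ u w) from h u w, ← map_sub, ← h.fixSet_eq hU] at h1
    exact f.injective.mem_set_image.1 h1

end Stab

end Cfsg.Agent.PMinLie
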