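import Cfsg.Agent.PMinLie.Basic
import Cfsg.Agent.TwistedF4Two.Overgroup
import Cfsg.Prelude.Def_LieTwisted

/-!
The Tits group: two maximal overgroups of a Sylow 2-subgroup, of different orders.
-/

set_option autoImplicit false
set_option maxRecDepth 100000

namespace Cfsg.Agent.PMinLie.Tits

open Subgroup Cfsg.Agent.TwistedF4Two

attribute [local irreducible] rho toM comp img Cfsg.Lie.chevF4 gen

universe u

/-- The first two cells. -/
def InC (g : T) : Prop := ∃ u ∈ UT, ∃ w : ℕ, w < 2 ∧ ∃ u' ∈ UT, g = u * weylEl w * u'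

theorem inC_of_UT {g : T} (hg : g ∈ UT) : InC g :=
  ⟨g, hg, 0, two_pos, 1, UT.one_mem, by rw [weylEl_zero, mul_one, mul_one]⟩

theorem inC_mul_left {u g : T} (hu : u ∈ UT) (hg : InC g) : InC (u * g) := by
  obtain ⟨v, hv, w, hw, v', hv', rfl⟩ := hg
  exact ⟨u * v, UT.mul_mem hu hv, w, hw, v', hv', by simp only [mul_assoc]⟩

theorem steps_small : ∀ k : Fin 2, ∀ w : Fin 2,
    (steps.getD ((k : ℕ) * 16 + (w : ℕ)) (0, 0, 0)).2.1 < 2 := by decide +kernel

theorem inC_s1_mul {g : T} (hg : InC g) : InC (s1 * g) := by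
  obtain ⟨u, hu, w, hw, u', hu', rfl⟩ := hg
  obtain ⟨v, hv, k, hk, rfl⟩ := refl1.hdec u hu
  obtain ⟨-, hv2, -⟩ := refl1.of_mem_closure hv
  obtain ⟨-, e⟩ := steps1_ok ⟨k, hk⟩ ⟨w, by omega⟩
  have hr := ((rep_s1.mul ((rep_gen 0).pow k)).mul (rep_weyl (show w < 16 by omega))).eq
    (((rep_pc_prod _).mul (rep_weyl (show (steps.getD (k * 16 + w) (0, 0, 0)).2.1 < 16 from
      lt_of_lt_of_le (steps_small ⟨k, hk⟩ ⟨w, hw⟩) (by norm_num)))).mul (rep_pc_prod _)) e
  refine ⟨s1 * v * s1 * sprod pc (steps.getD (k * 16 + w) (0, 0, 0)).1, UT.mul_mem hv2 (sprod_pc_mem _), _,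
    steps_small ⟨k, hk⟩ ⟨w, hw⟩, sprod pc (steps.getD (k * 16 + w) (0, 0, 0)).2.2 * u',
    UT.mul_mem (sprod_pc_mem _) hu', ?_⟩
  calc s1 * (v * gen 0 ^ k * weylEl w * u') = s1 * v * (s1 * s1) * gen 0 ^ k * weylEl w * u' := by
        rw [s1_sq]; simp only [mul_one, mul_assoc]
    _ = s1 * v * s1 * (s1 * gen 0 ^ k * weylEl w) * u' := by simp only [mul_assoc]
    _ = _ := by rw [hr]; simp only [mul_assoc]

/-- The parabolic subgroup of the first reflection. -/
def P1 : Subgroup T where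
  carrier := {g | InC g}
  one_mem' := inC_of_UT UT.one_mem
  inv_mem' {g} hg := by
    obtain ⟨u, hu, w, hw, u', hu', rfl⟩ := hg
    refine ⟨u'⁻¹, UT.inv_mem hu', w, hw, u⁻¹, UT.inv_mem hu, ?_⟩
    rw [mul_inv_rev, mul_inv_rev, mul_assoc]
    congr 2
    interval_cases w
    · rw [weylEl_zero, inv_one]
    · rw [weylEl_one]; exact inv_eq_of_mul_eq_one_right s1_sq
  mul_mem' {a b} ha hb := by
    obtain ⟨u, hu, w, hw, u', hu', rfl⟩ := ha
    rw [mul_assoc, mul_assoc]
    refine inC_mul_left hu ?_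
    interval_cases w
    · rw [weylEl_zero, one_mul]; exact inC_mul_left hu' hb
    · rw [weylEl_one]; exact inC_s1_mul (inC_mul_left hu' hb)

theorem weylEl_one_not_PT : weylEl 1 ∉ PT := fun hg => by
  rw [← stabilizer_hi0, MulAction.mem_stabilizer_iff, (rep_weyl_smul (w := 1) (by norm_num)).1] at hg
  have h25 : (weights.getD 1 (0, 0)).1 = 25 := by
    refine smul_basis_eq UT.one_mem (weights_ok.1 ⟨1, by norm_num⟩).2.2.2.1 ?_
    rw [one_smul]
    exact hg
  rcases weights_ok.2.2.1 ⟨1, by norm_num⟩ h25 with h | h <;> simp at h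

theorem mem_UT_of_PT {g : T} (hg : g ∈ P1) (hP : g ∈ PT) : g ∈ UT := by
  obtain ⟨u, hu, w, hw, u', hu', rfl⟩ := hg
  interval_cases w
  · rw [weylEl_zero, mul_one]; exact UT.mul_mem hu hu'
  · exact absurd ((PT.mul_mem_cancel_left (UT_le_PT hu)).1 ((PT.mul_mem_cancel_right (UT_le_PT hu')).1 hP))
      weylEl_one_not_PT

theorem card_P1_le : Nat.card P1 ≤ 12288 := by
  let f : UT × Fin 3 → T := fun p =>
    (p.1 : T) * (if p.2 = 0 then 1 else if p.2 = 1 then s1 else s1 * gen 0)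
  have hsub : ∀ d : P1, ∃ p, f p = (d : T) := by
    intro d
    obtain ⟨u, hu, w, hw, u', hu', e⟩ := d.2
    interval_cases w
    · refine ⟨(⟨u * u', UT.mul_mem hu hu'⟩, 0), ?_⟩
      rw [e, weylEl_zero, mul_one]
      simp [f]
    · obtain ⟨v, hv, k, hk, rfl⟩ := refl1.hdec u' hu'
      obtain ⟨-, hv2, -⟩ := refl1.of_mem_closure hv
      have e' : (d : T) = u * (s1 * v * s1) * (s1 * gen 0 ^ k) := by
        rw [e, weylEl_one]
        simp only [mul_assoc]
        rw [← mul_assoc s1 s1, s1_sq, one_mul]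
      interval_cases k
      · refine ⟨(⟨u * (s1 * v * s1), UT.mul_mem hu hv2⟩, 1), ?_⟩
        rw [e', pow_zero, mul_one]
        simp [f]
      · refine ⟨(⟨u * (s1 * v * s1), UT.mul_mem hu hv2⟩, 2), ?_⟩
        rw [e', pow_one]
        simp [f]
  choose g hg using hsub
  have hinj : Function.Injective g := fun a b h => by
    have := hg a
    rw [h, hg b] at this
    exact Subtype.ext this.symm
  have := Nat.card_le_card_of_injective g hinj
  rw [Nat.card_prod, card_UT, Nat.card_fin] at this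
  omega

/-- An overgroup reaching beyond the first two cells contains the stabiliser of the point. -/
theorem PD_le_or {H : Subgroup D} (hU : U1D ≤ H) : PD ≤ H ∨ H ≤ P1.comap D.subtype := by
  by_cases hall : ∀ d ∈ H, InC (d : T)
  · exact Or.inr fun d hd => hall d hd
  push Not at hall
  obtain ⟨d, hd, hno⟩ := hall
  refine Or.inl ?_
  obtain ⟨u, hu, w, hw, u', hu', e⟩ := inCells_all ((d : D) : T)
  have h2 : 2 ≤ w := by
    by_contra hlt
    exact hno ⟨u, hu, w, by omega, u', hu', e⟩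
  set HT := H.map D.subtype with hHT
  have hUT : U1 ≤ HT := fun x hx => ⟨⟨x, U1_le_D hx⟩, hU hx, rfl⟩
  have hmem : u * weylEl w * u' ∈ HT := ⟨d, hd, e⟩
  have hfin : ∀ q ∈ HT, q ∈ PT → q ∉ UT → PD ≤ H := by
    rintro q ⟨c, hc, rfl⟩ hP hne
    exact PD_le_of_mem hU hc hP hne
  have hs2 : s2 ∉ UT := fun h => by
    have := cell_eq UT.one_mem UT.one_mem h UT.one_mem (w := 2) (w' := 0) (by norm_num) (by norm_num)
      (by rw [one_mul, mul_one, weylEl_two, weylEl_zero, mul_one, mul_one])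
    omega
  by_cases hu1 : u ∈ U1
  · have hu'1 : u' ∈ U1 := by
      rw [mem_U1_iff_mem_D hu']
      have hD : u * weylEl w * u' ∈ D := e ▸ d.2
      exact (Subgroup.mul_mem_cancel_left _ (D.mul_mem (U1_le_D hu1) (weylEl_mem_D w))).1 hD
    have hW : weylEl w ∈ HT :=
      (Subgroup.mul_mem_cancel_left _ (hUT hu1)).1 ((Subgroup.mul_mem_cancel_right _ (hUT hu'1)).1 hmem)
    exact hfin _ (s2_mem_of_weyl hUT hw h2 hW) s2_mem_PT hs2
  · obtain ⟨p, hp0⟩ : ∃ p : T, p = pc.getD 0 1 := ⟨_, rfl⟩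
    have hpU : p ∈ UT := hp0 ▸ pc_getD_mem 0
    have hp1 : p ∉ U1 := hp0 ▸ pc_zero_not_mem
    have hpc : ∀ x ∈ U1, p * x * p⁻¹ ∈ U1 := hp0 ▸ fun x hx => pc_zero_conj hx
    have hu'1 : u' ∉ U1 := fun h => by
      have hD : u * weylEl w * u' ∈ D := e ▸ d.2
      exact hu1 ((mem_U1_iff_mem_D hu).2 ((Subgroup.mul_mem_cancel_right _ (weylEl_mem_D w)).1
        ((Subgroup.mul_mem_cancel_right _ (U1_le_D h)).1 hD)))
    have h1 : u * p⁻¹ ∈ U1 := by
      rw [mul_mem_U1_iff hu (UT.inv_mem hpU), inv_mem_iff]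
      exact iff_of_false hu1 hp1
    have h1' : p * u' ∈ U1 := by
      rw [mul_mem_U1_iff hpU hu']
      exact iff_of_false hp1 hu'1
    have hW : p * weylEl w * p⁻¹ ∈ HT := by
      have : u * p⁻¹ * (p * weylEl w * p⁻¹) * (p * u') ∈ HT := by
        rw [show u * p⁻¹ * (p * weylEl w * p⁻¹) * (p * u') = u * weylEl w * u' by group]
        exact hmem
      exact (Subgroup.mul_mem_cancel_left _ (hUT h1)).1 ((Subgroup.mul_mem_cancel_right _ (hUT h1')).1 this)
    have hq : p * s2 * p⁻¹ ∈ HT := conj_step hUT hpc hw h2 rfl hW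
    refine hfin _ hq (PT.mul_mem (PT.mul_mem (UT_le_PT hpU) s2_mem_PT) (PT.inv_mem (UT_le_PT hpU)))
      fun h => hs2 ?_
    have := UT.mul_mem (UT.mul_mem (UT.inv_mem hpU) h) hpU
    rwa [show p⁻¹ * (p * s2 * p⁻¹) * p = s2 by group] at this

theorem duoAt_tits : DuoAt U1D PD (P1.comap D.subtype) ∧ Nat.card PD ≠ Nat.card (P1.comap D.subtype) := by
  have hS : IsSimpleGroup D := isSimpleGroup_D
  have hUR : U1D ≤ P1.comap D.subtype := fun d hd => inC_of_UT (U1_le hd)
  have hs1 : (⟨weylEl 1, weylEl_mem_D 1⟩ : D) ∈ P1.comap D.subtype :=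
    ⟨1, UT.one_mem, 1, one_lt_two, 1, UT.one_mem, by simp⟩
  have hU : U1D ≠ ⊥ := fun h => by
    have := card_U1D
    rw [h, card_bot] at this
    omega
  have hcard : Nat.card PD ≠ Nat.card (P1.comap D.subtype) := fun h => by
    have hd : Nat.card (P1.comap D.subtype) ∣ Nat.card P1 :=
      card_dvd_of_injective ((D.subtype.comp (P1.comap D.subtype).subtype).codRestrict P1 fun x => x.2)
        fun a b e => Subtype.ext (Subtype.ext (congrArg Subtype.val e :))
    rw [← h, card_PD] at hd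
    have h4 : 4096 ∣ Nat.card P1 := card_UT ▸ card_dvd_of_le (fun g hg => inC_of_UT hg : UT ≤ P1)
    have := card_P1_le
    have := Nat.card_pos (α := P1)
    obtain ⟨c, hc⟩ := h4
    obtain ⟨c', hc'⟩ := hd
    omega
  refine ⟨⟨normalizer_ne_top hU U1D_le_PD isCoatom_PD.1, U1D_le_PD, hUR, isCoatom_PD.1, fun h => ?_,
    fun h => ?_, fun h => weylEl_one_not_PT (mem_PD_iff.1 (h hs1)), ?_, fun M hM => ?_⟩, hcard⟩
  · have h2 : (⟨weylEl 2, weylEl_mem_D 2⟩ : D) ∈ P1.comap D.subtype := h ▸ mem_top _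
    obtain ⟨u, hu, w, hw, u', hu', e⟩ := h2
    have := cell_eq UT.one_mem UT.one_mem hu hu' (w := 2) (w' := w) (by norm_num) (by omega)
      (by rw [one_mul, mul_one]; exact e)
    omega
  · rcases isCoatom_PD.le_iff.1 h with h' | h'
    · have h2 : (⟨weylEl 2, weylEl_mem_D 2⟩ : D) ∈ P1.comap D.subtype := h' ▸ mem_top _
      obtain ⟨u, hu, w, hw, u', hu', e⟩ := h2
      have := cell_eq UT.one_mem UT.one_mem hu hu' (w := 2) (w' := w) (by norm_num) (by omega)
        (by rw [one_mul, mul_one]; exact e)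
      omega
    · exact hcard (by rw [h'])
  · rintro d ⟨h1, h2⟩
    exact le_normalizer ((mem_U1_iff_mem_D (mem_UT_of_PT h2 (mem_PD_iff.1 h1))).2 d.2 : (d : T) ∈ U1)
  · rcases PD_le_or hM with h | h
    · exact (isCoatom_PD.le_iff.1 h).imp id fun e => Or.inl e.le
    · exact Or.inr (Or.inr h)

theorem pair_tits [Fact (Nat.Prime 2)] : Pair 2 Cfsg.Lie.TitsGroup := by
  have hidx : ¬ 2 ∣ U1D.index := by
    have h := Subgroup.card_mul_index U1D
    rw [card_U1D, card_D] at h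
    omega
  exact pair_of_one (K := D) ((IsPGroup.of_card (card_U1D.trans (by norm_num : (2048 : ℕ) = 2 ^ 11))).toSylow hidx)
    (duoAt_tits.1.pairAt (Or.inr duoAt_tits.2))

theorem pair_isoTits {G : Type u} [Group G] [Fact (Nat.Prime 2)] (h : Cfsg.Lie.IsoTits G) : Pair 2 G := by
  obtain ⟨e⟩ := h
  exact pair_of_mulEquiv e.symm pair_tits

end Cfsg.Agent.PMinLie.Tits
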