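import Cfsg.Agent.PMinLie.BN
import Cfsg.Agent.TitsLemma.Twisted
import Cfsg.Agent.TitsLemma.ReeF4
import Cfsg.Agent.TitsLemma.Ree
import Cfsg.Agent.TitsLemma.Suzuki
import Cfsg.Agent.ChevAut.Twisted.Cases
import Cfsg.Agent.ChevAut.Twisted.Cells

/-!
The twisted groups: ²E₆ and ³D₄ and ²F₄ have two invariant parabolic subgroups; ²G₂ and the Suzuki groups
have rank one.
-/

set_option autoImplicit false
set_option maxRecDepth 100000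

namespace Cfsg.Agent.PMinLie

open Cfsg.Lie Cfsg.Agent.Chev Subgroup
open scoped MatrixGroups

universe u

section Twist

variable {D : ChevalleyDatum} {F : Type u} [Field F] (T : Twist D F)

theorem pair_twist [Fintype F] {p : ℕ} [Fact p.Prime] [CharP F p] {q : ℕ} (hq2 : 2 ≤ q)
    (hK : Fintype.card F = q ^ T.k) (hk : 1 ≤ T.k)
    (hq : ∀ a, Nat.card {t : F // T.Par a t} = q ^ T.len a) (hR : T.Rigid)
    (a₀ a₁ : Fin T.m) (ha : a₁ ≠ a₀)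
    (hsimple : IsSimpleGroup ↥T.G1) : Pair p ↥T.G1 := by
  obtain ⟨n, hn, hn'⟩ := FiniteField.card F p
  have hd : q ∣ p ^ (n : ℕ) := by rw [← hn', hK]; exact dvd_pow_self q (by omega)
  obtain ⟨e, -, hqe⟩ := (Nat.dvd_prime_pow hn).1 hd
  have he : 1 ≤ e := by
    by_contra h
    rw [show e = 0 by omega, pow_zero] at hqe
    omega
  obtain ⟨Q, hQ⟩ := T.exists_sylow1 hqe he hK hq
  have hne : (Q : Subgroup ↥T.G1) ≠ ⊥ := fun h => by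
    have hm : (⟨_, T.y_mem_G1 (T.par_one a₀) true⟩ : ↥T.G1) ∈ T.uT :=
      mem_subgroupOf.2 (T.y_mem_U1 (T.par_one _))
    rw [← hQ, h, mem_bot] at hm
    exact T.y_ne_one one_ne_zero true (congrArg Subtype.val hm)
  have hcell : ∀ a, T.Cell a (T.nA a) := fun a => ⟨1, one_mem _, 1, one_mem _, by group⟩
  refine pair_bn (P := T.bnPair1) Q (hQ ▸ TitsLemma.split_twist T) hne
    (s := T.nG1 a₀) (t := T.nG1 a₁) ⟨a₀, rfl⟩ ⟨a₁, rfl⟩ (fun e => ha (T.cell_eq (hcell a₁) (by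
      have e' : T.nA a₁ = T.nA a₀ := congrArg Subtype.val e
      rw [e']; exact hcell a₀))) fun α hα => ?_
  obtain ⟨x, θ, hθ, hN⟩ := T.exists_normalised1 p Q hQ α
  have hx : (x : GL D.Idx F) ∈ T.B1 := T.mem_B1_of_normalizes x.2 fun u hu => by
    have h1 := conj_mem_of_fixing hα hθ (hQ ▸ hN.1) (u := ⟨u, T.U1_le_G1 hu⟩)
      (hQ ▸ mem_subgroupOf.2 hu)
    rw [hQ] at h1
    exact mem_subgroupOf.1 h1
  have hxB : x ∈ T.bnPair1.B := mem_subgroupOf.2 (T.G1_inf_borel.ge hx)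
  have hB : ∀ b ∈ T.bnPair1.B, θ b ∈ T.bnPair1.B := fun b hb => mem_subgroupOf.2
    (T.G1_inf_borel.ge ((hN.mem_B1 b).2 (T.G1_inf_borel.le (mem_subgroupOf.1 hb))))
  refine ⟨fun b hb => by rw [hθ]; exact mul_mem (mul_mem hxB (hB b hb)) (inv_mem hxB), ?_⟩
  rintro _ ⟨a, rfl⟩
  rw [hθ]
  have hx' := BN.B_le_parabolic (P := T.bnPair1) {T.nG1 a} hxB
  refine mul_mem (mul_mem hx' ?_) (inv_mem hx')
  obtain ⟨b, hb, b', hb', e'⟩ := (hN.cell_fixed hq2 hq hR a (T.nG1 a)).2 (hcell a)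
  rw [show θ (T.nG1 a) = ⟨b, T.B1_le_G1 hb⟩ * T.nG1 a * ⟨b', T.B1_le_G1 hb'⟩ from Subtype.ext e']
  exact mul_mem (mul_mem (BN.B_le_parabolic _ (mem_subgroupOf.2 (T.G1_inf_borel.ge hb)))
    (BN.closure_le_parabolic _ (subset_closure rfl)))
    (BN.B_le_parabolic _ (mem_subgroupOf.2 (T.G1_inf_borel.ge hb')))

theorem pair_twistedE6D4 {G : Type*} [Group G] {p : ℕ} [Fact p.Prime]
    (h : Cfsg.IsTwistedE6D4Char p G) : Pair p G := by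
  obtain ⟨K, _, _, _, q, hq, ⟨hK, ⟨e⟩⟩ | ⟨hK, ⟨e⟩⟩⟩ := h
  · obtain ⟨φ, hφ, hq2, hqφ, hG⟩ := exists_twistE6 hq hK
    refine pair_of_mulEquiv (e.trans (MulEquiv.subgroupCongr hG.symm)).symm ?_
    exact pair_twist (twistE6 K φ hφ) hq2 hK (show 1 ≤ 2 by omega) (e6_card_par φ hφ hqφ hq2 hK)
      (e6_rigid φ hφ) (0 : Fin 4) (1 : Fin 4) (by decide : (1 : Fin 4) ≠ 0)
      (e6_twist_simple φ hφ hqφ hq2 hK).1
  · obtain ⟨φ, hφ, hq2, hqφ, hG⟩ := exists_twistD4 hq hK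
    refine pair_of_mulEquiv (e.trans (MulEquiv.subgroupCongr hG.symm)).symm ?_
    exact pair_twist (twistD4 K φ hφ) hq2 hK (show 1 ≤ 3 by omega) (d4_card_par φ hφ hqφ hq2 hK)
      (d4_rigid φ hφ) (0 : Fin 2) (1 : Fin 2) (by decide : (1 : Fin 2) ≠ 0)
      (d4_twist_simple φ hφ hqφ hq2 hK).1

end Twist

section ReeF4

variable {K : Type u} [Field K] [Fintype K] [CharP K 2] {m : ℕ}

theorem pair_reeF4 [Fact (Nat.Prime 2)] (hK : Fintype.card K = 2 ^ (2 * m + 1)) (hm : 1 ≤ m) :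
    Pair 2 ↥(twistedF4 K (2 ^ m)) := by
  obtain ⟨Q, hQ⟩ := ReeF4.exists_sylow hK
  have hsimple := (ReeF4.simple hK hm).1
  have hne : (Q : Subgroup ↥(twistedF4 K (2 ^ m))) ≠ ⊥ := fun h => by
    obtain ⟨y, hy, hy1⟩ := ReeF4.exists_fm_ne_one (ReeF4.isTheta hK) 0
    have hyU := ReeF4.fm_le_U1 _ hy
    have hmem : (⟨y, ReeF4.U1_le_G1 hyU⟩ : ↥(twistedF4 K (2 ^ m))) ∈
        (Q : Subgroup ↥(twistedF4 K (2 ^ m))) := by rw [hQ]; exact mem_subgroupOf.2 hyU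
    rw [h, mem_bot] at hmem
    exact hy1 (congrArg Subtype.val hmem)
  refine pair_bn (P := ReeF4.bnPair hK) Q (hQ ▸ TitsLemma.split_reeF4 hK) hne
    (s := ReeF4.sG hK 0) (t := ReeF4.sG hK 1) ⟨0, rfl⟩ ⟨1, rfl⟩ (fun e => ?_) fun α hα => ?_
  · have e' : (ReeF4.sO 1 : GL chevF4.Idx K) = ReeF4.sO 0 := congrArg Subtype.val e
    have h1 := ReeF4.isMon_sO (K := K) 1
    rw [e'] at h1
    exact absurd (ReeF4.wA_injective (isMon_unique facts_chevF4.{u} h1 (ReeF4.isMon_sO 0))) (by decide)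
  obtain ⟨x, θ, hθ, hN⟩ := ReeF4.exists_normalised hK α
  have hNU : ((ReeF4.U1 K m).subgroupOf (twistedF4 K (2 ^ m))).map θ.toMonoidHom =
      (ReeF4.U1 K m).subgroupOf (twistedF4 K (2 ^ m)) := by
    ext y
    rw [mem_map_equiv, mem_subgroupOf, mem_subgroupOf]
    have := (hN (θ.symm y)).1
    rw [θ.apply_symm_apply] at this
    exact this.symm
  have hx : (x : GL chevF4.Idx K) ∈ chevF4.borelSubgroup K ⊓ ReeF4.fx m :=
    ReeF4.mem_B1_of_normalizes hK (ReeF4.G1_le_fx (ReeF4.isTheta hK) x.2) fun u hu => by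
      have h1 := conj_mem_of_fixing hα hθ (hQ ▸ hNU) (u := ⟨u, ReeF4.U1_le_G1 hu⟩)
        (hQ ▸ mem_subgroupOf.2 hu)
      rw [hQ] at h1
      exact mem_subgroupOf.1 h1
  have hBin : ∀ {g : ↥(twistedF4 K (2 ^ m))}, (g : GL chevF4.Idx K) ∈ chevF4.borelSubgroup K ⊓ ReeF4.fx m →
      g ∈ (ReeF4.bnPair hK).B := fun {g} hg => mem_subgroupOf.2 (mem_inf.2 ⟨hg.1, g.2⟩)
  have hxB := hBin hx
  have hB : ∀ b ∈ (ReeF4.bnPair hK).B, θ b ∈ (ReeF4.bnPair hK).B := fun b hb =>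
    hBin (hN.mem_B1 hK (mem_inf.2 ⟨(mem_inf.1 (mem_subgroupOf.1 hb)).1,
      ReeF4.G1_le_fx (ReeF4.isTheta hK) b.2⟩))
  refine ⟨fun b hb => by rw [hθ]; exact mul_mem (mul_mem hxB (hB b hb)) (inv_mem hxB), ?_⟩
  rintro _ ⟨a, rfl⟩
  rw [hθ]
  have hx' := BN.B_le_parabolic (P := ReeF4.bnPair hK) {ReeF4.sG hK a} hxB
  refine mul_mem (mul_mem hx' ?_) (inv_mem hx')
  have hwd : (ReeF4.nW (ReeF4.wd ⟨a + 1, by omega⟩) : GL chevF4.Idx K) = ReeF4.sO a := by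
    fin_cases a <;> exact ReeF4.nW_single _
  obtain ⟨b, hb, y, hy, e'⟩ := hN.cell_fixed hK a (x := ReeF4.sG hK a) (by
    refine ⟨1, one_mem _, 1, one_mem _, ?_⟩
    rw [one_mul, mul_one, hwd]; rfl)
  rw [hwd] at e'
  have hbG : b ∈ twistedF4 K (2 ^ m) := by rw [← ReeF4.fx_eq hK]; exact hb.2
  rw [show θ (ReeF4.sG hK a) = ⟨b, hbG⟩ * ReeF4.sG hK a * ⟨y, ReeF4.fm_le_G1 (ReeF4.inW1_pW _) hy⟩
    from Subtype.ext e']
  exact mul_mem (mul_mem (BN.B_le_parabolic _ (hBin (g := ⟨b, hbG⟩) hb))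
    (BN.closure_le_parabolic _ (subset_closure rfl)))
    (BN.B_le_parabolic _ (hBin (g := ⟨y, ReeF4.fm_le_G1 (ReeF4.inW1_pW _) hy⟩)
      (ReeF4.U1_le_borel_fx (ReeF4.isTheta hK) (ReeF4.fm_le_U1 _ hy))))

theorem pair_iso2F4 {G : Type*} [Group G] [Fact (Nat.Prime 2)] (h : Iso2F4 G) : Pair 2 G := by
  obtain ⟨K, _, _, m, hm, hK, ⟨e⟩⟩ := h
  have := ReeF4.charP_two hK
  exact pair_of_mulEquiv e.symm (pair_reeF4 hK hm)

end ReeF4

/-- A group whose only maximal overgroup of `U` is a subgroup normalising it. -/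
theorem soloAt_of {G : Type*} [Group G] [IsSimpleGroup G] {U B : Subgroup G} (hU : U ≠ ⊥) (hUB : U ≤ B)
    (hB : B ≠ ⊤) (hBU : B ≤ normalizer (U : Set G))
    (key : ∀ M : Subgroup G, U ≤ M → ¬ M ≤ B → normalClosure (U : Set G) ≤ M) : SoloAt U := by
  refine ⟨normalizer_ne_top hU hUB hB, fun M hM => ?_⟩
  by_cases h : M ≤ B
  · exact Or.inr (h.trans hBU)
  · refine Or.inl (top_unique ?_)
    rw [← (IsSimpleGroup.eq_bot_or_eq_top_of_normal (normalClosure (U : Set G))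
      normalClosure_normal).resolve_left (fun h => hU (eq_bot_iff.2 fun x hx =>
        h ▸ subset_normalClosure hx))]
    exact key M hM h

theorem solo_sz {F : Type u} [Field F] [Fintype F] {m : ℕ} [Fact (Nat.Prime 2)] (hm : 1 ≤ m)
    (hF : Fintype.card F = 2 ^ (2 * m + 1)) : Solo 2 (Cfsg.Sz F m) := by
  have hG := RankOne.Ovoid.good_of_card (m := m) hF
  have := Cfsg.Agent.Suzuki.isSimple hm hF
  have hp : IsPGroup 2 ↥(Cfsg.Agent.Suzuki.U hG) :=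
    IsPGroup.of_card (n := (2 * m + 1) * 2) (by
      rw [Cfsg.Agent.Suzuki.card_U, Nat.card_eq_fintype_card, hF, ← pow_mul])
  let Q : Sylow 2 (Cfsg.Sz F m) := hp.toSylow (Cfsg.Agent.Suzuki.not_dvd_index_U hG hm hF)
  have hne : Cfsg.Agent.Suzuki.U hG ≠ ⊥ := fun h => Cfsg.Agent.Suzuki.T_ne_one hG
    ((Subgroup.mem_bot (G := Cfsg.Sz F m)).1 (h ▸ Cfsg.Agent.Suzuki.T_mem hG 0 1))
  refine solo_of_one Q (soloAt_of (U := Cfsg.Agent.Suzuki.U hG) hne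
    (B := MulAction.stabilizer (Cfsg.Sz F m) (Cfsg.Agent.Suzuki.pI : Cfsg.suzukiOvoid F m))
    ?_ ?_ (Cfsg.Agent.Suzuki.normalizer_U hG hm hF).ge fun M hM hB => ?_)
  · rw [← Cfsg.Agent.Suzuki.normalizer_U hG hm hF]
    exact le_normalizer
  · intro h
    have h1 : Cfsg.Agent.Suzuki.J hG • (Cfsg.Agent.Suzuki.pI : Cfsg.suzukiOvoid F m) =
        Cfsg.Agent.Suzuki.pI :=
      MulAction.mem_stabilizer_iff.1 (h ▸ mem_top (Cfsg.Agent.Suzuki.J hG))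
    rw [Cfsg.Agent.Suzuki.J_pI] at h1
    exact Cfsg.Agent.Suzuki.pP_ne_pI 0 0 h1
  obtain ⟨g, hg, hgI⟩ := SetLike.not_le_iff_exists.1 hB
  refine (closure_le _).2 fun y hy => ?_
  obtain ⟨u, hu, hy⟩ := Group.mem_conjugatesOfSet_iff.1 hy
  obtain ⟨x, rfl⟩ := isConj_iff.1 hy
  obtain ⟨h, hhM, hh⟩ : ∃ h ∈ M, h • (Cfsg.Agent.Suzuki.pI : Cfsg.suzukiOvoid F m) =
      x • Cfsg.Agent.Suzuki.pI := by
    by_cases hx : x • (Cfsg.Agent.Suzuki.pI : Cfsg.suzukiOvoid F m) = Cfsg.Agent.Suzuki.pI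
    · exact ⟨1, M.one_mem, by rw [one_smul, hx]⟩
    · obtain ⟨v, hv, -⟩ := Cfsg.Agent.Suzuki.U_regular hG hgI hx
      exact ⟨(v : Cfsg.Sz F m) * g, M.mul_mem (hM v.2) hg, by rw [mul_smul]; exact hv⟩
  have h1 := Cfsg.Agent.Suzuki.conj_mem_U hG hm hF (g := h⁻¹ * x)
    (by rw [mul_smul, inv_smul_eq_iff, hh]) hu
  rw [SetLike.mem_coe, show x * u * x⁻¹ = h * (h⁻¹ * x * u * (h⁻¹ * x)⁻¹) * h⁻¹ by group]
  exact M.mul_mem (M.mul_mem hhM (hM h1)) (M.inv_mem hhM)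

theorem solo_ree {K : Type u} [Field K] [Fintype K] [CharP K 3] {m : ℕ} [Fact (Nat.Prime 3)]
    (hK : Fintype.card K = 3 ^ (2 * m + 1)) (hm : 1 ≤ m) : Solo 3 ↥(twistedG2 K (3 ^ m)) := by
  have := (Chev.Ree.simple hK hm).1
  refine solo_of_one (Chev.Ree.U1s hK) ?_
  rw [Chev.Ree.coe_U1s hK]
  have hne : Chev.Ree.U1 K m ≠ ⊥ := fun h => by
    have hm1 := Chev.Ree.rr_mem_U1 hK ((1, 0, 0) : K × K × K) (m := m)
    rw [h, mem_bot] at hm1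
    exact one_ne_zero (congrArg Prod.fst (Chev.Ree.rr_eq_one hm1))
  refine soloAt_of (B := Chev.Ree.B1 K m) hne (Chev.Ree.U1_le_B1 hK) ?_ ?_ fun M hM hB => ?_
  · exact fun h => Chev.Ree.nn_not_mem_B1 (K := K) (m := m) hK (h ▸ mem_top _)
  · intro g hg
    refine mem_normalizer_iff.2 fun y => ⟨Chev.Ree.B1_conj_U1 hK hg, fun hy => ?_⟩
    have h1 := Chev.Ree.B1_conj_U1 hK (inv_mem hg) hy
    simpa [mul_assoc] using h1
  obtain ⟨g, hg, hgB⟩ := SetLike.not_le_iff_exists.1 hB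
  obtain h | ⟨p, c, q, rfl⟩ := Chev.Ree.cases_cell hK g
  · exact absurd h hgB
  set w := Chev.Ree.tt hK c * Chev.Ree.nn with hw
  have hwM : w ∈ M := by
    rw [show w = (Chev.Ree.rr p)⁻¹ * (Chev.Ree.rr p * Chev.Ree.tt hK c * Chev.Ree.nn * Chev.Ree.rr q)
      * (Chev.Ree.rr q)⁻¹ by rw [hw]; group]
    exact mul_mem (mul_mem (inv_mem (hM (Chev.Ree.rr_mem_U1 hK p))) hg)
      (inv_mem (hM (Chev.Ree.rr_mem_U1 hK q)))
  refine (closure_le _).2 fun y hy => ?_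
  obtain ⟨u, hu, hy⟩ := Group.mem_conjugatesOfSet_iff.1 hy
  obtain ⟨x, rfl⟩ := isConj_iff.1 hy
  rcases Chev.Ree.cases_cell hK x with hx | ⟨p', c', q', rfl⟩
  · exact hM (Chev.Ree.B1_conj_U1 hK hx hu)
  · obtain ⟨d, hd⟩ : ∃ d, Chev.Ree.tt hK c' * Chev.Ree.nn = w * Chev.Ree.tt hK d := ⟨c'⁻¹ * c, by
      rw [hw, mul_assoc (Chev.Ree.tt hK c), Chev.Ree.nn_tt hK, ← mul_assoc, ← map_mul]
      simp⟩
    have hu' : Chev.Ree.tt hK d * (Chev.Ree.rr q' * u * (Chev.Ree.rr q')⁻¹) * (Chev.Ree.tt hK d)⁻¹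
        ∈ Chev.Ree.U1 K m :=
      Chev.Ree.B1_conj_U1 hK (Chev.Ree.tt_mem_B1 hK d)
        (mul_mem (mul_mem (Chev.Ree.rr_mem_U1 hK q') hu) (inv_mem (Chev.Ree.rr_mem_U1 hK q')))
    rw [SetLike.mem_coe, mul_assoc (Chev.Ree.rr p') _ Chev.Ree.nn, hd]
    rw [show Chev.Ree.rr p' * (w * Chev.Ree.tt hK d) * Chev.Ree.rr q' * u *
        (Chev.Ree.rr p' * (w * Chev.Ree.tt hK d) * Chev.Ree.rr q')⁻¹ =
      Chev.Ree.rr p' * (w * (Chev.Ree.tt hK d * (Chev.Ree.rr q' * u * (Chev.Ree.rr q')⁻¹) *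
        (Chev.Ree.tt hK d)⁻¹) * w⁻¹) * (Chev.Ree.rr p')⁻¹ by group]
    exact mul_mem (mul_mem (hM (Chev.Ree.rr_mem_U1 hK p'))
      (mul_mem (mul_mem hwM (hM hu')) (inv_mem hwM))) (inv_mem (hM (Chev.Ree.rr_mem_U1 hK p')))

theorem solo_isoRee {G : Type*} [Group G] [Fact (Nat.Prime 3)] (h : IsoRee G) : Solo 3 G := by
  obtain ⟨K, _, _, m, hm, hK, ⟨e⟩⟩ := h
  have := Chev.Ree.charP_three hK
  exact solo_of_mulEquiv e.symm (solo_ree hK hm)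

theorem solo_isoSuzuki {G : Type*} [Group G] [Fact (Nat.Prime 2)] (h : Cfsg.Lie.IsoSuzuki G) :
    Solo 2 G := by
  obtain ⟨F, _, _, m, hm, hF, ⟨e⟩⟩ := h
  exact solo_of_mulEquiv (e.trans (Cfsg.Agent.Suzuki.nonempty_equiv hm hF).some.symm).symm
    (solo_sz hm hF)

end Cfsg.Agent.PMinLie
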