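import Cfsg.Agent.PMinLie.Classical
import Cfsg.Agent.TitsLemma.Small

/-!
The unitary group of degree three over the field with nine elements and the prime two: the stabiliser of a
point and the monomial group.
-/

set_option autoImplicit false
set_option maxRecDepth 100000
set_option linter.unusedSectionVars false

namespace Cfsg.Agent.PMinLie.UThree

open Subgroup Matrix Cfsg.Agent.U33

/-- The action. -/
noncomputable def rep : SU9 →* ((Fin 3 → F9) ≃ₗ[F9] (Fin 3 → F9)) :=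
  Matrix.SpecialLinearGroup.toLin'.comp (Cfsg.SU 3 F9 3).subtype

theorem rep_apply (g : SU9) (v : Fin 3 → F9) : rep g v = g.1.1 *ᵥ v := rfl

/-- The fourth roots of unity. -/
def r4 (i : Fin 4) : F9 := ![1, ⟨0, 1⟩, -1, ⟨0, 2⟩] i

/-- The parameters of the Sylow subgroup. -/
abbrev Idx := Fin 4 × Fin 4 × Bool

/-- The monomial matrices. -/
def mon : Idx → Matrix (Fin 3) (Fin 3) F9
  | (a, b, false) => !![r4 a, 0, 0; 0, r4 b, 0; 0, 0, r4 (-(a + b))]
  | (a, b, true) => !![0, r4 a, 0; r4 b, 0, 0; 0, 0, r4 (2 - (a + b))]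

/-- The multiplication of the parameters. -/
def op : Idx → Idx → Idx
  | (a, b, false), (c, d, s) => (a + c, b + d, s)
  | (a, b, true), (c, d, s) => (a + d, b + c, !s)

theorem r4_mul : ∀ i j : Fin 4, r4 i * r4 j = r4 (i + j) := by decide +kernel

theorem r4_ne_zero : ∀ i : Fin 4, r4 i ≠ 0 := by decide +kernel

theorem r4_inj : ∀ i j : Fin 4, r4 i = r4 j → i = j := by decide +kernel

theorem third : ∀ a b c d : Fin 4, -(a + b) + -(c + d) = -(a + c + (b + d)) ∧
    -(a + b) + (2 - (c + d)) = 2 - (a + c + (b + d)) ∧ 2 - (a + b) + -(c + d) = 2 - (a + d + (b + c)) ∧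
    2 - (a + b) + (2 - (c + d)) = -(a + d + (b + c)) := by decide +kernel

theorem mon_mul : ∀ x y : Idx, mon x * mon y = mon (op x y) := by
  rintro ⟨a, b, _ | _⟩ ⟨c, d, _ | _⟩ <;> obtain ⟨e1, e2, e3, e4⟩ := third a b c d <;>
    ext i j <;> fin_cases i <;> fin_cases j <;>
    simp only [mon, op, Matrix.mul_apply, Fin.sum_univ_three, Matrix.of_apply, Matrix.cons_val, Matrix.cons_val_zero, Matrix.cons_val_one, mul_zero, zero_mul, add_zero, zero_add, r4_mul, Fin.isValue, Fin.zero_eta, Fin.mk_one, Fin.reduceFinMk, Bool.not_false, Bool.not_true, e1, e2, e3, e4]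

theorem mon_det : ∀ x : Idx, (mon x).det = 1 := by decide +kernel

theorem mon_form : ∀ (x : Idx) (i j : Fin 3),
    form (fun k => mon x k i) (fun k => mon x k j) = if i = j then 1 else 0 := by decide +kernel

theorem mon_one : mon (0, 0, false) = 1 := by decide +kernel

theorem op_inv : ∀ x : Idx, ∃ y : Idx, op x y = (0, 0, false) := by decide +kernel

theorem mon_inv (x : Idx) : ∃ y : Idx, mon x * mon y = 1 := by
  obtain ⟨y, hy⟩ := op_inv x
  exact ⟨y, by rw [mon_mul, hy, mon_one]⟩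

theorem mon_injective : ∀ x y : Idx, mon x = mon y → x = y := by
  rintro ⟨a, b, _ | _⟩ ⟨c, d, _ | _⟩ h <;>
    have h00 := congrFun₂ h 0 0 <;> have h01 := congrFun₂ h 0 1 <;>
    have h11 := congrFun₂ h 1 1 <;> have h10 := congrFun₂ h 1 0 <;>
    simp [mon, r4_ne_zero, (r4_ne_zero _).symm] at h00 h01 h11 h10
  · rw [r4_inj _ _ h00, r4_inj _ _ h11]
  · rw [r4_inj _ _ h01, r4_inj _ _ h10]

theorem diag_apply (a b : Fin 4) (v : Fin 3 → F9) :
    mon (a, b, false) *ᵥ v = ![r4 a * v 0, r4 b * v 1, r4 (-(a + b)) * v 2] := by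
  funext i
  fin_cases i <;> simp [mon, Matrix.mulVec, dotProduct, Fin.sum_univ_three]

theorem swap_apply (a b : Fin 4) (v : Fin 3 → F9) :
    mon (a, b, true) *ᵥ v = ![r4 a * v 1, r4 b * v 0, r4 (2 - (a + b)) * v 2] := by
  funext i
  fin_cases i <;> simp [mon, Matrix.mulVec, dotProduct, Fin.sum_univ_three]

theorem sq_diag : ∀ x : Idx, (op x x).2.2 = false := by decide +kernel

/-- The elements of the Sylow subgroup. -/
def el (x : Idx) : SU9 := mk (mon x) (mon_det x) (mon_form x)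

/-- The Sylow subgroup. -/
def U : Subgroup SU9 where
  carrier := Set.range el
  one_mem' := ⟨(0, 0, false), ext' mon_one⟩
  mul_mem' := by
    rintro _ _ ⟨x, rfl⟩ ⟨y, rfl⟩
    exact ⟨op x y, ext' (mon_mul x y).symm⟩
  inv_mem' := by
    rintro _ ⟨x, rfl⟩
    obtain ⟨y, hy⟩ := mon_inv x
    exact ⟨y, (inv_eq_of_mul_eq_one_right (ext' hy : el x * el y = 1)).symm⟩

theorem card_U : Nat.card U = 32 := by
  have hinj : Function.Injective el := fun x y h =>
    mon_injective x y (congrArg (fun g : SU9 => g.1.1) h)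
  rw [show Nat.card U = Nat.card (Set.range el) from rfl, ← Nat.card_congr (Equiv.ofInjective el hinj)]
  simp

/-- The vectors which are common eigenvectors of the `k`-th powers. -/
def eigSet (k : ℕ) : Set (Fin 3 → F9) := {v | ∀ u ∈ U, ∃ c : F9, rep (u ^ k) v = c • v}

/-- The point. -/
def S₁ : Set (Fin 3 → F9) := {v | v 0 = 0 ∧ v 1 = 0}

/-- The coordinate axes. -/
def S₂ : Set (Fin 3 → F9) := {v | (v 0 = 0 ∨ v 1 = 0) ∧ (v 0 = 0 ∨ v 2 = 0) ∧ (v 1 = 0 ∨ v 2 = 0)}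

theorem scal {p q x y d : F9} (h : p * x = d * x) (h' : q * y = d * y) (hpq : p ≠ q) : x = 0 ∨ y = 0 := by
  by_contra hne
  obtain ⟨hx, hy⟩ := not_or.1 hne
  exact hpq ((mul_right_cancel₀ hx h).trans (mul_right_cancel₀ hy h').symm)

theorem eig_one (a b c : F9) (h : ∃ d : F9, mon (1, 0, false) *ᵥ ![a, b, c] = d • ![a, b, c])
    (h' : ∃ d : F9, mon (0, 0, true) *ᵥ ![a, b, c] = d • ![a, b, c]) : a = 0 ∧ b = 0 := by
  obtain ⟨d, hd⟩ := h
  obtain ⟨e, he⟩ := h'
  rw [diag_apply] at hd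
  rw [swap_apply] at he
  have e0 : r4 0 * b = e * a := by simpa using congrFun he 0
  have e1 : r4 0 * a = e * b := by simpa using congrFun he 1
  rcases scal (p := r4 1) (q := r4 0) (x := a) (y := b) (by simpa using congrFun hd 0)
    (by simpa using congrFun hd 1) (by decide +kernel) with rfl | rfl
  · simp only [mul_zero, mul_eq_zero, r4_ne_zero, false_or] at e0
    exact ⟨rfl, e0⟩
  · simp only [mul_zero, mul_eq_zero, r4_ne_zero, false_or] at e1
    exact ⟨e1, rfl⟩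

theorem eig_two (a b c : F9)
    (h : ∃ d : F9, (mon (1, 0, false) * mon (1, 0, false)) *ᵥ ![a, b, c] = d • ![a, b, c])
    (h' : ∃ d : F9, (mon (0, 1, false) * mon (0, 1, false)) *ᵥ ![a, b, c] = d • ![a, b, c]) :
    (a = 0 ∨ b = 0) ∧ (a = 0 ∨ c = 0) ∧ (b = 0 ∨ c = 0) := by
  obtain ⟨d, hd⟩ := h
  obtain ⟨e, he⟩ := h'
  rw [mon_mul, show op (1, 0, false) (1, 0, false) = (2, 0, false) from rfl, diag_apply] at hd
  rw [mon_mul, show op (0, 1, false) (0, 1, false) = (0, 2, false) from rfl, diag_apply] at he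
  exact ⟨scal (p := r4 2) (q := r4 0) (by simpa using congrFun hd 0) (by simpa using congrFun hd 1)
      (by decide +kernel),
    scal (p := r4 0) (q := r4 (-(0 + 2))) (by simpa using congrFun he 0) (by simpa using congrFun he 2)
      (by decide +kernel),
    scal (p := r4 0) (q := r4 (-(2 + 0))) (by simpa using congrFun hd 1) (by simpa using congrFun hd 2)
      (by decide +kernel)⟩

theorem eig_one' : ∀ (x : Idx) (c : F9), ∃ d : F9, mon x *ᵥ ![0, 0, c] = d • ![0, 0, c] := by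
  rintro ⟨a, b, _ | _⟩ c
  · exact ⟨r4 (-(a + b)), by rw [diag_apply]; funext i; fin_cases i <;> simp⟩
  · exact ⟨r4 (2 - (a + b)), by rw [swap_apply]; funext i; fin_cases i <;> simp⟩

theorem eig_two' (x : Idx) (c : F9) :
    (∃ d : F9, (mon x * mon x) *ᵥ ![c, 0, 0] = d • ![c, 0, 0]) ∧
    (∃ d : F9, (mon x * mon x) *ᵥ ![0, c, 0] = d • ![0, c, 0]) ∧
    (∃ d : F9, (mon x * mon x) *ᵥ ![0, 0, c] = d • ![0, 0, c]) := by
  obtain ⟨a, b, e⟩ : ∃ a b, op x x = (a, b, false) :=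
    ⟨(op x x).1, (op x x).2.1, by rw [← sq_diag x]⟩
  rw [mon_mul, e, diag_apply, diag_apply, diag_apply]
  refine ⟨⟨r4 a, ?_⟩, ⟨r4 b, ?_⟩, ⟨r4 (-(a + b)), ?_⟩⟩ <;> funext i <;> fin_cases i <;> simp

theorem eta3 (v : Fin 3 → F9) : v = ![v 0, v 1, v 2] := by
  funext i
  fin_cases i <;> rfl

theorem mem_S₁ {v : Fin 3 → F9} (hv : v ∈ S₁) : v = ![0, 0, v 2] := by
  conv_lhs => rw [eta3 v, hv.1, hv.2]

theorem mem_S₂ {v : Fin 3 → F9} (hv : v ∈ S₂) :
    v = ![v 0, 0, 0] ∨ v = ![0, v 1, 0] ∨ v = ![0, 0, v 2] := by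
  obtain ⟨h01, h02, h12⟩ := hv
  by_cases h0 : v 0 = 0
  · by_cases h1 : v 1 = 0
    · exact Or.inr (Or.inr (mem_S₁ ⟨h0, h1⟩))
    · exact Or.inr (Or.inl (by conv_lhs => rw [eta3 v, h0, h12.resolve_left h1]))
  · exact Or.inl (by conv_lhs => rw [eta3 v, h01.resolve_left h0, h02.resolve_left h0])

theorem eigSet_one : eigSet 1 = S₁ := by
  refine Set.ext fun v => ⟨fun hv => ?_, fun hv => ?_⟩
  · have h1 := hv _ (⟨(1, 0, false), rfl⟩ : el (1, 0, false) ∈ U)
    have h2 := hv _ (⟨(0, 0, true), rfl⟩ : el (0, 0, true) ∈ U)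
    rw [pow_one, rep_apply, eta3 v] at h1 h2
    exact eig_one _ _ _ h1 h2
  · rintro _ ⟨x, rfl⟩
    rw [pow_one, rep_apply, mem_S₁ hv]
    exact eig_one' x _

theorem eigSet_two : eigSet 2 = S₂ := by
  refine Set.ext fun v => ⟨fun hv => ?_, fun hv => ?_⟩
  · have h1 := hv _ (⟨(1, 0, false), rfl⟩ : el (1, 0, false) ∈ U)
    have h2 := hv _ (⟨(0, 1, false), rfl⟩ : el (0, 1, false) ∈ U)
    rw [pow_two, rep_apply, eta3 v] at h1 h2
    exact eig_two _ _ _ h1 h2
  · rintro _ ⟨x, rfl⟩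
    rw [pow_two, rep_apply]
    rcases mem_S₂ hv with h | h | h <;> rw [h]
    · exact (eig_two' x _).1
    · exact (eig_two' x _).2.1
    · exact (eig_two' x _).2.2

theorem U_le₁ : U ≤ setStab rep S₁ := by
  rintro _ ⟨⟨a, b, _ | _⟩, rfl⟩ <;> refine mem_setStab_of_subset fun v hv => ?_
  · show (mon (a, b, false) *ᵥ v) 0 = 0 ∧ (mon (a, b, false) *ᵥ v) 1 = 0
    rw [diag_apply]
    simp [hv.1, hv.2]
  · show (mon (a, b, true) *ᵥ v) 0 = 0 ∧ (mon (a, b, true) *ᵥ v) 1 = 0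
    rw [swap_apply]
    simp [hv.1, hv.2]

theorem U_le₂ : U ≤ setStab rep S₂ := by
  rintro _ ⟨⟨a, b, _ | _⟩, rfl⟩ <;> refine mem_setStab_of_subset fun v hv => ?_ <;>
    simp only [S₂, Set.mem_setOf_eq, rep_apply] at hv ⊢
  · rw [show (el (a, b, false)).1.1 = mon (a, b, false) from rfl, diag_apply]
    simpa [r4_ne_zero] using hv
  · rw [show (el (a, b, true)).1.1 = mon (a, b, true) from rfl, swap_apply]
    simp [r4_ne_zero]
    tauto

/-- A cyclic permutation. -/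
def Mc : Matrix (Fin 3) (Fin 3) F9 := !![0, 0, 1; 1, 0, 0; 0, 1, 0]

/-- An element fixing the point. -/
def Mg : Matrix (Fin 3) (Fin 3) F9 := !![⟨1, 1⟩, ⟨1, 1⟩, 0; -⟨1, 2⟩, ⟨1, 2⟩, 0; 0, 0, 1]

theorem Mc_det : Mc.det = 1 := by decide +kernel

theorem Mg_det : Mg.det = 1 := by decide +kernel

theorem Mc_form : ∀ i j : Fin 3, form (fun k => Mc k i) (fun k => Mc k j) = if i = j then 1 else 0 := by
  decide +kernel

theorem Mg_form : ∀ i j : Fin 3, form (fun k => Mg k i) (fun k => Mg k j) = if i = j then 1 else 0 := by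
  decide +kernel

theorem orders : Mc * Mc * Mc = 1 ∧ Mc ≠ 1 ∧ (Mg * Mc) ^ 7 = 1 ∧ Mg * Mc ≠ 1 := by decide +kernel

theorem cyc_apply (v : Fin 3 → F9) : Mc *ᵥ v = ![v 2, v 0, v 1] := by
  funext i
  fin_cases i <;> simp [Mc, Matrix.mulVec, dotProduct, Fin.sum_univ_three]

theorem keep_g : ∀ c : F9, (Mg *ᵥ ![0, 0, c]) 0 = 0 ∧ (Mg *ᵥ ![0, 0, c]) 1 = 0 := by decide +kernel

/-- The cyclic permutation. -/
def cyc : SU9 := mk Mc Mc_det Mc_form

/-- The element fixing the point. -/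
def gel : SU9 := mk Mg Mg_det Mg_form

theorem cyc_mem : cyc ∈ setStab rep S₂ := mem_setStab_of_subset fun v hv => by
  simp only [S₂, Set.mem_setOf_eq] at hv ⊢
  rw [show rep cyc v = Mc *ᵥ v from rfl, cyc_apply]
  simp
  tauto

theorem gel_mem : gel ∈ setStab rep S₁ := mem_setStab_of_subset fun v hv => by
  rw [rep_apply, mem_S₁ hv]
  exact keep_g _

theorem cyc_not_mem : cyc ∉ setStab rep S₁ := fun h => by
  have h1 := (h ![0, 0, 1]).2 ⟨rfl, rfl⟩
  have h2 : (Mc *ᵥ ![0, 0, 1]) 0 = 0 := h1.1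
  revert h2
  decide +kernel

theorem gel_not_mem : gel ∉ setStab rep S₂ := fun h => by
  have h1 := (h ![1, 0, 0]).2 ⟨Or.inr rfl, Or.inr rfl, Or.inr rfl⟩
  have h2 : (Mg *ᵥ ![1, 0, 0]) 0 = 0 ∨ (Mg *ᵥ ![1, 0, 0]) 1 = 0 := h1.1
  revert h2
  decide +kernel

theorem eq_top {M : Subgroup SU9} (h1 : setStab rep S₁ ≤ M) (h2 : setStab rep S₂ ≤ M) : M = ⊤ := by
  by_contra htop
  have hs : IsSimpleGroup SU9 := U33.isSimpleGroup_SU
  have h32 : 32 ∣ Nat.card M := card_U ▸ card_dvd_of_le (U_le₁.trans h1)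
  have h3 : 3 ∣ Nat.card M := by
    have e : cyc ^ 3 = 1 := ext' (show Mc ^ 3 = 1 by rw [pow_succ, pow_two]; exact orders.1)
    have hne : cyc ≠ 1 := fun h => orders.2.1 (congrArg (fun g : SU9 => g.1.1) h)
    exact (dvd_of_eq (orderOf_eq_prime (hp := ⟨Nat.prime_three⟩) e hne).symm).trans
      (M.orderOf_dvd_natCard (h2 cyc_mem))
  have h7 : 7 ∣ Nat.card M := by
    have e : (gel * cyc) ^ 7 = 1 := ext' (show (Mg * Mc) ^ 7 = 1 from orders.2.2.1)
    have hne : gel * cyc ≠ 1 := fun h => orders.2.2.2 (congrArg (fun g : SU9 => g.1.1) h)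
    exact (dvd_of_eq (orderOf_eq_prime (hp := ⟨by norm_num⟩) e hne).symm).trans
      <| M.orderOf_dvd_natCard (M.mul_mem (h1 gel_mem) (h2 cyc_mem))
  have hd : 672 ∣ Nat.card M := by
    obtain ⟨c, hc⟩ := h32
    omega
  obtain ⟨c, hc⟩ := hd
  have hi := M.card_mul_index
  rw [U33.card_SU, hc] at hi
  have hi9 : M.index ∣ 9 := ⟨c, by nlinarith⟩
  have hf := TitsLemma.card_dvd_factorial hs htop
  rw [U33.card_SU] at hf
  obtain ⟨g, hg⟩ := TitsLemma.exists_orderOf_eight_U33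
  obtain ⟨i, hile, hieq⟩ := (Nat.dvd_prime_pow Nat.prime_three).1 (show M.index ∣ 3 ^ 2 from hi9)
  interval_cases i
  · exact htop (index_eq_one.1 hieq)
  · rw [hieq] at hf; exact absurd hf (by norm_num [Nat.factorial])
  classical
  have := Fintype.ofFinite (SU9 ⧸ M)
  let φ := MulAction.toPermHom SU9 (SU9 ⧸ M)
  have hinj : Function.Injective φ := by
    rw [← MonoidHom.ker_eq_bot_iff, ← normalCore_eq_ker]
    exact (hs.eq_bot_or_eq_top_of_normal _ (normalCore_normal M)).resolve_right fun h =>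
      htop (top_unique (h ▸ normalCore_le M))
  have h9 : Fintype.card (SU9 ⧸ M) = 9 := by
    rw [← Nat.card_eq_fintype_card]
    exact hieq
  have hsign := TitsLemma.sign_of_orderOf_eight h9 ((orderOf_injective φ hinj g).trans hg)
  rcases hs.eq_bot_or_eq_top_of_normal _ (MonoidHom.normal_ker (Equiv.Perm.sign.comp φ)) with h | h
  · have h4 := Nat.card_le_card_of_injective _ ((MonoidHom.ker_eq_bot_iff _).1 h)
    rw [U33.card_SU, Nat.card_eq_fintype_card, Fintype.card_units_int] at h4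
    omega
  · have h4 : Equiv.Perm.sign (φ g) = 1 := MonoidHom.mem_ker.1
      (show g ∈ (Equiv.Perm.sign.comp φ).ker from h ▸ mem_top g)
    rw [hsign] at h4
    exact absurd h4 (by decide)

theorem eig_image {φ : MulAut SU9} {f : (Fin 3 → F9) ≃+ (Fin 3 → F9)} {σ : F9 ≃+* F9}
    (hf : ∀ (c : F9) v, f (c • v) = σ c • f v) (h : Twines rep rep φ f) (hU : U.map φ.toMonoidHom = U)
    (k : ℕ) : f '' eigSet k = eigSet k := by
  ext v
  constructor
  · rintro ⟨w, hw, rfl⟩ u hu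
    rw [← hU] at hu
    obtain ⟨u', hu', rfl⟩ := hu
    obtain ⟨c, hc⟩ := hw u' hu'
    exact ⟨σ c, by rw [← map_pow, show rep (φ.toMonoidHom (u' ^ k)) (f w) = f (rep (u' ^ k) w) from h _ w,
      hc, hf]⟩
  · intro hv
    obtain ⟨w, rfl⟩ := f.surjective v
    refine ⟨w, fun u hu => ?_, rfl⟩
    obtain ⟨c, hc⟩ := hv _ (hU.le ⟨u, hu, rfl⟩)
    refine ⟨σ.symm c, f.injective ?_⟩
    rw [hf, RingEquiv.apply_symm_apply, ← hc, ← map_pow]
    exact (h (u ^ k) w).symm

theorem pair_U33 [Fact (Nat.Prime 2)] : Pair 2 (Cfsg.PSU 3 F9 3) := by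
  have := Fact.mk Nat.prime_three
  have : CharP F9 3 := charP_of_card_eq_prime_pow (f := 2) (by rw [F9.card_eq]; norm_num)
  have hF : Fintype.card F9 = 3 ^ 2 := by rw [F9.card_eq]; norm_num
  obtain ⟨σ, hu⟩ := AutPSU.exists_uctx hF
  have : IsSimpleGroup (Cfsg.PSU 3 F9 3) := Cfsg.Agent.S0283.result hF 3 le_rfl fun h => by omega
  have hidx : ¬ 2 ∣ U.index := by
    have h := Subgroup.card_mul_index U
    rw [card_U, U33.card_SU] at h
    omega
  let Q : Sylow 2 SU9 := (IsPGroup.of_card (card_U.trans (by norm_num : (32 : ℕ) = 2 ^ 5))).toSylow hidx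
  have hker : (AutPSU.mkU (n := 3) (F := F9) (q := 3)).ker = ⊥ :=
    (QuotientGroup.ker_mk' _).trans U33.center_SU
  refine pair_of_one (Q.mapSurjective AutPSU.mkU_surjective) (R₁ := (setStab rep S₁).map AutPSU.mkU)
    (R₂ := (setStab rep S₂).map AutPSU.mkU) ?_
  rw [Sylow.coe_mapSurjective]
  refine pairAt_map _ AutPSU.mkU_surjective (hker.le.trans bot_le) Q (fun h => ?_) U_le₁ U_le₂
    (hker.le.trans bot_le) (hker.le.trans bot_le) (fun h => cyc_not_mem (h ▸ mem_top _))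
    (fun h => gel_not_mem (h ▸ mem_top _))
    (fun M h1 h2 => by rw [eq_top h1 h2]; exact map_top_of_surjective _ AutPSU.mkU_surjective) fun α => ?_
  · have h2 : Nat.card (U.map (AutPSU.mkU (n := 3) (F := F9) (q := 3))) = 32 :=
      (card_map_of_injective ((MonoidHom.ker_eq_bot_iff _).1 hker)).trans card_U
    rw [show U.map AutPSU.mkU = ⊥ from h, card_bot] at h2
    omega
  obtain ⟨g, τ, rfl⟩ := AutPSU.exists_decomp hu 3 le_rfl (fun h => by omega) α
  have htw : Twines rep rep (AutPSU.conjSu g * AutPSU.fieldSu τ) (semiMap g.1 τ) := fun s v => by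
    rw [rep_apply, rep_apply, MulAut.mul_apply]
    exact semiMap_twine g.1 τ _ v
  refine ⟨AutPSU.conjSu g * AutPSU.fieldSu τ, fun s => rfl, fun hfix => ?_⟩
  have hf : ∀ (c : F9) v, semiMap g.1 τ (c • v) = τ c • semiMap g.1 τ v := fun c v => by
    show g.1.1 *ᵥ (fun i => τ (c * v i)) = τ c • (g.1.1 *ᵥ fun i => τ (v i))
    rw [← Matrix.mulVec_smul]
    congr 1
    funext i
    exact map_mul τ _ _
  have e1 := eig_image hf htw hfix 1
  have e2 := eig_image hf htw hfix 2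
  rw [eigSet_one] at e1
  rw [eigSet_two] at e2
  exact ⟨(htw.map_setStab _).trans (by rw [e1]), (htw.map_setStab _).trans (by rw [e2])⟩

end Cfsg.Agent.PMinLie.UThree
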